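import Cfsg.Agent.Lib.Classical.WreathMax.Climb

/-!
# Overgroups of the wreath stabiliser: the induction on the number of factors
-/

set_option autoImplicit false
set_option linter.unusedSectionVars false

open Matrix Module
open scoped Kronecker

namespace CfsgLib.Classical.WreathMax

variable {F : Type*} [Field F] {κ : Type} [Fintype κ] [DecidableEq κ] {m : ℕ}

theorem mem_wreathT_of_card_le_one (hcard : Fintype.card κ ≤ 1) (g : GL (κ → Fin m) F)
    (hg : det g.1 = 1) : g ∈ wreathT F κ m := by
  rcases isEmpty_or_nonempty κ with hκ | hκ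
  · refine ⟨1, fun i => isEmptyElim i, ?_⟩
    haveI : Unique (κ → Fin m) := Pi.uniqueOfIsEmpty _
    rw [Matrix.det_unique] at hg
    rw [map_one, mul_one]
    refine Units.ext ?_
    ext x y
    rw [tensU_coe, tens_apply, Finset.univ_eq_empty, Finset.prod_empty, Unique.eq_default x, Unique.eq_default y, hg]
  · obtain ⟨o⟩ := hκ
    haveI : Subsingleton κ := Fintype.card_le_one_iff_subsingleton.1 hcard
    refine op_mem_wreathT o (A := Matrix.of fun a b => g.1 (fun _ => a) (fun _ => b)) ?_
    ext x y
    rw [op_apply, if_pos fun l hl => absurd (Subsingleton.elim l o) hl, Matrix.of_apply,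
      show (fun _ : κ => x o) = x from funext fun l => by rw [Subsingleton.elim l o],
      show (fun _ : κ => y o) = y from funext fun l => by rw [Subsingleton.elim l o]]

theorem liftRest_tens (j : κ) (C : Rest j → Matrix (Fin m) (Fin m) F) :
    liftRest j (tens C) = tens (fun l => if h : l = j then 1 else C ⟨l, h⟩) := by
  refine (split j).injective ?_
  rw [split_liftRest, split_tens]
  congr 2
  · simp
  · funext l
    simp [l.2]

theorem liftRest_permM (j : κ) (σ : Equiv.Perm (Rest j)) :
    liftRest (F := F) (m := m) j (permM σ) = permM (Equiv.Perm.ofSubtype σ) := by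
  refine (split j).injective ?_
  rw [split_liftRest]
  ext ⟨a, u⟩ ⟨b, v⟩
  rw [Matrix.kroneckerMap_apply, split_apply, permM_apply, permM_apply, Matrix.one_apply]
  have hj : Equiv.Perm.ofSubtype σ j = j := Equiv.Perm.ofSubtype_apply_of_not_mem σ (fun h => h rfl)
  have hl : ∀ l : Rest j, Equiv.Perm.ofSubtype σ l.1 = (σ l).1 := fun l => Equiv.Perm.ofSubtype_apply_coe σ l
  have hsplit : ((Equiv.funSplitAt j (Fin m)).symm (b, v) =
      (Equiv.funSplitAt j (Fin m)).symm (a, u) ∘ ⇑(Equiv.Perm.ofSubtype σ)) ↔ a = b ∧ v = u ∘ ⇑σ := by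
    constructor
    · intro h
      refine ⟨?_, funext fun l => ?_⟩
      · have := congrFun h j
        simp only [Function.comp_apply, hj] at this
        simpa [Equiv.funSplitAt, Equiv.piSplitAt] using this.symm
      · have := congrFun h l.1
        simp only [Function.comp_apply, hl] at this
        simpa [Equiv.funSplitAt, Equiv.piSplitAt, l.2, (σ l).2] using this
    · rintro ⟨rfl, rfl⟩
      funext l
      by_cases h : l = j
      · subst h
        simp [hj, Equiv.funSplitAt, Equiv.piSplitAt]
      · have := hl ⟨l, h⟩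
        simp only at this
        simp [this, Equiv.funSplitAt, Equiv.piSplitAt, h, (σ ⟨l, h⟩).2]
  by_cases h1 : a = b
  · by_cases h2 : v = u ∘ ⇑σ
    · rw [if_pos h1, if_pos h2, if_pos (hsplit.2 ⟨h1, h2⟩), mul_one]
    · rw [if_neg h2, if_neg fun e => h2 (hsplit.1 e).2, mul_zero]
  · rw [if_neg h1, if_neg fun e => h1 (hsplit.1 e).1, zero_mul]

theorem liftRest_mem_wreathT (j : κ) {g : GL (Rest j → Fin m) F} (hg : g ∈ wreathT F (Rest j) m) :
    Units.map (liftRest j) g ∈ wreathT F κ m := by
  obtain ⟨σ, C, rfl⟩ := hg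
  refine ⟨Equiv.Perm.ofSubtype σ, fun l => if h : l = j then 1 else C ⟨l, h⟩, Units.ext ?_⟩
  rw [Units.coe_map, Units.val_mul, Units.val_mul, map_mul, tensU_coe, tensU_coe, permU_coe, permU_coe, liftRest_tens,
    liftRest_permM]
  congr 2
  funext l
  split_ifs <;> rfl

theorem det_liftRest (j : κ) (B : TMat F (Rest j) m) : det (liftRest j B) = det B ^ m := by
  have h : det (split j (liftRest j B)) = det (liftRest j B) := Matrix.det_reindex_self _ _
  rw [← h, split_liftRest, Matrix.det_kronecker, det_one, one_pow, one_mul, Fintype.card_fin]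

/-- The overgroup on the factors other than `j`. -/
def restGroup (j : κ) (M : Subgroup (GL (κ → Fin m) F)) : Subgroup (GL (Rest j → Fin m) F) :=
  M.comap (Units.map (liftRest j)) ⊓ Matrix.GeneralLinearGroup.det.ker

theorem over_restGroup {M : Subgroup (GL (κ → Fin m) F)} (hM : Over M) (j : κ) : Over (restGroup j M) := by
  refine ⟨fun g hg => ?_, fun g hg hd => ⟨hM.le _ (liftRest_mem_wreathT j hg) ?_, ?_⟩⟩
  · have := congrArg Units.val (MonoidHom.mem_ker.1 hg.2)
    simpa using this
  · rw [Units.coe_map, det_liftRest, hd, one_pow]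
  · exact MonoidHom.mem_ker.2 (Units.ext (by simpa using hd))

variable [Fintype F]

/-- Centralising a factor gives a slice-fixing element, by induction. -/
theorem fixSlice_of_centFac {M : Subgroup (GL (κ → Fin m) F)} (h3 : 3 ≤ m) (hc : CentFac M)
    (IH : ∀ j : κ, restGroup j M ≤ wreathT F (Rest j) m ∨ Full (restGroup j M)) : FixSlice M := by
  classical
  obtain ⟨j, B, hB, hBM, hBT⟩ := hc
  have hmem : B ∈ restGroup j M := ⟨hBM, MonoidHom.mem_ker.2 (Units.ext (by simpa using hB))⟩
  have hnot : ¬ restGroup j M ≤ wreathT F (Rest j) m := fun h => hBT (liftRest_mem_wreathT j (h hmem))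
  have hfull := (IH j).resolve_left hnot
  have hcard : 1 < Fintype.card (Rest j) := by
    by_contra h
    exact hBT (liftRest_mem_wreathT j (mem_wreathT_of_card_le_one (by omega) B hB))
  obtain ⟨l, o, hlo⟩ := Fintype.one_lt_card_iff.1 hcard
  set z : Fin m := ⟨0, by omega⟩
  set w : Fin m := ⟨1, by omega⟩
  have hzw : z ≠ w := by simp [z, w, Fin.ext_iff]
  set x : Rest j → Fin m := fun _ => z
  set y : Rest j → Fin m := fun a => if a = l ∨ a = o then w else z
  have hxy : x ≠ y := fun e => hzw (by simpa [x, y] using congrFun e l)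
  set T := SpecialLinearGroup.toGL (SpecialLinearGroup.transvection hxy (1 : F))
  have hTd : det T.1 = 1 := (SpecialLinearGroup.transvection hxy (1 : F)).2
  set h := Units.map (liftRest j) T
  have hh : h ∈ M := (hfull T hTd).1
  have hfix : ∀ γ, h.1 * op l.1 (vecMulVec (Pi.single z 1) γ) = op l.1 (vecMulVec (Pi.single z 1) γ) := fun γ => by
    rw [← liftRest_op, Units.coe_map, ← map_mul]
    congr 1
    show (SpecialLinearGroup.transvection hxy (1 : F) : TMat F (Rest j) m) * _ = _
    rw [SpecialLinearGroup.transvection_coe, Matrix.add_mul, Matrix.one_mul, add_eq_left]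
    ext a c
    rw [Matrix.mul_apply, Finset.sum_eq_single y, Matrix.single_apply, op_apply, vecMulVec_apply,
      Pi.single_eq_of_ne (show y l ≠ z by simp [y, hzw.symm])]
    · simp
    · intro b _ hb
      rw [Matrix.single_apply, if_neg fun e => hb e.2.symm, zero_mul]
    · simp
  refine ⟨h, hh, fun hW => ?_, l.1, Pi.single z 1, by simp, hfix⟩
  obtain ⟨A, hA⟩ := op_of_fix h3 hW (by simp) hfix
  set x' := (Equiv.funSplitAt j (Fin m)).symm (z, x)
  set y' := (Equiv.funSplitAt j (Fin m)).symm (z, y)
  have h1 := congrFun (congrFun (congrArg (split j) hA) (z, x)) (z, y)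
  have hhT : h.1 = liftRest j T.1 := rfl
  rw [hhT, split_liftRest, Matrix.kroneckerMap_apply, Matrix.one_apply_eq, one_mul, split_apply, op_apply,
    if_neg fun hall => hzw (by
      have := hall o.1 (Subtype.coe_injective.ne hlo.symm)
      simpa [Equiv.funSplitAt, Equiv.piSplitAt, o.2, x, y] using this)] at h1
  rw [show T.1 = (1 : TMat F (Rest j) m) + Matrix.single x y 1 from SpecialLinearGroup.transvection_coe hxy 1,
    Matrix.add_apply, Matrix.one_apply_ne hxy, zero_add, Matrix.single_apply, if_pos ⟨rfl, rfl⟩] at h1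
  exact one_ne_zero h1

/-- The dichotomy, given the case without fusion. -/
theorem dichotomy_of_base (h3 : 3 ≤ m)
    (base : ∀ (κ' : Type) [Fintype κ'] [DecidableEq κ'] (M : Subgroup (GL (κ' → Fin m) F)),
      2 ≤ Fintype.card κ' → Over M → NoFuse M → M ≤ wreathT F κ' m)
    {M : Subgroup (GL (κ → Fin m) F)} (hM : Over M) : M ≤ wreathT F κ m ∨ Full M := by
  classical
  obtain ⟨n, hn⟩ : ∃ n, Fintype.card κ = n := ⟨_, rfl⟩
  induction n using Nat.strong_induction_on generalizing κ with
  | _ n ih =>
    by_cases hsmall : Fintype.card κ ≤ 1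
    · exact Or.inl fun g hg => mem_wreathT_of_card_le_one hsmall g (hM.det_one g hg)
    by_cases hNF : NoFuse M
    · exact Or.inl (base κ M (by omega) hM hNF)
    refine Or.inr (full_of_fixSlice hM h3 ?_)
    rcases fusion hM h3 hNF with h | h
    · exact h
    · exact fixSlice_of_centFac h3 h fun j => by
        refine ih (Fintype.card (Rest j)) ?_ (over_restGroup hM j) rfl
        rw [← hn]
        exact Fintype.card_subtype_lt (x := j) (by simp)

theorem dichotomy (hex : 4 ≤ m ∨ (3 ≤ m ∧ 3 ≤ Fintype.card F)) {M : Subgroup (GL (κ → Fin m) F)} (hM : Over M) :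
    M ≤ wreathT F κ m ∨ Full M :=
  dichotomy_of_base (by omega) (fun _ _ _ _ _ hM' hNF => le_of_noFuse hM' hNF hex) hM

end CfsgLib.Classical.WreathMax
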