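import Mathlib
import Cfsg.Agent.Lib.Classical.TensorMax.Basic

/-!
# An overgroup of `GL_m ⊗ 1` containing an element that fixes one slice: its root factors
-/

set_option autoImplicit false
set_option linter.unusedSectionVars false

open Matrix
open scoped Kronecker
open CfsgLib.Classical.TensorMax (exists_dot exists_dot_one exists_perp_two exists_perp_notMem)

namespace CfsgLib.Classical.WreathMax

section Has

variable {F : Type*} [Field F] {J : Type} [Fintype J] [DecidableEq J] {M : Subgroup (GL J F)}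

/-- The matrix `1 + A` belongs to `M`. -/
def HasM (M : Subgroup (GL J F)) (A : Matrix J J F) : Prop := ∃ g ∈ M, (g : Matrix J J F) = 1 + A

theorem HasM.zero : HasM M (0 : Matrix J J F) := ⟨1, M.one_mem, by simp⟩

theorem HasM.neg {A : Matrix J J F} (h : HasM M A) (h0 : A * A = 0) : HasM M (-A) := by
  obtain ⟨g, hg, e⟩ := h
  refine ⟨g⁻¹, inv_mem hg, ?_⟩
  have : g⁻¹.1 = g⁻¹.1 * ((1 + A) * (1 + -A)) := by
    rw [show (1 + A) * (1 + -A) = (1 : Matrix J J F) by noncomm_ring [h0], Matrix.mul_one]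
  rw [this, ← Matrix.mul_assoc, ← e, ← Units.val_mul, inv_mul_cancel, Units.val_one, Matrix.one_mul]

theorem HasM.add {A B : Matrix J J F} (hA : HasM M A) (hB : HasM M B) (h : A * B = 0) : HasM M (A + B) := by
  obtain ⟨g, hg, e⟩ := hA
  obtain ⟨k, hk, e'⟩ := hB
  refine ⟨g * k, mul_mem hg hk, ?_⟩
  rw [Units.val_mul, e, e']
  noncomm_ring [h]

theorem HasM.conj {A : Matrix J J F} (hA : HasM M A) {g : GL J F} (hg : g ∈ M) :
    HasM M (g.1 * A * g⁻¹.1) := by
  obtain ⟨k, hk, e⟩ := hA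
  refine ⟨g * k * g⁻¹, mul_mem (mul_mem hg hk) (inv_mem hg), ?_⟩
  rw [Units.val_mul, Units.val_mul, e, Matrix.mul_add, Matrix.add_mul, Matrix.mul_one, ← Units.val_mul,
    mul_inv_cancel, Units.val_one]

/-- The commutator of two square-zero matrices with one vanishing product. -/
theorem HasM.comm {A B : Matrix J J F} (hA : HasM M A) (hB : HasM M B) (hA2 : A * A = 0) (hB2 : B * B = 0)
    (hBA : B * A = 0) : HasM M (A * B) := by
  obtain ⟨a, ha, ea⟩ := hA
  obtain ⟨b, hb, eb⟩ := hB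
  obtain ⟨a', ha', ea'⟩ := HasM.neg ⟨a, ha, ea⟩ hA2
  obtain ⟨b', hb', eb'⟩ := HasM.neg ⟨b, hb, eb⟩ hB2
  refine ⟨a * b * a' * b', mul_mem (mul_mem (mul_mem ha hb) ha') hb', ?_⟩
  rw [Units.val_mul, Units.val_mul, Units.val_mul, ea, eb, ea', eb']
  have h1 : A * (A * B) = 0 := by rw [← Matrix.mul_assoc, hA2, Matrix.zero_mul]
  have h2 : B * (A * B) = 0 := by rw [← Matrix.mul_assoc, hBA, Matrix.zero_mul]
  noncomm_ring [hA2, hB2, hBA, h1, h2]

theorem det_one_add_nilpotent {C : Matrix J J F} (h : IsNilpotent C) : det (1 + C) = 1 := by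
  obtain ⟨r, -, hr⟩ := Polynomial.isUnit_iff.1 (Matrix.isUnit_charpolyRev_of_isNilpotent h)
  have h0 : Polynomial.eval 0 C.charpolyRev = 1 := Matrix.eval_charpolyRev
  rw [← hr, Polynomial.eval_C] at h0
  have h1 : Polynomial.eval (-1) C.charpolyRev = 1 := by rw [← hr, Polynomial.eval_C, h0]
  rw [← h1, Matrix.charpolyRev, ← Polynomial.coe_evalRingHom, RingHom.map_det]
  congr 1
  ext i j
  rcases eq_or_ne i j with rfl | hij
  · simp
  · simp [Matrix.one_apply_ne hij]

end Has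

variable {F : Type*} [Field F] {m : ℕ} {ι : Type} [Fintype ι] [DecidableEq ι]

/-- The matrix `(b β) ⊗ D`. -/
def rootT (b β : Fin m → F) (D : Matrix ι ι F) : Matrix (Fin m × ι) (Fin m × ι) F := vecMulVec b β ⊗ₖ D

theorem rootT_apply (b β : Fin m → F) (D : Matrix ι ι F) (p q : Fin m × ι) :
    rootT b β D p q = b p.1 * β q.1 * D p.2 q.2 := rfl

theorem rootT_mul (b β b' β' : Fin m → F) (D D' : Matrix ι ι F) :
    rootT b β D * rootT b' β' D' = (β ⬝ᵥ b') • rootT b β' (D * D') := by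
  rw [rootT, rootT, ← Matrix.mul_kronecker_mul, vecMulVec_mul_vecMulVec, vecMulVec_smul,
    Matrix.smul_kronecker]
  rfl

theorem rootT_mul_zero {b β b' β' : Fin m → F} (h : β ⬝ᵥ b' = 0) (D D' : Matrix ι ι F) :
    rootT b β D * rootT b' β' D' = 0 := by
  rw [rootT_mul, h, zero_smul]

theorem rootT_smul_left (c : F) (b β : Fin m → F) (D : Matrix ι ι F) :
    rootT (c • b) β D = rootT b β (c • D) := by
  ext p q
  simp [rootT_apply]
  ring

theorem rootT_add (b β : Fin m → F) (D D' : Matrix ι ι F) :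
    rootT b β (D + D') = rootT b β D + rootT b β D' := Matrix.kronecker_add _ _ _

theorem rootT_zero_left (β : Fin m → F) (D : Matrix ι ι F) : rootT 0 β D = 0 := by
  ext p q; simp [rootT_apply]

theorem rootT_zero_mid (b : Fin m → F) (D : Matrix ι ι F) : rootT b 0 D = 0 := by
  ext p q; simp [rootT_apply]

theorem rootT_zero (b β : Fin m → F) : rootT b β (0 : Matrix ι ι F) = 0 := by
  ext p q; simp [rootT_apply]

/-- `M` contains the invertible `C ⊗ 1` of determinant one and lies in the special linear group. -/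
structure LeftSL (M : Subgroup (GL (Fin m × ι) F)) : Prop where
  left : ∀ C : Matrix (Fin m) (Fin m) F, det (C ⊗ₖ (1 : Matrix ι ι F)) = 1 →
    ∃ g ∈ M, (g : Matrix (Fin m × ι) (Fin m × ι) F) = C ⊗ₖ (1 : Matrix ι ι F)
  det_one : ∀ g ∈ M, det (g : Matrix (Fin m × ι) (Fin m × ι) F) = 1

variable {M : Subgroup (GL (Fin m × ι) F)}

theorem LeftSL.root_one (hM : LeftSL M) {b β : Fin m → F} (h : β ⬝ᵥ b = 0) : HasM M (rootT b β 1) := by
  have e : (1 + vecMulVec b β) ⊗ₖ (1 : Matrix ι ι F) = 1 + rootT b β 1 := by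
    rw [Matrix.add_kronecker, Matrix.one_kronecker_one]; rfl
  obtain ⟨g, hg, hge⟩ := hM.left (1 + vecMulVec b β) (by
    rw [e]
    exact det_one_add_nilpotent ⟨2, by rw [pow_two]; exact rootT_mul_zero h _ _⟩)
  exact ⟨g, hg, hge.trans e⟩

/-- The matrix `∑ (b eₛ) ⊗ L s`. -/
def slice (b : Fin m → F) (L : Fin m → Matrix ι ι F) : Matrix (Fin m × ι) (Fin m × ι) F :=
  Matrix.of fun p q => b p.1 * L q.1 p.2 q.2

theorem rootT_mul_slice_zero {b : Fin m → F} {L : Fin m → Matrix ι ι F} (hL : ∑ s, b s • L s = 0)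
    (b' : Fin m → F) (L' : Fin m → Matrix ι ι F) : slice b' L' * slice b L = slice b' (fun s => (∑ a, b a • L' a) * L s) := by
  ext p q
  simp only [slice, Matrix.of_apply, Matrix.mul_apply, Fintype.sum_prod_type, Matrix.sum_apply, Matrix.smul_apply,
    smul_eq_mul, Finset.mul_sum, Finset.sum_mul]
  rw [Finset.sum_comm]
  refine Finset.sum_congr rfl fun a _ => Finset.sum_congr rfl fun x _ => ?_
  ring

theorem slice_sq {b : Fin m → F} {L : Fin m → Matrix ι ι F} (hL : ∑ s, b s • L s = 0) :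
    slice b L * slice b L = 0 := by
  rw [rootT_mul_slice_zero hL]
  ext p q
  simp [slice, hL]

theorem mul_slice_of_mulVec {C : Matrix (Fin m) (Fin m) F} {b b' : Fin m → F} (h : C *ᵥ b = b')
    (L : Fin m → Matrix ι ι F) : (C ⊗ₖ (1 : Matrix ι ι F)) * slice b L = slice b' L := by
  ext p q
  subst h
  simp only [slice, Matrix.of_apply, Matrix.mul_apply, Fintype.sum_prod_type, Matrix.kroneckerMap_apply,
    Matrix.one_apply, mul_ite, mul_one, mul_zero, ite_mul, zero_mul, Finset.sum_ite_eq, Finset.mem_univ, if_true,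
    Matrix.mulVec, dotProduct, Finset.sum_mul, mul_assoc]

theorem slice_mul (b : Fin m → F) (L : Fin m → Matrix ι ι F) (C : Matrix (Fin m) (Fin m) F) :
    slice b L * (C ⊗ₖ (1 : Matrix ι ι F)) = slice b (fun s => ∑ a, C a s • L a) := by
  ext p q
  simp only [slice, Matrix.of_apply, Matrix.mul_apply, Fintype.sum_prod_type, Matrix.kroneckerMap_apply,
    Matrix.one_apply, mul_ite, mul_one, mul_zero, Finset.sum_ite_eq', Finset.mem_univ, if_true,
    Matrix.sum_apply, Matrix.smul_apply, smul_eq_mul, Finset.mul_sum]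
  refine Finset.sum_congr rfl fun a _ => ?_
  ring

theorem rootT_eq_slice (b β : Fin m → F) (D : Matrix ι ι F) : rootT b β D = slice b (fun s => β s • D) := by
  ext p q
  simp only [rootT_apply, slice, Matrix.of_apply, Matrix.smul_apply, smul_eq_mul]
  ring

theorem slice_sub (b : Fin m → F) (L L' : Fin m → Matrix ι ι F) :
    slice b L - slice b L' = slice b (L - L') := by
  ext p q
  simp only [slice, Matrix.of_apply, Matrix.sub_apply, Pi.sub_apply]
  ring

/-- A slice element gives root elements with the factors `∑ d s • L s`. -/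
theorem exists_root_of_slice (hM : LeftSL M) (h3 : 3 ≤ m) {b : Fin m → F} {L : Fin m → Matrix ι ι F}
    (hL : ∑ s, b s • L s = 0) (h : HasM M (slice b L)) (d : Fin m → F) :
    ∃ η : Fin m → F, η ≠ 0 ∧ η ⬝ᵥ b = 0 ∧ HasM M (rootT b η (∑ s, d s • L s)) := by
  obtain ⟨η, hη0, hbη, hdη⟩ := exists_perp_two h3 b d
  rw [dotProduct_comm] at hbη hdη
  refine ⟨η, hη0, hbη, ?_⟩
  obtain ⟨g, hg, hge⟩ := hM.root_one hdη
  obtain ⟨g', -, hge'⟩ := HasM.neg ⟨g, hg, hge⟩ (rootT_mul_zero hdη _ _)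
  have hgi : g⁻¹.1 = 1 - rootT d η 1 := by
    have h1 : (1 + rootT d η (1 : Matrix ι ι F)) * (1 - rootT d η 1) = 1 := by
      noncomm_ring [rootT_mul_zero (b := d) (β' := η) hdη (1 : Matrix ι ι F) 1]
    have h2 := congrArg (g⁻¹.1 * ·) h1
    simp only [← Matrix.mul_assoc, ← hge, ← Units.val_mul, inv_mul_cancel, Units.val_one, Matrix.one_mul,
      Matrix.mul_one] at h2
    exact h2.symm
  have hK : ∀ C : F, (1 + C • vecMulVec d η) ⊗ₖ (1 : Matrix ι ι F) = 1 + C • rootT d η 1 := fun C => by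
    rw [Matrix.add_kronecker, Matrix.one_kronecker_one, Matrix.smul_kronecker]; rfl
  have e : g.1 * slice b L * g⁻¹.1 = slice b (fun s => L s - η s • ∑ a, d a • L a) := by
    rw [hge, hgi]
    have h1 := hK 1
    have h2 := hK (-1)
    rw [one_smul, one_smul] at h1
    rw [show (1 : Matrix (Fin m × ι) (Fin m × ι) F) - rootT d η 1 = 1 + (-1 : F) • rootT d η 1 by
      rw [neg_one_smul, sub_eq_add_neg], ← h1, ← h2,
      mul_slice_of_mulVec (b' := b) (by rw [add_mulVec, one_mulVec, vecMulVec_mulVec, hbη]; simp), slice_mul]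
    congr 1
    funext s
    simp only [neg_smul, one_smul, Matrix.add_apply, Matrix.neg_apply, vecMulVec_apply, add_smul, neg_smul,
      Finset.sum_add_distrib, Finset.sum_neg_distrib, Matrix.one_apply, ite_smul, zero_smul, Finset.sum_ite_eq',
      Finset.mem_univ, if_true, ← sub_eq_add_neg, Finset.smul_sum, smul_smul, mul_comm, sub_smul,
      Finset.sum_sub_distrib]
  have hc := h.conj hg
  rw [e] at hc
  have hL' : ∑ s, b s • (L s - η s • ∑ a, d a • L a) = 0 := by
    simp only [smul_sub, Finset.sum_sub_distrib, hL, smul_smul, ← Finset.sum_smul]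
    rw [show ∑ s, b s * η s = η ⬝ᵥ b by rw [dotProduct_comm]; rfl, hbη, zero_smul, sub_zero]
  have hsub := h.add (hc.neg (slice_sq hL')) (by
    rw [Matrix.mul_neg, rootT_mul_slice_zero hL', hL]
    ext p q; simp [slice])
  rw [← sub_eq_add_neg, slice_sub] at hsub
  rw [rootT_eq_slice]
  convert hsub using 2
  funext s
  simp

/-- An element fixing one slice is a tensor map unless there is a root element with a non-scalar factor. -/
theorem tensor_or_root (hM : LeftSL M) (h3 : 3 ≤ m) {h : GL (Fin m × ι) F} (hh : h ∈ M) {b : Fin m → F}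
    (hb : b ≠ 0) (hfix : ∀ γ, (h : Matrix (Fin m × ι) (Fin m × ι) F) * rootT b γ 1 = rootT b γ 1) :
    (∃ C : Matrix (Fin m) (Fin m) F, (h⁻¹ : GL (Fin m × ι) F).1 = C ⊗ₖ (1 : Matrix ι ι F)) ∨
      ∃ (b' β : Fin m → F) (D : Matrix ι ι F), b' ≠ 0 ∧ β ≠ 0 ∧ β ⬝ᵥ b' = 0 ∧ (∀ c : F, D ≠ c • 1) ∧
        HasM M (rootT b' β D) := by
  classical
  by_contra hno
  push Not at hno
  obtain ⟨hnT, hno⟩ := hno
  have hscal : ∀ L : Fin m → Matrix ι ι F, ∑ s, b s • L s = 0 → HasM M (slice b L) →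
      ∃ l : Fin m → F, ∀ s, L s = l s • 1 := fun L hL hHas => by
    have : ∀ s, ∃ c : F, L s = c • 1 := fun s => by
      obtain ⟨η, hη, hηb, hH⟩ := exists_root_of_slice hM h3 hL hHas (Pi.single s 1)
      by_contra hc
      push Not at hc
      refine hno b η _ hb hη hηb ?_ hH
      simpa [Pi.single_apply, ite_smul, Finset.sum_ite_eq'] using hc
    choose l hl using this
    exact ⟨l, hl⟩
  set K : Matrix (Fin m × ι) (Fin m × ι) F := h⁻¹.1 - 1 with hK
  have hKfix : ∀ γ, h⁻¹.1 * rootT b γ 1 = rootT b γ 1 := fun γ => by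
    conv_lhs => rw [← hfix γ]
    rw [← Matrix.mul_assoc, ← Units.val_mul, inv_mul_cancel, Units.val_one, Matrix.one_mul]
  set blk : Fin m → Fin m → Matrix ι ι F := fun a s => Matrix.of fun i j => K (a, i) (s, j) with hblk
  have hKb : ∀ a, ∑ s, b s • blk a s = 0 := fun a => by
    obtain ⟨δ, hδ⟩ := exists_dot_one hb
    have h0 : K * rootT b δ (1 : Matrix ι ι F) = 0 := by rw [hK, Matrix.sub_mul, hKfix, Matrix.one_mul, sub_self]
    have hδ' : δ ≠ 0 := by rintro rfl; simp at hδ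
    obtain ⟨q, hq⟩ := Function.ne_iff.1 hδ'
    ext i j
    have h1 := congrFun (congrFun h0 (a, i)) (q, j)
    simp only [Matrix.mul_apply, rootT_apply, Fintype.sum_prod_type, Matrix.one_apply, mul_ite, mul_one, mul_zero,
      Finset.sum_ite_eq', Finset.mem_univ, if_true, Matrix.zero_apply] at h1
    simp only [hblk, Matrix.sum_apply, Matrix.smul_apply, Matrix.of_apply, smul_eq_mul, Matrix.zero_apply]
    refine (mul_eq_zero.1 (?_ : (∑ s, b s * K (a, i) (s, j)) * δ q = 0)).resolve_right (by simpa using hq)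
    rw [Finset.sum_mul, ← h1]
    exact Finset.sum_congr rfl fun s _ => by ring
  -- commutators with the scalar roots
  have hγ : ∀ γ, γ ⬝ᵥ b = 0 → ∃ l : Fin m → F, ∀ s, ∑ a, γ a • blk a s = l s • 1 := fun γ hγ => by
    have hZ : rootT b γ (1 : Matrix ι ι F) * K = slice b fun s => ∑ a, γ a • blk a s := by
      ext p q
      simp only [Matrix.mul_apply, rootT_apply, Fintype.sum_prod_type, Matrix.one_apply, mul_ite, mul_one,
        mul_zero, ite_mul, zero_mul, Finset.sum_ite_eq, Finset.mem_univ, if_true, slice, Matrix.of_apply, hblk,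
        Matrix.sum_apply, Matrix.smul_apply, smul_eq_mul, Finset.mul_sum, mul_assoc]
    refine hscal _ ?_ ?_
    · simp only [Finset.smul_sum, smul_smul]
      rw [Finset.sum_comm]
      refine Finset.sum_eq_zero fun a _ => ?_
      have := congrArg (γ a • ·) (hKb a)
      simpa [Finset.smul_sum, smul_smul, mul_comm] using this
    obtain ⟨x, hx, hxe⟩ := hM.root_one hγ
    obtain ⟨x', hx', hxe'⟩ := HasM.neg ⟨x, hx, hxe⟩ (rootT_mul_zero hγ _ _)
    refine ⟨h * x * h⁻¹ * x', mul_mem (mul_mem (mul_mem hh hx) (inv_mem hh)) hx', ?_⟩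
    have e1 : h.1 * (1 + rootT b γ (1 : Matrix ι ι F)) * h⁻¹.1 = 1 + rootT b γ 1 * h⁻¹.1 := by
      rw [Matrix.mul_add, Matrix.mul_one, hfix, Matrix.add_mul, ← Units.val_mul, mul_inv_cancel, Units.val_one]
    rw [Units.val_mul, Units.val_mul, Units.val_mul, hxe, hxe', e1, ← hZ, hK]
    have h2 : rootT b γ (1 : Matrix ι ι F) * rootT b γ 1 = 0 := rootT_mul_zero hγ _ _
    have h3' : rootT b γ (1 : Matrix ι ι F) * h⁻¹.1 * rootT b γ 1 = 0 := by
      rw [Matrix.mul_assoc, hKfix, h2]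
    simp only [Matrix.add_mul, Matrix.mul_add, Matrix.mul_sub, Matrix.one_mul, Matrix.mul_one, Matrix.mul_neg, h3',
      neg_zero, add_zero]
    abel
  -- normal form of `h⁻¹`
  obtain ⟨δ, hδ⟩ := exists_dot_one hb
  choose c hc using fun a => hγ (Pi.single a 1 - b a • δ) (by
    rw [sub_dotProduct, single_dotProduct, one_mul, smul_dotProduct, hδ, smul_eq_mul, mul_one, sub_self])
  set Ψ : Fin m → Matrix ι ι F := fun s => ∑ a, δ a • blk a s with hΨ
  have hblk' : ∀ a s, blk a s = c a s • 1 + b a • Ψ s := fun a s => by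
    have h1 := hc a s
    simp only [Pi.sub_apply, Pi.smul_apply, sub_smul, Finset.sum_sub_distrib, Pi.single_apply, ite_smul, one_smul,
      zero_smul, Finset.sum_ite_eq', Finset.mem_univ, if_true, smul_eq_mul, ← smul_smul, ← Finset.smul_sum] at h1
    rw [← h1, hΨ]
    abel
  set C₀ : Matrix (Fin m) (Fin m) F := Matrix.of fun a s => c a s with hC₀
  set μ : F := δ ⬝ᵥ (C₀ *ᵥ b) with hμ
  have hC₀b : ∀ a, (C₀ *ᵥ b) a • (1 : Matrix ι ι F) + b a • ∑ s, b s • Ψ s = 0 := fun a => by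
    have h1 := hKb a
    simp only [hblk', smul_add, Finset.sum_add_distrib, smul_smul] at h1
    rw [← Finset.sum_smul] at h1
    rw [show (C₀ *ᵥ b) a = ∑ s, b s * c a s from by
      simp [hC₀, Matrix.mulVec, dotProduct, mul_comm], Finset.smul_sum]
    simpa [smul_smul, mul_comm] using h1
  have hΨb : ∑ s, b s • Ψ s = -(μ • (1 : Matrix ι ι F)) := by
    have h1 : ∑ a, δ a • ((C₀ *ᵥ b) a • (1 : Matrix ι ι F) + b a • ∑ s, b s • Ψ s) = 0 :=
      Finset.sum_eq_zero fun a _ => by rw [hC₀b, smul_zero]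
    simp only [smul_add, smul_smul, Finset.sum_add_distrib, ← Finset.sum_smul] at h1
    rw [show ∑ a, δ a * b a = 1 from hδ, one_smul] at h1
    rw [eq_neg_iff_add_eq_zero, add_comm, hμ]
    exact h1
  set C : Matrix (Fin m) (Fin m) F := 1 + C₀ - μ • vecMulVec b δ with hC
  set L : Fin m → Matrix ι ι F := fun s => Ψ s + (μ * δ s) • 1 with hL'
  have hLb : ∑ s, b s • L s = 0 := by
    simp only [hL', smul_add, Finset.sum_add_distrib, hΨb, smul_smul, ← Finset.sum_smul]
    rw [show ∑ s, b s * (μ * δ s) = μ * (δ ⬝ᵥ b) from by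
      rw [dotProduct, Finset.mul_sum]; exact Finset.sum_congr rfl fun s _ => by ring, hδ, mul_one, neg_add_cancel]
  rcases isEmpty_or_nonempty ι with hι | hι
  · exact hnT 1 (Subsingleton.elim _ _)
  obtain ⟨i₀⟩ := hι
  have hCb : C *ᵥ b = b := by
    funext a
    have h1 := congrFun (congrFun (hC₀b a) i₀) i₀
    have h2 := congrFun (congrFun hΨb i₀) i₀
    rw [Matrix.add_apply, Matrix.smul_apply, Matrix.smul_apply, h2] at h1
    simp only [Matrix.neg_apply, Matrix.smul_apply, Matrix.one_apply_eq, smul_eq_mul, mul_one, Matrix.zero_apply] at h1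
    rw [hC, sub_mulVec, add_mulVec, one_mulVec, smul_mulVec, vecMulVec_mulVec, op_smul_eq_smul]
    simp only [Pi.add_apply, Pi.sub_apply, Pi.smul_apply, smul_eq_mul, hδ, one_mul]
    linear_combination h1
  have hform : h⁻¹.1 = (C ⊗ₖ (1 : Matrix ι ι F)) * (1 + slice b L) := by
    rw [Matrix.mul_add, Matrix.mul_one, mul_slice_of_mulVec hCb]
    ext ⟨a, i⟩ ⟨s, j⟩
    have h1 := congrFun (congrFun (hblk' a s) i) j
    simp only [hblk, hK, Matrix.of_apply, Matrix.sub_apply, Matrix.add_apply, Matrix.smul_apply, smul_eq_mul] at h1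
    simp only [hC, hC₀, hL', slice, Matrix.of_apply, Matrix.add_apply, Matrix.kroneckerMap_apply,
      Matrix.sub_apply, Matrix.smul_apply, vecMulVec_apply, smul_eq_mul, Matrix.one_apply, Prod.ext_iff] at h1 ⊢
    rw [sub_eq_iff_eq_add] at h1
    rw [h1]
    by_cases ha : a = s <;> by_cases hi : i = j <;> simp [ha, hi] <;> ring
  have hdS : det (1 + slice b L) = 1 := det_one_add_nilpotent ⟨2, by rw [pow_two]; exact slice_sq hLb⟩
  have hdC : det (C ⊗ₖ (1 : Matrix ι ι F)) = 1 := by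
    have := hM.det_one _ (inv_mem hh)
    rwa [hform, Matrix.det_mul, hdS, mul_one] at this
  obtain ⟨r, hr, hre⟩ := hM.left C hdC
  have hS : HasM M (slice b L) := ⟨r⁻¹ * h⁻¹, mul_mem (inv_mem hr) (inv_mem hh), by
    rw [Units.val_mul, hform, ← hre, ← Matrix.mul_assoc, ← Units.val_mul, inv_mul_cancel, Units.val_one,
      Matrix.one_mul]⟩
  obtain ⟨l, hl⟩ := hscal L hLb hS
  refine hnT (C * (1 + vecMulVec b l)) ?_
  rw [hform, show L = fun s => l s • (1 : Matrix ι ι F) from funext hl, ← rootT_eq_slice]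
  rw [show (1 : Matrix (Fin m × ι) (Fin m × ι) F) + rootT b l 1 = (1 + vecMulVec b l) ⊗ₖ (1 : Matrix ι ι F) by
    rw [Matrix.add_kronecker, Matrix.one_kronecker_one]; rfl, ← Matrix.mul_kronecker_mul, Matrix.one_mul]

/-- A root factor for one pair is a root factor for every pair. -/
theorem rootT_spread (hM : LeftSL M) (h3 : 3 ≤ m) {D : Matrix ι ι F} {b₀ β₀ : Fin m → F} (hb : b₀ ≠ 0)
    (hβ : β₀ ≠ 0) (h0 : β₀ ⬝ᵥ b₀ = 0) (hD : HasM M (rootT b₀ β₀ D)) :
    ∀ b β, β ⬝ᵥ b = 0 → HasM M (rootT b β D) := by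
  have key1 : ∀ {b β : Fin m → F}, β ≠ 0 → β ⬝ᵥ b = 0 → HasM M (rootT b β D) →
      ∀ η, η ⬝ᵥ b = 0 → HasM M (rootT b η D) := by
    intro b β hβ hβb hh
    have hstep : ∀ {β : Fin m → F}, β ⬝ᵥ b = 0 → HasM M (rootT b β D) → ∀ η, η ⬝ᵥ b = 0 → β ∉ F ∙ η →
        HasM M (rootT b η D) := by
      intro β hβb hh η hη hmem
      obtain ⟨d, hdη, hdβ⟩ := exists_dot hmem
      rw [dotProduct_comm] at hdη hdβ
      have := hh.comm (hM.root_one hdη) (rootT_mul_zero hβb _ _) (rootT_mul_zero hdη _ _) (rootT_mul_zero hη _ _)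
      rwa [rootT_mul, hdβ, one_smul, Matrix.mul_one] at this
    intro η hη
    by_cases hmem : β ∈ F ∙ η
    · obtain ⟨η', hη', hne⟩ := exists_perp_notMem h3 b η
      rw [dotProduct_comm] at hη'
      refine hstep hη' (hstep hβb hh η' hη' fun hc => hne ?_) η hη hne
      obtain ⟨l, hl⟩ := Submodule.mem_span_singleton.1 hc
      obtain ⟨k, hk⟩ := Submodule.mem_span_singleton.1 hmem
      have hl0 : l ≠ 0 := by rintro rfl; exact hβ (by rw [← hl, zero_smul])
      exact Submodule.mem_span_singleton.2 ⟨l⁻¹ * k, by rw [mul_smul, hk, ← hl, inv_smul_smul₀ hl0]⟩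
    · exact hstep hβb hh η hη hmem
  have key2 : ∀ {b β : Fin m → F}, b ≠ 0 → β ⬝ᵥ b = 0 → HasM M (rootT b β D) →
      ∀ d, β ⬝ᵥ d = 0 → HasM M (rootT d β D) := by
    intro b β hb hβb hh
    have hstep : ∀ {b : Fin m → F}, β ⬝ᵥ b = 0 → HasM M (rootT b β D) → ∀ d, β ⬝ᵥ d = 0 → b ∉ F ∙ d →
        HasM M (rootT d β D) := by
      intro b hβb hh d hd hmem
      obtain ⟨η, hηd, hηb⟩ := exists_dot hmem
      have := (hM.root_one hηd).comm hh (rootT_mul_zero hηd _ _) (rootT_mul_zero hβb _ _) (rootT_mul_zero hd _ _)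
      rwa [rootT_mul, hηb, one_smul, Matrix.one_mul] at this
    intro d hd
    by_cases hmem : b ∈ F ∙ d
    · obtain ⟨d', hd', hne⟩ := exists_perp_notMem h3 β d
      refine hstep hd' (hstep hβb hh d' hd' fun hc => hne ?_) d hd hne
      obtain ⟨l, hl⟩ := Submodule.mem_span_singleton.1 hc
      obtain ⟨k, hk⟩ := Submodule.mem_span_singleton.1 hmem
      have hl0 : l ≠ 0 := by rintro rfl; exact hb (by rw [← hl, zero_smul])
      exact Submodule.mem_span_singleton.2 ⟨l⁻¹ * k, by rw [mul_smul, hk, ← hl, inv_smul_smul₀ hl0]⟩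
    · exact hstep hβb hh d hd hmem
  intro b β hβb
  rcases eq_or_ne b 0 with rfl | hb0
  · rw [rootT_zero_left]; exact HasM.zero
  obtain ⟨β₁, hβ₁, hb₀₁, hb₁⟩ := exists_perp_two h3 b₀ b
  rw [dotProduct_comm] at hb₀₁ hb₁
  exact key1 hβ₁ hb₁ (key2 hb hb₀₁ (key1 hβ h0 hD β₁ hb₀₁) b hb₁) β hβb

/-- The root factors form an algebra. -/
def rootAlg (hM : LeftSL M) (h3 : 3 ≤ m) : Subalgebra F (Matrix ι ι F) where
  carrier := {D | ∀ b β : Fin m → F, β ⬝ᵥ b = 0 → HasM M (rootT b β D)}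
  zero_mem' := fun b β _ => by rw [rootT_zero]; exact HasM.zero
  one_mem' := fun b β h => hM.root_one h
  add_mem' := fun {X Y} hX hY b β h => by
    rw [rootT_add]
    exact (hX b β h).add (hY b β h) (rootT_mul_zero h _ _)
  mul_mem' := fun {X Y} hX hY b β h => by
    rcases eq_or_ne b 0 with rfl | hb
    · rw [rootT_zero_left]; exact HasM.zero
    obtain ⟨η, hηb, hne⟩ := exists_perp_notMem h3 b β
    rw [dotProduct_comm] at hηb
    obtain ⟨d, hdβ, hdη⟩ := exists_dot hne
    rw [dotProduct_comm] at hdβ hdη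
    have := (hX b η hηb).comm (hY d β hdβ) (rootT_mul_zero hηb _ _) (rootT_mul_zero hdβ _ _) (rootT_mul_zero h _ _)
    rwa [rootT_mul, hdη, one_smul] at this
  algebraMap_mem' := fun c b β h => by
    rw [Algebra.algebraMap_eq_smul_one, ← rootT_smul_left]
    exact hM.root_one (by rw [dotProduct_smul, h, smul_zero])

theorem mem_rootAlg (hM : LeftSL M) (h3 : 3 ≤ m) {D : Matrix ι ι F} :
    D ∈ rootAlg hM h3 ↔ ∀ b β : Fin m → F, β ⬝ᵥ b = 0 → HasM M (rootT b β D) := Iff.rfl

/-- The algebra of root factors is invariant under `1 ⊗ Y` in `M`. -/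
theorem rootAlg_conj (hM : LeftSL M) (h3 : 3 ≤ m) {g : GL (Fin m × ι) F} (hg : g ∈ M) {Y Y' : Matrix ι ι F}
    (hY : g.1 = (1 : Matrix (Fin m) (Fin m) F) ⊗ₖ Y) (hY' : Y * Y' = 1) {D : Matrix ι ι F}
    (hD : D ∈ rootAlg hM h3) : Y * D * Y' ∈ rootAlg hM h3 := by
  intro b β h
  have hgi : g⁻¹.1 = (1 : Matrix (Fin m) (Fin m) F) ⊗ₖ Y' := by
    have h1 : g.1 * ((1 : Matrix (Fin m) (Fin m) F) ⊗ₖ Y') = 1 := by
      rw [hY, ← Matrix.mul_kronecker_mul, Matrix.mul_one, hY', Matrix.one_kronecker_one]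
    have h2 := congrArg (g⁻¹.1 * ·) h1
    simp only [← Matrix.mul_assoc, ← Units.val_mul, inv_mul_cancel, Units.val_one, Matrix.one_mul,
      Matrix.mul_one] at h2
    exact h2.symm
  have := (hD b β h).conj hg
  rwa [hgi, hY, rootT, ← Matrix.mul_kronecker_mul, ← Matrix.mul_kronecker_mul, Matrix.one_mul, Matrix.mul_one] at this

end CfsgLib.Classical.WreathMax
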