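import Cfsg.Agent.Lib.Classical.WreathMax.SwapType
import Cfsg.Agent.Lib.Classical.WreathMax.Split

/-!
# Fusion of root elements out of the stabiliser gives an element fixing a slice, or one centralising a factor
-/

set_option autoImplicit false
set_option linter.unusedSectionVars false

open Matrix Module
open scoped Kronecker
open CfsgLib.Classical.TensorMax (exists_dot_one exists_perp vecMulVec_eq_zero_iff')

namespace CfsgLib.Classical.WreathMax

variable {F : Type*} [Field F] {κ : Type} [Fintype κ] [DecidableEq κ] {m : ℕ}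

/-- An element of the overgroup outside the stabiliser fixing a slice pointwise. -/
def FixSlice (M : Subgroup (GL (κ → Fin m) F)) : Prop :=
  ∃ h ∈ M, h ∉ wreathT F κ m ∧ ∃ (i : κ) (b : Fin m → F), b ≠ 0 ∧
    ∀ γ, h.1 * op i (vecMulVec b γ) = op i (vecMulVec b γ)

/-- Matrices on the other factors, as matrices on all. -/
def liftRest (i : κ) : TMat F (Rest i) m →* TMat F κ m :=
  (split i).symm.toRingEquiv.toMonoidHom.comp
    { toFun := fun B => (1 : Matrix (Fin m) (Fin m) F) ⊗ₖ B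
      map_one' := Matrix.one_kronecker_one
      map_mul' := fun B B' => by rw [← Matrix.mul_kronecker_mul, Matrix.one_mul] }

theorem split_liftRest (i : κ) (B : TMat F (Rest i) m) :
    split i (liftRest i B) = (1 : Matrix (Fin m) (Fin m) F) ⊗ₖ B := (split i).apply_symm_apply _

/-- An element of the overgroup outside the stabiliser centralising one factor. -/
def CentFac (M : Subgroup (GL (κ → Fin m) F)) : Prop :=
  ∃ (j : κ) (B : GL (Rest j → Fin m) F), det B.1 = 1 ∧ Units.map (liftRest j) B ∈ M ∧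
    Units.map (liftRest j) B ∉ wreathT F κ m

theorem vecMulVec_ne_scalar (h2 : 2 ≤ m) {b β : Fin m → F} (hb : b ≠ 0) (hβ : β ≠ 0) (c : F) :
    vecMulVec b β ≠ c • 1 := fun e => by
  obtain ⟨v, hv⟩ := exists_perp (dotProductBilin F F β) (by rw [finrank_self]; omega)
  have h1 := congrArg (· *ᵥ v) e
  simp only [vecMulVec_mulVec, smul_mulVec, one_mulVec, op_smul_eq_smul] at h1
  rw [show β ⬝ᵥ v = 0 from hv.2, zero_smul] at h1
  rcases smul_eq_zero.1 h1.symm with h2 | h2
  · rw [h2, zero_smul, vecMulVec_eq_zero_iff'] at e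
    exact e.elim hb hβ
  · exact hv.1 h2

theorem op_injective (i : κ) : Function.Injective (op i : Matrix (Fin m) (Fin m) F → TMat F κ m) := by
  intro A A' h
  ext x y
  have := congrFun (congrFun h (Function.update (fun _ => x) i x)) (Function.update (fun _ => x) i y)
  rwa [op_apply, op_apply, if_pos fun l hl => by rw [Function.update_of_ne hl, Function.update_of_ne hl],
    if_pos fun l hl => by rw [Function.update_of_ne hl, Function.update_of_ne hl], Function.update_self,
    Function.update_self] at this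

/-- An element of the stabiliser that keeps a factor splits there. -/
theorem split_of_keep (h0 : 0 < m) {w : GL (κ → Fin m) F} {σ : Equiv.Perm κ} {D : κ → GL (Fin m) F}
    (hD : w = tensU D * permU σ) {i : κ} (hσ : σ i = i) :
    ∃ B : TMat F (Rest i) m, split i w.1 = (D i).1 ⊗ₖ B := by
  obtain ⟨B, hB⟩ := split_of_commute h0 i (Z := op i (D i)⁻¹.1 * w.1) fun A => by
    have h2 : w.1 * op i A = op i ((D i).1 * A * (D i)⁻¹.1) * w.1 := by
      rw [hD, wreathT_mul_op, hσ]
    rw [← Matrix.mul_assoc, ← map_mul, Matrix.mul_assoc, h2, ← Matrix.mul_assoc, ← map_mul]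
    simp only [← Matrix.mul_assoc, ← Units.val_mul, inv_mul_cancel, Units.val_one, Matrix.one_mul]
  refine ⟨B, ?_⟩
  rw [map_mul, split_op_self] at hB
  have h3' := congrArg (((D i).1 ⊗ₖ (1 : TMat F (Rest i) m)) * ·) hB
  simp only [← Matrix.mul_assoc, ← Matrix.mul_kronecker_mul, ← Units.val_mul, mul_inv_cancel, Units.val_one,
    Matrix.one_mul, Matrix.mul_one, Matrix.one_kronecker_one] at h3'
  exact h3'

/-- An element of the stabiliser fixing a slice acts on that factor only. -/
theorem op_of_fix (h3 : 3 ≤ m) {h : GL (κ → Fin m) F} (hh : h ∈ wreathT F κ m) {i : κ} {b : Fin m → F}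
    (hb : b ≠ 0) (hfix : ∀ γ, h.1 * op i (vecMulVec b γ) = op i (vecMulVec b γ)) : ∃ A, h.1 = op i A := by
  obtain ⟨σ, C, hC⟩ := hh
  obtain ⟨γ, hγ0, hγ⟩ : ∃ γ : Fin m → F, γ ≠ 0 ∧ γ ⬝ᵥ b = 0 := by
    obtain ⟨x, hx0, hx⟩ := exists_perp (dotProductBilin F F b) (by rw [finrank_self]; omega)
    exact ⟨x, hx0, by rw [dotProduct_comm]; exact hx⟩
  by_cases hσ : σ i = i
  · obtain ⟨B, hB⟩ := split_of_keep (by omega) hC hσ
    have h1 := congrArg (split i) (hfix γ)
    rw [map_mul, hB, split_op_self, ← Matrix.mul_kronecker_mul, Matrix.mul_one] at h1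
    obtain ⟨a, ha⟩ := Function.ne_iff.1 hb
    obtain ⟨a', ha'⟩ := Function.ne_iff.1 hγ0
    set t := ((C i).1 * vecMulVec b γ) a a'
    have ht : ∀ u v, t * B u v = (b a * γ a') * (1 : TMat F (Rest i) m) u v := fun u v => by
      have := congrFun (congrFun h1 (a, u)) (a', v)
      rwa [Matrix.kroneckerMap_apply, Matrix.kroneckerMap_apply, vecMulVec_apply] at this
    have hne : b a * γ a' ≠ 0 := mul_ne_zero ha ha'
    have ht0 : t ≠ 0 := fun h0 => by
      obtain ⟨u⟩ : Nonempty (Rest i → Fin m) := ⟨fun _ => ⟨0, by omega⟩⟩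
      have := ht u u
      rw [h0, zero_mul, Matrix.one_apply_eq, mul_one] at this
      exact hne this.symm
    refine ⟨(t⁻¹ * (b a * γ a')) • (C i).1, (split i).injective ?_⟩
    rw [hB, split_op_self, Matrix.smul_kronecker, ← Matrix.kronecker_smul]
    congr 1
    ext u v
    rw [Matrix.smul_apply, smul_eq_mul, mul_assoc, ← ht, inv_mul_cancel_left₀ ht0]
  · exfalso
    set X := (C (σ i)).1 * vecMulVec b γ * (C (σ i))⁻¹.1
    set P := vecMulVec b γ
    have h1 : op i P * op (σ i) X * h.1 = 0 := by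
      rw [Matrix.mul_assoc, show op (σ i) X * h.1 = h.1 * op i P by rw [hC, wreathT_mul_op], hfix, ← map_mul,
        vecMulVec_mul_vecMulVec, hγ, zero_smul, vecMulVec_zero, op_zero]
    have h2 : op i P * op (σ i) X = 0 := by
      have := congrArg (· * h⁻¹.1) h1
      simpa [Matrix.mul_assoc] using this
    rw [op_eq_tens, op_eq_tens, ← map_mul] at h2
    obtain ⟨l, hl⟩ := tens_eq_zero h2
    have hP : P ≠ 0 := fun e => (vecMulVec_eq_zero_iff'.1 e).elim hb hγ0
    have hX : X ≠ 0 := fun e => by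
      have := congrArg (fun Y => (C (σ i))⁻¹.1 * Y * (C (σ i)).1) e
      simp [X, P, ← Matrix.mul_assoc, Matrix.mul_assoc _ (C (σ i))⁻¹.1] at this
      exact this.elim hb hγ0
    haveI : Nonempty (Fin m) := ⟨⟨0, by omega⟩⟩
    by_cases h4 : l = i
    · subst h4; simp [Pi.mulSingle_eq_of_ne (Ne.symm hσ)] at hl; exact hP hl
    · by_cases h5 : l = σ i
      · subst h5; simp [Pi.mulSingle_eq_of_ne h4] at hl; exact hX hl
      · simp [Pi.mulSingle_eq_of_ne h4, Pi.mulSingle_eq_of_ne h5] at hl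

/-- A matrix commuting with everything on the other factors acts on one factor. -/
theorem op_of_commute_rest (h0 : 0 < m) (i : κ) {Z : TMat F κ m}
    (h : ∀ B, liftRest i B * Z = Z * liftRest i B) : ∃ A, Z = op i A := by
  obtain ⟨z⟩ : Nonempty (Rest i → Fin m) := ⟨fun _ => ⟨0, h0⟩⟩
  refine ⟨Matrix.of fun a b => split i Z (a, z) (b, z), (split i).injective ?_⟩
  rw [split_op_self]
  ext ⟨a, u⟩ ⟨b, v⟩
  have h1 := congrArg (fun X => split i X (a, z) (b, v)) (h (Matrix.single z u (1 : F)))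
  simp only [map_mul, split_liftRest, Matrix.mul_apply, Fintype.sum_prod_type, Matrix.kroneckerMap_apply,
    Matrix.one_apply, mul_ite, mul_one, mul_zero, ite_mul, zero_mul, one_mul, Finset.sum_ite_eq, Finset.sum_ite_eq',
    Finset.sum_ite_irrel, Finset.sum_const_zero, Finset.mem_univ, if_true, Matrix.single_apply, true_and] at h1
  rw [h1, Matrix.kroneckerMap_apply, Matrix.one_apply, Matrix.of_apply]
  by_cases huv : u = v <;> simp [huv]

/-- Conjugation by `g` maps the factor `i` onto the factor `j`. -/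
def MapsFac (g : GL (κ → Fin m) F) (i j : κ) : Prop :=
  ∀ A, ∃ A', g.1 * op i A * g⁻¹.1 = op j A'

variable [Fintype F]

/-- Two fused roots give a slice-fixing element or a map of factors. -/
theorem slice_dichotomy {M : Subgroup (GL (κ → Fin m) F)} (hM : Over M) (h3 : 3 ≤ m) {g : GL (κ → Fin m) F}
    (hg : g ∈ M) {i j : κ} {b β b' β' : Fin m → F} (hb : b ≠ 0) (hβ : β ≠ 0)
    (h : g.1 * op i (vecMulVec b β) * g⁻¹.1 = op j (vecMulVec b' β')) :
    FixSlice M ∨ MapsFac g i j := by
  classical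
  rw [or_iff_not_imp_left]
  intro hno
  have hgi : g⁻¹.1 * g.1 = 1 := by rw [← Units.val_mul, inv_mul_cancel, Units.val_one]
  have hgg : g.1 * g⁻¹.1 = 1 := by rw [← Units.val_mul, mul_inv_cancel, Units.val_one]
  have hgen : ∀ d η : Fin m → F, η ⬝ᵥ b' = 0 → η ⬝ᵥ d = 0 →
      ∃ A, g⁻¹.1 * op j (vecMulVec d η) * g.1 = op i A := by
    intro d η hηb hηd
    obtain ⟨r, hr, hrT, hre⟩ := hM.exists_root j hηd
    set N := g⁻¹.1 * op j (vecMulVec d η) * g.1 with hN
    set k := g⁻¹ * r * g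
    have hk : k.1 = 1 + N := by
      simp only [k, Units.val_mul, hre, Matrix.mul_add, Matrix.add_mul, Matrix.mul_one, hgi, hN]
    have hNz : ∀ γ, N * op i (vecMulVec b γ) = 0 := fun γ => by
      obtain ⟨δ, hδ⟩ := exists_dot_one hβ
      rw [dotProduct_comm] at hδ
      have e : vecMulVec b γ = vecMulVec b β * vecMulVec δ γ := by
        rw [vecMulVec_mul_vecMulVec, hδ, one_smul]
      have e2 : op i (vecMulVec b β) = g⁻¹.1 * op j (vecMulVec b' β') * g.1 := by
        rw [← h]
        simp only [Matrix.mul_assoc, hgi, Matrix.mul_one]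
        rw [← Matrix.mul_assoc, hgi, Matrix.one_mul]
      rw [e, map_mul, ← Matrix.mul_assoc, e2, hN]
      rw [show g⁻¹.1 * op j (vecMulVec d η) * g.1 * (g⁻¹.1 * op j (vecMulVec b' β') * g.1) =
        g⁻¹.1 * (op j (vecMulVec d η) * (g.1 * g⁻¹.1) * op j (vecMulVec b' β')) * g.1 by
          simp only [Matrix.mul_assoc], hgg, Matrix.mul_one, ← map_mul, vecMulVec_mul_vecMulVec, hηb, zero_smul,
        vecMulVec_zero, op_zero, Matrix.mul_zero, Matrix.zero_mul, Matrix.zero_mul]
    have hfix : ∀ γ, k.1 * op i (vecMulVec b γ) = op i (vecMulVec b γ) := fun γ => by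
      rw [hk, Matrix.add_mul, Matrix.one_mul, hNz, add_zero]
    have hkW : k ∈ wreathT F κ m := by
      by_contra hkW
      exact hno ⟨k, mul_mem (mul_mem (inv_mem hg) hr) hg, hkW, i, b, hb, hfix⟩
    obtain ⟨A, hA⟩ := op_of_fix h3 hkW hb hfix
    refine ⟨A - 1, ?_⟩
    rw [op_sub, map_one, ← hA, hk, add_sub_cancel_left]
  -- the commutant
  have hcomm : ∀ B, ∃ B', g.1 * liftRest i B * g⁻¹.1 = liftRest j B' := fun B => by
    set Z := g.1 * liftRest i B * g⁻¹.1 with hZ
    have hc : ∀ d η : Fin m → F, η ⬝ᵥ b' = 0 → η ⬝ᵥ d = 0 →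
        op j (vecMulVec d η) * Z = Z * op j (vecMulVec d η) := by
      intro d η h1 h2
      obtain ⟨A, hA⟩ := hgen d η h1 h2
      have e : op j (vecMulVec d η) = g.1 * op i A * g⁻¹.1 := by
        rw [← hA]
        simp only [Matrix.mul_assoc, hgg, Matrix.mul_one]
        rw [← Matrix.mul_assoc, hgg, Matrix.one_mul]
      have hAB : op i A * liftRest i B = liftRest i B * op i A := (split i).injective (by
        rw [map_mul, map_mul, split_op_self, split_liftRest, ← Matrix.mul_kronecker_mul, ← Matrix.mul_kronecker_mul,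
          Matrix.mul_one, Matrix.one_mul, Matrix.one_mul, Matrix.mul_one])
      rw [e, hZ]
      rw [show g.1 * op i A * g⁻¹.1 * (g.1 * liftRest i B * g⁻¹.1) = g.1 * (op i A * (g⁻¹.1 * g.1) * liftRest i B) * g⁻¹.1 by
        simp only [Matrix.mul_assoc], show g.1 * liftRest i B * g⁻¹.1 * (g.1 * op i A * g⁻¹.1) =
          g.1 * (liftRest i B * (g⁻¹.1 * g.1) * op i A) * g⁻¹.1 by simp only [Matrix.mul_assoc], hgi, Matrix.mul_one,
        Matrix.mul_one, hAB]
    have hsc : ∀ u v : Rest j → Fin m, ∃ c : F, (Matrix.of fun a a' => split j Z (a, u) (a', v)) = c • 1 := by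
      intro u v
      by_contra hne
      push Not at hne
      obtain ⟨d, hd⟩ := exists_not_eigen hne
      obtain ⟨η, hη0, hηb, hηd⟩ := CfsgLib.Classical.TensorMax.exists_perp_two h3 b' d
      rw [dotProduct_comm] at hηb hηd
      set E := Matrix.of fun a a' => split j Z (a, u) (a', v)
      have hE : vecMulVec d η * E = E * vecMulVec d η := by
        ext a a'
        have h4 := congrArg (fun X => split j X (a, u) (a', v)) (hc d η hηb hηd)
        simp only [map_mul, split_op_self, Matrix.mul_apply, Fintype.sum_prod_type, Matrix.kroneckerMap_apply,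
          Matrix.one_apply, mul_ite, mul_one, mul_zero, ite_mul, zero_mul, Finset.sum_ite_eq, Finset.sum_ite_eq',
          Finset.mem_univ, if_true] at h4
        simpa [E, Matrix.mul_apply] using h4
      obtain ⟨δ, hδ⟩ := exists_dot_one hη0
      rw [dotProduct_comm] at hδ
      have h5 := congrArg (· *ᵥ δ) hE
      simp only [← Matrix.mulVec_mulVec, vecMulVec_mulVec, op_smul_eq_smul, hδ, one_smul] at h5
      exact hd (h5 ▸ Submodule.smul_mem _ _ (Submodule.mem_span_singleton_self d))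
    choose W hW using hsc
    refine ⟨Matrix.of W, (split j).injective ?_⟩
    rw [split_liftRest]
    ext ⟨a, u⟩ ⟨a', v⟩
    have := congrFun (congrFun (hW u v) a) a'
    rw [Matrix.of_apply] at this
    rw [this, Matrix.smul_apply, Matrix.kroneckerMap_apply, smul_eq_mul, mul_comm, Matrix.of_apply]
  choose f hf using hcomm
  have hlinj : ∀ l : κ, Function.Injective (liftRest l : TMat F (Rest l) m → TMat F κ m) := fun l B B' e => by
    have h1 := congrArg (split l) e
    rw [split_liftRest, split_liftRest] at h1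
    ext u v
    have := congrFun (congrFun h1 (⟨0, by omega⟩, u)) (⟨0, by omega⟩, v)
    simpa using this
  have hfinj : Function.Injective f := fun B B' e => hlinj i (by
    have h1 : g.1 * liftRest i B * g⁻¹.1 = g.1 * liftRest i B' * g⁻¹.1 := by rw [hf, hf, e]
    have := congrArg (fun X => g⁻¹.1 * X * g.1) h1
    simpa [← Matrix.mul_assoc, Matrix.mul_assoc _ g⁻¹.1] using this)
  have hfs : Function.Surjective f := by
    refine ((Fintype.bijective_iff_injective_and_card f).2 ⟨hfinj, ?_⟩).2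
    have : Fintype.card (Rest i → Fin m) = Fintype.card (Rest j → Fin m) := by
      simp [Fintype.card_subtype_compl]
    exact Fintype.card_congr (Matrix.reindex (Fintype.equivOfCardEq this) (Fintype.equivOfCardEq this))
  -- the factor `i`
  intro A
  refine op_of_commute_rest (by omega) j fun B' => ?_
  obtain ⟨B, rfl⟩ := hfs B'
  have hAB : liftRest i B * op i A = op i A * liftRest i B := (split i).injective (by
    rw [map_mul, map_mul, split_op_self, split_liftRest, ← Matrix.mul_kronecker_mul, ← Matrix.mul_kronecker_mul,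
      Matrix.mul_one, Matrix.one_mul, Matrix.one_mul, Matrix.mul_one])
  rw [← hf, show g.1 * liftRest i B * g⁻¹.1 * (g.1 * op i A * g⁻¹.1) =
      g.1 * (liftRest i B * (g⁻¹.1 * g.1) * op i A) * g⁻¹.1 by simp only [Matrix.mul_assoc],
    show g.1 * op i A * g⁻¹.1 * (g.1 * liftRest i B * g⁻¹.1) =
      g.1 * (op i A * (g⁻¹.1 * g.1) * liftRest i B) * g⁻¹.1 by simp only [Matrix.mul_assoc], hgi, Matrix.mul_one,
    Matrix.mul_one, hAB]

theorem perm_unique (h2 : 2 ≤ m) {C D : κ → GL (Fin m) F} {σ τ : Equiv.Perm κ}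
    (h : tensU C * permU σ = tensU D * permU τ) : σ = τ := Equiv.ext fun l => by
  refine perm_eq_of_conj (by omega) (g := tensU C * permU σ) rfl (A := Matrix.single ⟨0, by omega⟩ ⟨0, by omega⟩ (1 : F))
    (B := (D (τ l)).1 * Matrix.single ⟨0, by omega⟩ ⟨0, by omega⟩ (1 : F) * (D (τ l))⁻¹.1)
    (single_ne_smul_one h2 _ _) ?_
  rw [h, wreathT_mul_op]

/-- An exchange permutes the factors by a transposition. -/
theorem SwapType.sign {h : GL (κ → Fin m) F} (hs : SwapType h) {C : κ → GL (Fin m) F} {σ : Equiv.Perm κ}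
    (he : h = tensU C * permU σ) : Equiv.Perm.sign σ = -1 := by
  obtain ⟨hm, -, k, l, D, hkl, hd⟩ := hs
  have hinv : (tensU D)⁻¹ = tensU fun a => (D a)⁻¹ := inv_eq_of_mul_eq_one_right (by
    rw [tensU_mul]
    simpa using tensU_one)
  have h1 : h = tensU (fun a => D a * (D ((Equiv.swap k l)⁻¹ a))⁻¹) * permU (Equiv.swap k l) := by
    rw [hd, hinv, mul_assoc, permU_mul_tensU, ← mul_assoc, tensU_mul]
  rw [perm_unique (by omega) (he.symm.trans h1), Equiv.Perm.sign_swap hkl]

/-- An automorphism of a matrix algebra is inner. -/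
theorem exists_inner {f : Matrix (Fin m) (Fin m) F → Matrix (Fin m) (Fin m) F} (h0 : 0 < m)
    (hmul : ∀ A B, f (A * B) = f A * f B) (hadd : ∀ A B, f (A + B) = f A + f B)
    (hsmul : ∀ (c : F) A, f (c • A) = c • f A) (hinj : ∀ A, f A = 0 → A = 0) :
    ∃ T : GL (Fin m) F, ∀ A, f A * T.1 = T.1 * A := by
  set o : Fin m := ⟨0, h0⟩
  obtain ⟨w, hw⟩ : ∃ w, f (Matrix.single o o 1) *ᵥ w ≠ 0 := by
    by_contra hc
    push Not at hc
    have := hinj _ (Matrix.ext_iff_mulVec.2 fun w => by rw [hc, Matrix.zero_mulVec])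
    simpa using congrFun (congrFun this o) o
  set T : Matrix (Fin m) (Fin m) F := Matrix.of fun a b => (f (Matrix.single b o 1) *ᵥ w) a with hT
  have hcol : ∀ b, T *ᵥ Pi.single b 1 = f (Matrix.single b o 1) *ᵥ w := fun b => by
    rw [Matrix.mulVec_single_one]; rfl
  have hf0 : f 0 = 0 := by
    have := hsmul 0 0
    rwa [zero_smul, zero_smul] at this
  have hsum : ∀ {α : Type} (s : Finset α) (A : α → Matrix (Fin m) (Fin m) F), f (∑ a ∈ s, A a) = ∑ a ∈ s, f (A a) :=
    fun s A => map_sum (AddMonoidHom.mk' f hadd) A s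
  have key : ∀ A, f A * T = T * A := fun A => by
    refine Matrix.ext_of_mulVec_single fun b => ?_
    rw [← Matrix.mulVec_mulVec, hcol, Matrix.mulVec_mulVec, ← hmul, ← Matrix.mulVec_mulVec]
    rw [show A * Matrix.single b o 1 = ∑ a, A a b • Matrix.single a o (1 : F) by
      ext x y
      simp [Matrix.sum_apply, Matrix.mul_apply, Matrix.single_apply, ite_and, mul_comm]]
    rw [hsum, Matrix.sum_mulVec]
    simp only [hsmul, Matrix.smul_mulVec, ← hcol, ← Matrix.mulVec_smul, ← Matrix.mulVec_sum]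
    congr 1
    funext x
    simp [Matrix.mulVec, dotProduct, Finset.sum_apply, Pi.single_apply]
  have hdet : T.det ≠ 0 := by
    intro h
    obtain ⟨v, hv0, hv⟩ := Matrix.exists_mulVec_eq_zero_iff.2 h
    obtain ⟨a, ha⟩ := Function.ne_iff.1 hv0
    have h1 := congrArg (f (Matrix.single o a 1) *ᵥ ·) hv
    simp only [Matrix.mulVec_mulVec, key, Matrix.mulVec_zero] at h1
    rw [← Matrix.mulVec_mulVec, Matrix.single_mulVec] at h1
    rw [show Function.update (0 : Fin m → F) o ((1 : F) * v a) = v a • Pi.single o 1 by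
      funext x
      by_cases hx : x = o
      · subst hx; simp
      · simp [hx], Matrix.mulVec_smul, hcol, smul_eq_zero] at h1
    exact h1.elim ha hw
  exact ⟨GeneralLinearGroup.mkOfDetNeZero T hdet, key⟩

/-- Fusion of roots gives a slice-fixing element or one centralising a factor. -/
theorem fusion {M : Subgroup (GL (κ → Fin m) F)} (hM : Over M) (h3 : 3 ≤ m) (hNF : ¬ NoFuse M) :
    FixSlice M ∨ CentFac M := by
  classical
  unfold NoFuse at hNF
  push Not at hNF
  obtain ⟨g₀, hg₀, hg₀T, i, b, β, hb, hβ, hβb, r, hr, hrT⟩ := hNF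
  have hrM : r ∈ M := by
    obtain ⟨r', hr', -, e⟩ := hM.exists_root i hβb
    rwa [show r = r' from Units.ext (hr.trans e.symm)]
  have hprop : ∀ (i : κ) {b β : Fin m → F} {r g : GL (κ → Fin m) F}, b ≠ 0 → β ≠ 0 → β ⬝ᵥ b = 0 →
      r.1 = 1 + op i (vecMulVec b β) → g * r * g⁻¹ ≠ 1 ∧ ((g * r * g⁻¹).1 - 1) * ((g * r * g⁻¹).1 - 1) = 0 ∧
      ((g * r * g⁻¹).1 - 1).rank ≤ Fintype.card (Rest i → Fin m) ∧
      (g * r * g⁻¹).1 - 1 = g.1 * op i (vecMulVec b β) * g⁻¹.1 := by
    intro i b β r g hb hβ hβb hr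
    have e : (g * r * g⁻¹).1 - 1 = g.1 * op i (vecMulVec b β) * g⁻¹.1 := by
      rw [Units.val_mul, Units.val_mul, hr, Matrix.mul_add, Matrix.mul_one, Matrix.add_mul, ← Units.val_mul,
        mul_inv_cancel, Units.val_one, add_sub_cancel_left]
    refine ⟨fun h1 => ?_, ?_, ?_, e⟩
    · rw [mul_inv_eq_one] at h1
      have h2 : r = 1 := by simpa using h1
      rw [h2, Units.val_one, left_eq_add, ← op_zero i] at hr
      exact (vecMulVec_eq_zero_iff'.1 (op_injective i hr)).elim hb hβ
    · rw [e, show ∀ N : TMat F κ m, g.1 * N * g⁻¹.1 * (g.1 * N * g⁻¹.1) = g.1 * (N * (g⁻¹.1 * g.1) * N) * g⁻¹.1 from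
        fun N => by simp only [Matrix.mul_assoc], ← Units.val_mul, inv_mul_cancel, Units.val_one, Matrix.mul_one,
        ← map_mul, vecMulVec_mul_vecMulVec, hβb, zero_smul, vecMulVec_zero, op_zero, Matrix.mul_zero, Matrix.zero_mul]
    · rw [e]
      exact ((Matrix.rank_mul_le_left _ _).trans (Matrix.rank_mul_le_right _ _)).trans (rank_op_rankOne_le i b β)
  -- a root mapped to a root
  obtain ⟨g, hg, hgT, j, b', β', hgr⟩ : ∃ g ∈ M, g ∉ wreathT F κ m ∧ ∃ (j : κ) (b' β' : Fin m → F),
      g.1 * op i (vecMulVec b β) * g⁻¹.1 = op j (vecMulVec b' β') := by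
    have hT' : g₀⁻¹ * r * g₀⁻¹⁻¹ ∈ wreathT F κ m := by rw [inv_inv]; exact hrT
    obtain ⟨h1, hq, hrk, e⟩ := hprop i (g := g₀⁻¹) hb hβ hβb hr
    rcases classify h3 i hT' h1 hq hrk with ⟨j, b', β', -, -, -, hj⟩ | hs
    · exact ⟨g₀⁻¹, inv_mem hg₀, fun h => hg₀T (by simpa using inv_mem h), j, b', β', by
        rw [← e, hj, add_sub_cancel_left]⟩
    · obtain ⟨w, hw, hwT, hwr⟩ := exists_centraliser_of_swap hM i hb hβ hβb hr (inv_mem hg₀) hs
      refine ⟨w, hw, hwT, i, b, β, ?_⟩
      have h5 : w * r * w⁻¹ = r := by rw [hwr, mul_inv_cancel_right]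
      rw [← (hprop i (g := w) hb hβ hβb hr).2.2.2, h5, hr, add_sub_cancel_left]
  rcases slice_dichotomy hM h3 hg hb hβ hgr with hfs | hmap
  · exact Or.inl hfs
  by_contra hcon
  push Not at hcon
  obtain ⟨hnF, hnC⟩ := hcon
  -- every factor is mapped to a factor
  have hall : ∀ l, ∃ k, MapsFac g l k := by
    intro l
    by_cases hli : l = i
    · exact ⟨j, hli ▸ hmap⟩
    let o : Fin m := ⟨0, by omega⟩
    let b₀ : Fin m → F := Pi.single o 1
    let β₁ : Fin m → F := Pi.single ⟨1, by omega⟩ 1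
    let β₂ : Fin m → F := Pi.single ⟨2, by omega⟩ 1
    have hb₀ : b₀ ≠ 0 := by simp [b₀]
    have hβ₁ : β₁ ≠ 0 := by simp [β₁]
    have hβ₂ : β₂ ≠ 0 := by simp [β₂]
    have hβ₃ : β₁ + β₂ ≠ 0 := fun e => by
      have := congrFun e ⟨1, by omega⟩
      simp [β₁, β₂] at this
    have ho₁ : β₁ ⬝ᵥ b₀ = 0 := by simp [β₁, b₀, o]
    have ho₂ : β₂ ⬝ᵥ b₀ = 0 := by simp [β₂, b₀, o]
    have ho₃ : (β₁ + β₂) ⬝ᵥ b₀ = 0 := by rw [add_dotProduct, ho₁, ho₂, add_zero]
    have hcase : ∀ {β : Fin m → F}, β ≠ 0 → β ⬝ᵥ b₀ = 0 → ∀ {x : GL (κ → Fin m) F}, x ∈ M →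
        x.1 = 1 + op l (vecMulVec b₀ β) → (∃ k, MapsFac g l k) ∨ SwapType (g * x * g⁻¹) := by
      intro β hβ0 ho x hx hxe
      obtain ⟨h1, hq, hrk, e⟩ := hprop l (g := g) hb₀ hβ0 ho hxe
      have hT : g * x * g⁻¹ ∈ wreathT F κ m := by
        by_contra hT
        refine hnC ?_
        obtain ⟨B, hB⟩ := split_of_commute (by omega : 0 < m) j (Z := (g * x * g⁻¹).1) fun A => by
          have hcomm : ∀ A, op j A * (g.1 * op l (vecMulVec b₀ β) * g⁻¹.1) =
              g.1 * op l (vecMulVec b₀ β) * g⁻¹.1 * op j A := fun A => by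
            obtain ⟨A', hA'⟩ : ∃ A', g.1 * op i A' * g⁻¹.1 = op j A := by
              choose F' hF' using hmap
              have hinjF : Function.Injective F' := fun A₁ A₂ h' => op_injective i (by
                have h1 : g.1 * op i A₁ * g⁻¹.1 = g.1 * op i A₂ * g⁻¹.1 := by rw [hF', hF', h']
                have := congrArg (fun X => g⁻¹.1 * X * g.1) h1
                simpa [← Matrix.mul_assoc, Matrix.mul_assoc _ g⁻¹.1] using this)
              obtain ⟨A', rfl⟩ := (Finite.injective_iff_surjective.1 hinjF) A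
              exact ⟨A', hF' A'⟩
            rw [← hA', show g.1 * op i A' * g⁻¹.1 * (g.1 * op l (vecMulVec b₀ β) * g⁻¹.1) =
              g.1 * (op i A' * (g⁻¹.1 * g.1) * op l (vecMulVec b₀ β)) * g⁻¹.1 by simp only [Matrix.mul_assoc],
              show g.1 * op l (vecMulVec b₀ β) * g⁻¹.1 * (g.1 * op i A' * g⁻¹.1) =
              g.1 * (op l (vecMulVec b₀ β) * (g⁻¹.1 * g.1) * op i A') * g⁻¹.1 by simp only [Matrix.mul_assoc],
              ← Units.val_mul, inv_mul_cancel, Units.val_one, Matrix.mul_one, Matrix.mul_one,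
              op_comm (Ne.symm hli)]
          have h4 := hcomm A
          rw [← e, Matrix.mul_sub, Matrix.sub_mul, Matrix.mul_one, Matrix.one_mul] at h4
          exact sub_left_inj.1 h4
        have hBm : (B - 1) * (B - 1) = 0 := by
          have h4 := congrArg (split j) hq
          simp only [map_mul, map_sub, map_one, map_zero, hB, ← Matrix.one_kronecker_one] at h4
          have e2 : (1 : Matrix (Fin m) (Fin m) F) ⊗ₖ B - (1 : Matrix (Fin m) (Fin m) F) ⊗ₖ (1 : TMat F (Rest j) m) =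
              (1 : Matrix (Fin m) (Fin m) F) ⊗ₖ (B - 1) := by
            ext p q
            simp [mul_sub, Matrix.one_apply, Prod.ext_iff, ite_and]
            by_cases h1 : p.1 = q.1 <;> simp [h1]
          rw [e2, ← Matrix.mul_kronecker_mul, Matrix.one_mul] at h4
          ext u v
          have := congrFun (congrFun h4 (o, u)) (o, v)
          simpa using this
        have hdet : det B = 1 := by
          have h4 := det_one_add_nilpotent (C := B - 1) ⟨2, by rw [pow_two, hBm]⟩
          rwa [add_sub_cancel] at h4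
        let BU := GeneralLinearGroup.mkOfDetNeZero B (by rw [hdet]; exact one_ne_zero)
        have hBU : Units.map (liftRest j) BU = g * x * g⁻¹ := Units.ext ((split j).injective (by
          rw [hB]; exact split_liftRest j B))
        exact ⟨j, BU, hdet, hBU ▸ mul_mem (mul_mem hg hx) (inv_mem hg), hBU ▸ hT⟩
      rcases classify h3 l hT h1 hq hrk with ⟨k, b'', β'', -, -, -, hk⟩ | hs
      · rcases slice_dichotomy hM h3 hg hb₀ hβ0 (show g.1 * op l (vecMulVec b₀ β) * g⁻¹.1 = op k (vecMulVec b'' β'') by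
          rw [← e, hk, add_sub_cancel_left]) with hfs | hmk
        · exact absurd hfs hnF
        · exact Or.inl ⟨k, hmk⟩
      · exact Or.inr hs
    obtain ⟨x₁, hx₁, hx₁T, e₁⟩ := hM.exists_root l ho₁
    obtain ⟨x₂, hx₂, hx₂T, e₂⟩ := hM.exists_root l ho₂
    have e₃ : (x₁ * x₂).1 = 1 + op l (vecMulVec b₀ (β₁ + β₂)) := by
      rw [Units.val_mul, e₁, e₂, Matrix.add_mul, Matrix.one_mul, Matrix.mul_add, Matrix.mul_one, ← map_mul,
        vecMulVec_mul_vecMulVec, ho₁, zero_smul, vecMulVec_zero, op_zero, add_zero, vecMulVec_add, op_add]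
      abel
    rcases hcase hβ₁ ho₁ hx₁ e₁ with h | s₁
    · exact h
    rcases hcase hβ₂ ho₂ hx₂ e₂ with h | s₂
    · exact h
    rcases hcase hβ₃ ho₃ (mul_mem hx₁ hx₂) e₃ with h | s₃
    · exact h
    exfalso
    have hT : ∀ {h : GL (κ → Fin m) F}, SwapType h → h ∈ wreathT F κ m := fun {h} hs => by
      obtain ⟨-, -, k, l, D, -, rfl⟩ := hs
      exact mul_mem (mul_mem (tensU_mem D) (permU_mem _)) (inv_mem (tensU_mem D))
    obtain ⟨σ₁, C₁, h₁⟩ := hT s₁
    obtain ⟨σ₂, C₂, h₂⟩ := hT s₂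
    have h₃ : g * (x₁ * x₂) * g⁻¹ = tensU (fun a => C₁ a * C₂ (σ₁⁻¹ a)) * permU (σ₁ * σ₂) := by
      rw [show g * (x₁ * x₂) * g⁻¹ = (g * x₁ * g⁻¹) * (g * x₂ * g⁻¹) by group, h₁, h₂, map_mul, ← tensU_mul,
        mul_assoc (tensU C₁), ← mul_assoc (permU σ₁), permU_mul_tensU]
      simp only [mul_assoc]
    have := s₃.sign h₃
    rw [map_mul, s₁.sign h₁, s₂.sign h₂] at this
    exact absurd this (by decide)
  choose σ₀ hσ₀ using hall
  choose φ hφ using hσ₀
  have hgi : g⁻¹.1 * g.1 = 1 := by rw [← Units.val_mul, inv_mul_cancel, Units.val_one]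
  have hback : ∀ (_l : κ) {X Y : TMat F κ m}, g.1 * X * g⁻¹.1 = g.1 * Y * g⁻¹.1 → X = Y := fun _l {X Y} h' => by
    have := congrArg (fun Z => g⁻¹.1 * Z * g.1) h'
    simpa [← Matrix.mul_assoc, Matrix.mul_assoc _ g⁻¹.1] using this
  have hφinj : ∀ l, Function.Injective (φ l) := fun l A A' h' =>
    op_injective l (hback l (by rw [hφ, hφ, h']))
  have hσinj : Function.Injective σ₀ := fun l l' h' => by
    by_contra hne
    obtain ⟨A', hA'⟩ := (Finite.injective_iff_surjective.1 (hφinj l'))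
      (φ l (Matrix.single ⟨0, by omega⟩ ⟨0, by omega⟩ 1))
    have h4 := hback l (show g.1 * op l (Matrix.single ⟨0, by omega⟩ ⟨0, by omega⟩ 1) * g⁻¹.1 =
      g.1 * op l' A' * g⁻¹.1 by rw [hφ, hφ, hA', h'])
    obtain ⟨c, hc⟩ := eq_of_op_eq_op hne h4
    exact single_ne_smul_one (by omega) _ _ c hc
  let σ : Equiv.Perm κ := Equiv.ofBijective σ₀ (Finite.injective_iff_bijective.1 hσinj)
  have hT : ∀ l, ∃ T : GL (Fin m) F, ∀ A, φ l A * T.1 = T.1 * A := fun l => by
    refine exists_inner (by omega) (fun A B => op_injective (σ₀ l) ?_) (fun A B => op_injective (σ₀ l) ?_)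
      (fun c A => op_injective (σ₀ l) ?_) (fun A hA => hφinj l ?_)
    · rw [map_mul, ← hφ, ← hφ, ← hφ, map_mul]
      rw [show g.1 * op l A * g⁻¹.1 * (g.1 * op l B * g⁻¹.1) = g.1 * (op l A * (g⁻¹.1 * g.1) * op l B) * g⁻¹.1 by
        simp only [Matrix.mul_assoc], hgi, Matrix.mul_one]
    · rw [op_add, ← hφ, ← hφ, ← hφ, op_add, Matrix.mul_add, Matrix.add_mul]
    · rw [op_smul, ← hφ, ← hφ, op_smul, Matrix.mul_smul, Matrix.smul_mul]
    · rw [hA]
      refine op_injective (σ₀ l) ?_
      rw [← hφ, op_zero, op_zero, Matrix.mul_zero, Matrix.zero_mul]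
  choose T hT using hT
  set u := tensU (fun a => T (σ.symm a)) * permU σ with hu
  have hcomm : ∀ l A, op l A * (u⁻¹ * g).1 = (u⁻¹ * g).1 * op l A := fun l A => by
    have h4 : g.1 * op l A = op (σ₀ l) (φ l A) * g.1 := by
      rw [← hφ, Matrix.mul_assoc, hgi, Matrix.mul_one]
    have h5 : u.1 * op l A = op (σ₀ l) (φ l A) * u.1 := by
      rw [hu, wreathT_mul_op, show σ l = σ₀ l from rfl, show σ.symm (σ₀ l) = l from σ.symm_apply_apply l, ← hT,
        Matrix.mul_assoc, ← Units.val_mul, mul_inv_cancel, Units.val_one, Matrix.mul_one]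
    have h6 : op l A * u⁻¹.1 = u⁻¹.1 * op (σ₀ l) (φ l A) := by
      have := congrArg (fun X => u⁻¹.1 * X * u⁻¹.1) h5
      simp only [← Matrix.mul_assoc, ← Units.val_mul, inv_mul_cancel, Units.val_one, Matrix.one_mul] at this
      rwa [Matrix.mul_assoc _ u.1, ← Units.val_mul, mul_inv_cancel, Units.val_one, Matrix.mul_one] at this
    rw [Units.val_mul, ← Matrix.mul_assoc, h6, Matrix.mul_assoc, ← h4, Matrix.mul_assoc]
  obtain ⟨c, hc⟩ := eq_smul_one_of_split fun l => split_of_commute (by omega : 0 < m) l (hcomm l)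
  refine hgT ?_
  rw [show g = u * (u⁻¹ * g) by rw [mul_inv_cancel_left]]
  refine mul_mem ⟨σ, _, hu⟩ (op_mem_wreathT i (A := c • 1) ?_)
  rw [hc, op_smul, map_one]

end CfsgLib.Classical.WreathMax
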