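import Cfsg.Agent.Lib.Classical.WreathMax.Ops

/-!
# Lower bounds for the rank of short sums of tensor operators
-/

set_option autoImplicit false
set_option linter.unusedSectionVars false

open Matrix Module
open scoped Kronecker

namespace CfsgLib.Classical.WreathMax

theorem exists_not_eigen {F : Type*} [Field F] {J : Type} [Fintype J] [DecidableEq J] {A : Matrix J J F}
    (h : ∀ c : F, A ≠ c • 1) : ∃ u, A *ᵥ u ∉ F ∙ u := by
  by_contra hno
  push Not at hno
  obtain ⟨a, ha⟩ := (A.mulVecLin).exists_eq_smul_id_of_forall_notLinearIndependent (fun u hli => by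
    obtain ⟨a, ha⟩ := Submodule.mem_span_singleton.1 (hno u)
    have hu : u ≠ 0 := by simpa using hli.ne_zero 0
    exact (LinearIndependent.pair_iff' hu).1 hli a (by simpa using ha))
  refine h a (Matrix.ext_iff_mulVec.2 fun u => ?_)
  rw [smul_mulVec, one_mulVec]
  simpa using LinearMap.congr_fun ha u

section Split

variable {F : Type*} [Field F] {m : ℕ} {ι : Type} [Fintype ι] [DecidableEq ι]

/-- The tensor of two vectors. -/
def tv (u : Fin m → F) (w : ι → F) : Fin m × ι → F := fun p => u p.1 * w p.2

theorem kronecker_mulVec_tv (A : Matrix (Fin m) (Fin m) F) (P : Matrix ι ι F) (u : Fin m → F) (w : ι → F) :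
    (A ⊗ₖ P) *ᵥ tv u w = tv (A *ᵥ u) (P *ᵥ w) := by
  funext p
  simp only [Matrix.mulVec, dotProduct, tv, Fintype.sum_prod_type, Matrix.kroneckerMap_apply, Finset.sum_mul,
    Finset.mul_sum]
  rw [Finset.sum_comm]
  exact Finset.sum_congr rfl fun a _ => Finset.sum_congr rfl fun b _ => by ring

/-- The contraction of a tensor with a functional on the first factor. -/
def slant (θ : (Fin m → F) →ₗ[F] F) : (Fin m × ι → F) →ₗ[F] (ι → F) where
  toFun v := fun j => θ fun a => v (a, j)
  map_add' v w := by funext j; exact map_add θ (fun a => v (a, j)) fun a => w (a, j)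
  map_smul' c v := by funext j; exact map_smul θ c fun a => v (a, j)

theorem slant_tv (θ : (Fin m → F) →ₗ[F] F) (u : Fin m → F) (w : ι → F) : slant θ (tv u w) = θ u • w := by
  funext j
  show θ (fun a => u a * w j) = θ u * w j
  rw [show (fun a => u a * w j) = w j • u from funext fun a => by simp [mul_comm], map_smul, smul_eq_mul, mul_comm]

/-- Two non-scalar factors give rank larger than one factor. -/
theorem card_lt_rank (h3 : 3 ≤ m) {A : Matrix (Fin m) (Fin m) F} (hA : ∀ c : F, A ≠ c • 1) {P Q : Matrix ι ι F}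
    (hP : ∀ w, P *ᵥ w = 0 → w = 0) {w₀ : ι → F} (hQ : Q *ᵥ w₀ ∉ F ∙ (P *ᵥ w₀)) :
    Fintype.card ι < (A ⊗ₖ P + (1 : Matrix (Fin m) (Fin m) F) ⊗ₖ Q).rank := by
  obtain ⟨u, hu⟩ := exists_not_eigen hA
  obtain ⟨z, hz⟩ : ∃ z, z ∉ Submodule.span F ({u, A *ᵥ u} : Set (Fin m → F)) := by
    by_contra hall
    push Not at hall
    have htop : (⊤ : Submodule F (Fin m → F)) ≤ Submodule.span F ({u, A *ᵥ u} : Set _) := fun x _ => hall x
    have h1 := Submodule.finrank_mono htop
    rw [finrank_top, finrank_fin_fun] at h1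
    classical
    have h2 := finrank_span_le_card (R := F) ({u, A *ᵥ u} : Set (Fin m → F))
    have h4 : ({u, A *ᵥ u} : Set (Fin m → F)).toFinset.card ≤ 2 := by
      rw [Set.toFinset_insert, Set.toFinset_singleton]
      exact Finset.card_le_two
    omega
  set Y := A ⊗ₖ P + (1 : Matrix (Fin m) (Fin m) F) ⊗ₖ Q with hY
  let φ : ((ι → F) × F) →ₗ[F] (Fin m × ι → F) :=
    Y.mulVecLin ∘ₗ
      (LinearMap.coprod
        { toFun := fun w => tv u w
          map_add' := fun w w' => by funext p; simp [tv, mul_add]
          map_smul' := fun c w => by funext p; simp [tv]; ring }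
        (LinearMap.toSpanSingleton F _ (tv z w₀)))
  have hinj : Function.Injective φ := by
    rw [injective_iff_map_eq_zero]
    rintro ⟨w, c⟩ h
    have h' : tv (A *ᵥ u) (P *ᵥ w) + tv u (Q *ᵥ w) + c • (tv (A *ᵥ z) (P *ᵥ w₀) + tv z (Q *ᵥ w₀)) = 0 := by
      rw [← h]
      simp only [φ, LinearMap.comp_apply, LinearMap.coprod_apply, LinearMap.coe_mk, AddHom.coe_mk,
        LinearMap.toSpanSingleton_apply, Matrix.mulVecLin_apply, Matrix.mulVec_add, Matrix.mulVec_smul, hY,
        Matrix.add_mulVec, kronecker_mulVec_tv, Matrix.one_mulVec]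
    obtain ⟨θ, hθz, hθ⟩ := Submodule.exists_dual_map_eq_bot_of_notMem hz inferInstance
    have hθ0 : ∀ y ∈ ({u, A *ᵥ u} : Set (Fin m → F)), θ y = 0 := fun y hy => by
      have := Submodule.mem_map_of_mem (f := θ) (Submodule.subset_span hy)
      rwa [hθ, Submodule.mem_bot] at this
    have h1 := congrArg (slant (ι := ι) θ) h'
    simp only [map_add, map_smul, slant_tv, map_zero, hθ0 u (Set.mem_insert _ _),
      hθ0 (A *ᵥ u) (Set.mem_insert_of_mem _ rfl), zero_smul, zero_add, smul_smul] at h1
    have hc : c = 0 := by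
      by_contra hc
      refine hQ (Submodule.mem_span_singleton.2 ⟨-(θ z)⁻¹ * θ (A *ᵥ z), ?_⟩)
      funext j
      have := congrFun h1 j
      simp only [Pi.add_apply, Pi.smul_apply, smul_eq_mul, Pi.zero_apply] at this ⊢
      rw [smul_add, smul_smul, smul_smul] at h1
      field_simp
      refine mul_left_cancel₀ hc ?_
      linear_combination -this
    rw [hc, zero_smul, add_zero] at h'
    obtain ⟨η, hη, hηu⟩ := Submodule.exists_dual_map_eq_bot_of_notMem hu inferInstance
    have hηu0 : η u = 0 := by
      have := Submodule.mem_map_of_mem (f := η) (Submodule.mem_span_singleton_self u)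
      rwa [hηu, Submodule.mem_bot] at this
    have h2 := congrArg (slant (ι := ι) η) h'
    simp only [map_add, slant_tv, map_zero, hηu0, zero_smul, add_zero] at h2
    exact Prod.ext (hP w ((smul_eq_zero.1 h2).resolve_left hη)) hc
  have hle : LinearMap.range φ ≤ LinearMap.range Y.mulVecLin := LinearMap.range_comp_le_range _ _
  have h1 := Submodule.finrank_mono hle
  rw [LinearMap.finrank_range_of_inj hinj, finrank_prod, finrank_self, Module.finrank_fintype_fun_eq_card] at h1
  rw [Matrix.rank]
  omega

end Split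

variable {F : Type*} [Field F] {κ : Type} [Fintype κ] [DecidableEq κ] {m : ℕ}

theorem rank_split (i : κ) (Y : TMat F κ m) : (split i Y).rank = Y.rank :=
  Matrix.rank_reindex _ _ _

/-- A sum of one-factor operators is a scalar only when every summand is. -/
theorem scalar_of_sum_op (s : Finset κ) (A : κ → Matrix (Fin m) (Fin m) F) {c : F}
    (h : ∑ l ∈ s, op l (A l) = c • (1 : TMat F κ m)) {i : κ} (hi : i ∈ s) : ∃ d : F, A i = d • 1 := by
  rcases Nat.eq_zero_or_pos m with rfl | hm
  · exact ⟨0, Subsingleton.elim _ _⟩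
  set o : Fin m := ⟨0, hm⟩
  have key : ∀ a b : Fin m, a ≠ b → A i a b = 0 := fun a b hab => by
    have h1 := congrFun (congrFun h (Function.update (fun _ => o) i a)) (Function.update (fun _ => o) i b)
    rw [Matrix.sum_apply, Finset.sum_eq_single i] at h1
    · rw [op_apply, if_pos fun l hl => by rw [Function.update_of_ne hl, Function.update_of_ne hl],
        Function.update_self, Function.update_self, Matrix.smul_apply, Matrix.one_apply_ne, smul_zero] at h1
      · exact h1
      · exact fun e => hab (by simpa using congrFun e i)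
    · intro l _ hl
      rw [op_apply, if_neg]
      exact fun hall => hab (by simpa using hall i hl.symm)
    · exact fun h' => absurd hi h'
  have hdia : ∀ a : Fin m, A i a a = A i o o := fun a => by
    have h1 := congrFun (congrFun h (Function.update (fun _ => o) i a)) (Function.update (fun _ => o) i a)
    have h2 := congrFun (congrFun h (fun _ => o)) (fun _ => o)
    rw [Matrix.smul_apply, Matrix.one_apply_eq, Matrix.sum_apply] at h1 h2
    rw [← h2, ← Finset.add_sum_erase _ _ hi, ← Finset.add_sum_erase _ _ hi, op_apply, op_apply,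
      if_pos fun _ _ => rfl, if_pos fun _ _ => rfl, Function.update_self] at h1
    refine add_right_cancel (h1.trans ?_)
    congr 1
    refine Finset.sum_congr rfl fun l hl => ?_
    rw [op_apply, op_apply, if_pos fun _ _ => rfl, if_pos fun _ _ => rfl,
      Function.update_of_ne (Finset.ne_of_mem_erase hl)]
  refine ⟨A i o o, ?_⟩
  ext a b
  by_cases hab : a = b
  · subst hab; rw [hdia, Matrix.smul_apply, Matrix.one_apply_eq, smul_eq_mul, mul_one]
  · rw [key a b hab, Matrix.smul_apply, Matrix.one_apply_ne hab, smul_zero]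

theorem rank_op_rankOne_le (i : κ) (b β : Fin m → F) :
    (op i (vecMulVec b β)).rank ≤ Fintype.card (Rest i → Fin m) := by
  rw [← rank_split i, split_op_self]
  set U : Matrix (Fin m × (Rest i → Fin m)) (Rest i → Fin m) F :=
    Matrix.of fun p k => if p.2 = k then b p.1 else 0
  set V : Matrix (Rest i → Fin m) (Fin m × (Rest i → Fin m)) F :=
    Matrix.of fun k q => if k = q.2 then β q.1 else 0
  have : vecMulVec b β ⊗ₖ (1 : TMat F (Rest i) m) = U * V := by
    ext p q
    simp only [Matrix.mul_apply, U, V, Matrix.of_apply, ite_mul, zero_mul, Finset.sum_ite_eq, Finset.mem_univ,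
      if_true, Matrix.kroneckerMap_apply, vecMulVec_apply, Matrix.one_apply, mul_ite, mul_one, mul_zero]
    simp
  rw [this]
  exact (Matrix.rank_mul_le_left U V).trans (Matrix.rank_le_card_width U)

/-- A sum of one-factor operators of small rank has at most one non-scalar summand. -/
theorem sum_op_eq_op (h3 : 3 ≤ m) (A : κ → Matrix (Fin m) (Fin m) F) (i₀ : κ)
    (hr : (∑ l, op l (A l)).rank ≤ Fintype.card (Rest i₀ → Fin m)) : ∃ i B, ∑ l, op l (A l) = op i B := by
  classical
  have hone : ∀ i j, i ≠ j → (∀ c : F, A i ≠ c • 1) → ∃ c : F, A j = c • 1 := by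
    intro i j hij hi
    by_contra hj
    push Not at hj
    set B : TMat F (Rest i) m := ∑ l : Rest i, op l (A l) with hB
    have hBne : ∀ c : F, B ≠ c • 1 := fun c hc => by
      obtain ⟨d, hd⟩ := scalar_of_sum_op Finset.univ (fun l : Rest i => A l) hc
        (Finset.mem_univ ⟨j, hij.symm⟩)
      exact hj d hd
    obtain ⟨w₀, hw₀⟩ := exists_not_eigen hBne
    have hsplit : split i (∑ l, op l (A l)) = A i ⊗ₖ (1 : TMat F (Rest i) m) + (1 : Matrix (Fin m) (Fin m) F) ⊗ₖ B := by
      rw [← Finset.add_sum_erase _ _ (Finset.mem_univ i), map_add, split_op_self, map_sum, hB,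
        Finset.sum_subtype (p := fun l => l ≠ i) (Finset.univ.erase i) (by simp)]
      congr 1
      rw [show (1 : Matrix (Fin m) (Fin m) F) ⊗ₖ (∑ l : Rest i, op l (A l)) =
          ∑ l : Rest i, (1 : Matrix (Fin m) (Fin m) F) ⊗ₖ op l (A l) by
        ext p q
        simp [Matrix.sum_apply, Finset.mul_sum]]
      exact Finset.sum_congr rfl fun l _ => split_op_other l.2 _
    have hlt := card_lt_rank (P := (1 : TMat F (Rest i) m)) (Q := B) h3 hi (fun w hw => by rwa [one_mulVec] at hw) (w₀ := w₀)
      (by rwa [one_mulVec])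
    rw [← hsplit, rank_split] at hlt
    have hcard : Fintype.card (Rest i → Fin m) = Fintype.card (Rest i₀ → Fin m) := by
      simp [Fintype.card_subtype_compl, Fintype.card_subtype_eq]
    omega
  by_cases hall : ∀ i, ∃ c : F, A i = c • 1
  · choose c hc using hall
    refine ⟨i₀, (∑ l, c l) • 1, ?_⟩
    simp only [hc, op_sum, op_smul, map_one, Finset.sum_smul]
  · push Not at hall
    obtain ⟨i, hi⟩ := hall
    have : ∀ l, ∃ c : F, l ≠ i → A l = c • 1 := fun l => by
      by_cases hl : l = i
      · exact ⟨0, fun h => absurd hl h⟩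
      · obtain ⟨c, hc⟩ := hone i l (Ne.symm hl) hi
        exact ⟨c, fun _ => hc⟩
    choose c hc using this
    refine ⟨i, A i + (∑ l ∈ Finset.univ.erase i, c l) • 1, ?_⟩
    rw [op_add, op_smul, map_one, Finset.sum_smul, ← Finset.add_sum_erase _ _ (Finset.mem_univ i)]
    congr 1
    exact Finset.sum_congr rfl fun l hl => by rw [hc l (Finset.ne_of_mem_erase hl), op_smul, map_one]

theorem op_mem_wreathT {g : GL (κ → Fin m) F} (i : κ) {A : Matrix (Fin m) (Fin m) F}
    (hg : g.1 = op i A) : g ∈ wreathT F κ m := by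
  by_cases hA : A.det = 0
  · exfalso
    obtain ⟨v, hv0, hv⟩ := Matrix.exists_mulVec_eq_zero_iff.2 hA
    obtain ⟨a, ha⟩ := Function.ne_iff.1 hv0
    set D : Matrix (Fin m) (Fin m) F := vecMulVec v (Pi.single a 1)
    have h1 : g.1 * op i D = 0 := by
      rw [hg, ← map_mul, Matrix.mul_vecMulVec, hv, zero_vecMulVec, op_zero]
    have h2 : op i D = 0 := by
      have := congrArg (g⁻¹.1 * ·) h1
      simpa [← Matrix.mul_assoc] using this
    have := congrFun (congrFun h2 (fun _ => a)) (fun _ => a)
    rw [op_apply, if_pos fun _ _ => rfl] at this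
    simp [D, vecMulVec_apply] at this
    exact ha this
  · refine ⟨1, Pi.mulSingle i (GeneralLinearGroup.mkOfDetNeZero A hA), ?_⟩
    rw [map_one, mul_one]
    apply Units.ext
    rw [hg, tensU_coe, op_eq_tens]
    congr 1
    funext l
    by_cases hl : l = i
    · subst hl; simp [GeneralLinearGroup.mkOfDetNeZero]
    · simp [hl]

end CfsgLib.Classical.WreathMax
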