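import Cfsg.Agent.Lib.Classical.WreathMax.PTrace
import Cfsg.Agent.Lib.Classical.WreathMax.Rank

/-!
# An overgroup without fusion of root elements out of the wreath stabiliser
-/

set_option autoImplicit false
set_option linter.unusedSectionVars false

open Matrix Module
open scoped Kronecker

namespace CfsgLib.Classical.WreathMax

section Sums

variable {F : Type*} [Field F] [Fintype F]

theorem sum_apply_mul_apply_eq_zero {k : ℕ} (h : 3 ≤ k ∨ (2 ≤ k ∧ 3 ≤ Fintype.card F)) (a b : Fin k) :
    ∑ v : Fin k → F, v a * v b = 0 := by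
  classical
  by_cases hc : ∃ c, c ≠ a ∧ c ≠ b
  · obtain ⟨c, hca, hcb⟩ := hc
    rw [← (Equiv.funSplitAt c F).symm.sum_comp, Fintype.sum_prod_type]
    simp only [Equiv.funSplitAt, Equiv.piSplitAt, Equiv.coe_fn_symm_mk, dif_neg hca.symm, dif_neg hcb.symm,
      Finset.sum_const, Finset.card_univ, nsmul_eq_mul, FiniteField.cast_card_eq_zero, zero_mul]
  · push Not at hc
    have hk : k ≤ 2 := by
      by_contra hk
      obtain ⟨c, -, hc'⟩ := Finset.exists_mem_notMem_of_card_lt_card (s := ({a, b} : Finset (Fin k))) (t := Finset.univ)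
        (lt_of_le_of_lt Finset.card_le_two (by simp; omega))
      simp only [Finset.mem_insert, Finset.mem_singleton, not_or] at hc'
      exact hc'.2 (hc c hc'.1)
    obtain ⟨hk2, hq⟩ := h.resolve_left (by omega)
    obtain ⟨t, ht⟩ : ∃ t : F, t ∉ ({0, 1} : Finset F) := by
      obtain ⟨t, -, ht⟩ := Finset.exists_mem_notMem_of_card_lt_card (s := ({0, 1} : Finset F)) (t := Finset.univ)
        (lt_of_le_of_lt Finset.card_le_two (by simp; omega))
      exact ⟨t, ht⟩
    simp only [Finset.mem_insert, Finset.mem_singleton, not_or] at ht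
    have hab : a ≠ b := by
      rintro rfl
      obtain ⟨c, hca⟩ : ∃ c : Fin k, c ≠ a := by
        haveI : Nontrivial (Fin k) := Fin.nontrivial_iff_two_le.2 hk2
        exact exists_ne a
      exact hca (hc c hca)
    -- scale the coordinate `a`
    set S := ∑ v : Fin k → F, v a * v b with hS
    let σ : (Fin k → F) ≃ (Fin k → F) :=
      Equiv.piCongrRight fun l => if l = a then Equiv.mulLeft₀ t ht.1 else Equiv.refl F
    have h1 : S = t * S := by
      rw [hS, Finset.mul_sum]
      rw [← σ.sum_comp fun v => v a * v b]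
      refine Finset.sum_congr rfl fun v _ => ?_
      simp [σ, hab.symm, mul_assoc]
    have : (t - 1) * S = 0 := by linear_combination -h1
    exact (mul_eq_zero.1 this).resolve_left (sub_ne_zero.2 ht.2)

theorem sum_apply_eq_zero {k : ℕ} (h : 2 ≤ k) (a : Fin k) : ∑ v : Fin k → F, v a = 0 := by
  classical
  haveI : Nontrivial (Fin k) := Fin.nontrivial_iff_two_le.2 h
  obtain ⟨c, hca⟩ := exists_ne a
  rw [← (Equiv.funSplitAt c F).symm.sum_comp, Fintype.sum_prod_type]
  simp only [Equiv.funSplitAt, Equiv.piSplitAt, Equiv.coe_fn_symm_mk, dif_neg hca.symm,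
    Finset.sum_const, Finset.card_univ, nsmul_eq_mul, FiniteField.cast_card_eq_zero, zero_mul]

/-- Over a large enough space the sums of a constant, a linear and a quadratic map vanish. -/
theorem sum_quadratic_eq_zero {V W : Type*} [AddCommGroup V] [Module F V] [Fintype V] [AddCommGroup W] [Module F W]
    (h : 3 ≤ finrank F V ∨ (2 ≤ finrank F V ∧ 3 ≤ Fintype.card F)) (y : W) (f : V →ₗ[F] W)
    (g : V →ₗ[F] V →ₗ[F] W) : ∑ v, (y + f v + g v v) = 0 := by
  classical
  have h2 : 2 ≤ finrank F V := by omega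
  set B := (Module.finBasis F V).equivFun
  rw [← B.symm.toEquiv.sum_comp, Finset.sum_add_distrib, Finset.sum_add_distrib]
  have h0 : (Fintype.card (Fin (finrank F V) → F) : F) = 0 := by
    rw [Fintype.card_fun, Fintype.card_fin, Nat.cast_pow, FiniteField.cast_card_eq_zero, zero_pow (by omega)]
  rw [Finset.sum_const, Finset.card_univ, ← Nat.cast_smul_eq_nsmul F, h0, zero_smul, zero_add]
  have hv : ∀ v, B.symm.toEquiv v = ∑ a, v a • (Module.finBasis F V) a := fun v => by
    simp [B, Module.Basis.equivFun_symm_apply]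
  simp only [hv, map_sum, map_smul, LinearMap.sum_apply, LinearMap.smul_apply, Finset.smul_sum, smul_smul]
  rw [Finset.sum_comm, Finset.sum_comm (s := Finset.univ (α := Fin (finrank F V) → F))]
  rw [Finset.sum_eq_zero fun a _ => by rw [← Finset.sum_smul, sum_apply_eq_zero h2 a, zero_smul], zero_add]
  refine Finset.sum_eq_zero fun a _ => ?_
  rw [Finset.sum_comm]
  exact Finset.sum_eq_zero fun b _ => by
    rw [← Finset.sum_smul, sum_apply_mul_apply_eq_zero h, zero_smul]

end Sums

variable {F : Type*} [Field F] {κ : Type} [Fintype κ] [DecidableEq κ] {m : ℕ}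

/-- An overgroup in the special linear group of the wreath stabiliser of determinant one. -/
structure Over (M : Subgroup (GL (κ → Fin m) F)) : Prop where
  det_one : ∀ g ∈ M, det (g : TMat F κ m) = 1
  le : ∀ g ∈ wreathT F κ m, det (g : TMat F κ m) = 1 → g ∈ M

variable {M : Subgroup (GL (κ → Fin m) F)}

theorem Over.exists_op (hM : Over M) (i : κ) {A : Matrix (Fin m) (Fin m) F} (hA : det (op i A) = 1) :
    ∃ g ∈ M, g ∈ wreathT F κ m ∧ g.1 = op i A := by
  let g := GeneralLinearGroup.mkOfDetNeZero (op i A) (by rw [hA]; exact one_ne_zero)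
  have hg : g ∈ wreathT F κ m := op_mem_wreathT i rfl
  exact ⟨g, hM.le g hg hA, hg, rfl⟩

theorem det_one_add_op (i : κ) {b β : Fin m → F} (h : β ⬝ᵥ b = 0) : det (op i (1 + vecMulVec b β)) = 1 := by
  obtain ⟨r, -, hr⟩ := Polynomial.isUnit_iff.1 (Matrix.isUnit_charpolyRev_of_isNilpotent
    (M := op i (vecMulVec b β)) ⟨2, by rw [pow_two, ← map_mul, vecMulVec_mul_vecMulVec, h, zero_smul]; simp [op_zero]⟩)
  set C := op i (vecMulVec b β)
  have h0 : Polynomial.eval 0 C.charpolyRev = 1 := Matrix.eval_charpolyRev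
  rw [← hr, Polynomial.eval_C] at h0
  have h1 : Polynomial.eval (-1) C.charpolyRev = 1 := by rw [← hr, Polynomial.eval_C, h0]
  rw [op_add, map_one, ← h1, Matrix.charpolyRev, ← Polynomial.coe_evalRingHom, RingHom.map_det]
  congr 1
  ext x y
  rcases eq_or_ne x y with rfl | hxy
  · simp [C]
  · simp [C, Matrix.one_apply_ne hxy]

theorem Over.exists_root (hM : Over M) (i : κ) {b β : Fin m → F} (h : β ⬝ᵥ b = 0) :
    ∃ r ∈ M, r ∈ wreathT F κ m ∧ r.1 = 1 + op i (vecMulVec b β) := by
  obtain ⟨g, hg, hgT, e⟩ := hM.exists_op i (det_one_add_op i h)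
  exact ⟨g, hg, hgT, by rw [e, op_add, map_one]⟩

/-- No root element of the stabiliser is conjugate into it by an element outside. -/
def NoFuse (M : Subgroup (GL (κ → Fin m) F)) : Prop :=
  ∀ g ∈ M, g ∉ wreathT F κ m → ∀ (i : κ) (b β : Fin m → F), b ≠ 0 → β ≠ 0 → β ⬝ᵥ b = 0 →
    ∀ r : GL (κ → Fin m) F, r.1 = 1 + op i (vecMulVec b β) → g⁻¹ * r * g ∉ wreathT F κ m

/-- The root group of a factor and a point. -/
def rootGroup (M : Subgroup (GL (κ → Fin m) F)) (i : κ) (b : Fin m → F) : Subgroup M where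
  carrier := {r | ∃ β : Fin m → F, β ⬝ᵥ b = 0 ∧ (r : GL (κ → Fin m) F).1 = 1 + op i (vecMulVec b β)}
  one_mem' := ⟨0, by simp, by simp [vecMulVec_zero, op_zero]⟩
  mul_mem' := by
    rintro r r' ⟨β, h, e⟩ ⟨β', h', e'⟩
    refine ⟨β + β', by rw [add_dotProduct, h, h', add_zero], ?_⟩
    rw [Subgroup.coe_mul, Units.val_mul, e, e', vecMulVec_add, op_add, Matrix.add_mul, Matrix.mul_add, Matrix.mul_add,
      ← map_mul, vecMulVec_mul_vecMulVec, h, zero_smul]
    simp [op_zero]
    abel
  inv_mem' := by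
    rintro r ⟨β, h, e⟩
    refine ⟨-β, by rw [neg_dotProduct, h, neg_zero], ?_⟩
    have h1 : (r : GL (κ → Fin m) F).1 * (1 + op i (vecMulVec b (-β))) = 1 := by
      rw [e, vecMulVec_neg, op_neg, Matrix.mul_add, Matrix.mul_one, Matrix.add_mul, Matrix.one_mul, Matrix.mul_neg,
        ← map_mul, vecMulVec_mul_vecMulVec, h, zero_smul]
      simp [op_zero]
    have h2 := congrArg ((r : GL (κ → Fin m) F)⁻¹.1 * ·) h1
    simp only [← Matrix.mul_assoc, ← Units.val_mul, inv_mul_cancel, Units.val_one, Matrix.one_mul,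
      Matrix.mul_one] at h2
    rw [Subgroup.coe_inv]
    exact h2.symm

theorem rootT_op_injective {i : κ} {b β β' : Fin m → F} (hb : b ≠ 0)
    (h : op i (vecMulVec b β) = op i (vecMulVec b β')) : β = β' := by
  obtain ⟨a, ha⟩ := Function.ne_iff.1 hb
  funext c
  have := congrFun (congrFun h (Function.update (fun _ => a) i a)) (Function.update (fun _ => a) i c)
  rw [op_apply, op_apply, if_pos fun l hl => by rw [Function.update_of_ne hl, Function.update_of_ne hl],
    if_pos fun l hl => by rw [Function.update_of_ne hl, Function.update_of_ne hl], Function.update_self,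
    Function.update_self, vecMulVec_apply, vecMulVec_apply] at this
  exact mul_left_cancel₀ ha this

variable [Fintype F]

/-- The sum over a root group of the conjugates of a matrix vanishes. -/
theorem sum_rootGroup (hM : Over M) (hex : 4 ≤ m ∨ (3 ≤ m ∧ 3 ≤ Fintype.card F)) (i : κ) {b : Fin m → F}
    (hb : b ≠ 0) [Fintype (rootGroup M i b)] (Z : TMat F κ m) :
    ∑ r : rootGroup M i b, Ad (r : M).1 Z = 0 := by
  classical
  set V := LinearMap.ker ((dotProductBilin F F).flip b) with hV
  have hmem : ∀ β, β ∈ V ↔ β ⬝ᵥ b = 0 := fun β => by simp [hV]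
  have hdim : finrank F V + 1 = m := by
    set φ := (dotProductBilin F F).flip b
    have h1 := φ.finrank_range_add_finrank_ker
    have h2 : finrank F (LinearMap.range φ) = 1 := by
      have hne : φ ≠ 0 := fun h0 => by
        obtain ⟨a, ha⟩ := Function.ne_iff.1 hb
        have := LinearMap.congr_fun h0 (Pi.single a 1)
        simp [φ, single_dotProduct] at this
        exact ha this
      rw [LinearMap.range_eq_top.2 (LinearMap.surjective hne), finrank_top, finrank_self]
    rw [h2, finrank_fin_fun] at h1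
    show finrank F (LinearMap.ker φ) + 1 = m
    omega
  let N : V →ₗ[F] TMat F κ m := (opAlg i).toLinearMap ∘ₗ (vecMulVecBilin F F b) ∘ₗ V.subtype
  have hex' : ∀ β : V, ∃ r : rootGroup M i b, (r : M).1.1 = 1 + N β := fun β => by
    obtain ⟨g, hg, -, e⟩ := hM.exists_root i ((hmem β).1 β.2)
    exact ⟨⟨⟨g, hg⟩, β, (hmem β).1 β.2, e⟩, e⟩
  choose φ hφ using hex'
  have hbij : Function.Bijective φ := by
    refine ⟨fun β β' h => Subtype.ext (rootT_op_injective hb (i := i) ?_), fun r => ?_⟩
    · have h1 := hφ β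
      rw [h, hφ β'] at h1
      exact (add_left_cancel h1).symm
    · obtain ⟨β, hβ, e⟩ := r.2
      exact ⟨⟨β, (hmem β).2 hβ⟩, Subtype.ext (Subtype.ext (Units.ext ((hφ _).trans e.symm)))⟩
  have hinv : ∀ β : V, (φ β : M).1⁻¹.1 = 1 - N β := fun β => by
    have hNN : N β * N β = 0 := by
      show op i _ * op i _ = 0
      rw [← map_mul]
      show op i (vecMulVec b β.1 * vecMulVec b β.1) = 0
      rw [vecMulVec_mul_vecMulVec, (hmem _).1 β.2, zero_smul]
      simp [op_zero]
    have h1 : (φ β : M).1.1 * (1 - N β) = 1 := by rw [hφ]; noncomm_ring [hNN]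
    have h2 := congrArg ((φ β : M).1⁻¹.1 * ·) h1
    simp only [← Matrix.mul_assoc, ← Units.val_mul, inv_mul_cancel, Units.val_one, Matrix.one_mul,
      Matrix.mul_one] at h2
    exact h2.symm
  rw [← (Equiv.ofBijective φ hbij).sum_comp]
  let f : V →ₗ[F] TMat F κ m := LinearMap.mulRight F Z ∘ₗ N - LinearMap.mulLeft F Z ∘ₗ N
  let g : V →ₗ[F] V →ₗ[F] TMat F κ m := -((LinearMap.mul F (TMat F κ m)).compl₁₂ (LinearMap.mulRight F Z ∘ₗ N) N)
  have hk : 3 ≤ finrank F ↥V ∨ (2 ≤ finrank F ↥V ∧ 3 ≤ Fintype.card F) := by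
    rcases hex with h | ⟨h, h'⟩
    · exact Or.inl (by omega)
    · exact Or.inr ⟨by omega, h'⟩
  rw [← sum_quadratic_eq_zero (F := F) (V := V) hk Z f g]
  refine Finset.sum_congr rfl fun β _ => ?_
  rw [Equiv.ofBijective_apply, Ad_apply, hφ, hinv]
  simp only [f, g, LinearMap.sub_apply, LinearMap.neg_apply, LinearMap.comp_apply, LinearMap.compl₁₂_apply,
    LinearMap.mulRight_apply, LinearMap.mulLeft_apply, LinearMap.mul_apply']
  noncomm_ring

/-- A matrix that is the identity on every factor is a scalar. -/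
theorem eq_smul_one_of_split {Z : TMat F κ m}
    (h : ∀ i, ∃ W, split i Z = (1 : Matrix (Fin m) (Fin m) F) ⊗ₖ W) : ∃ c : F, Z = c • 1 := by
  rcases isEmpty_or_nonempty (κ → Fin m) with hJ | hJ
  · exact ⟨0, Subsingleton.elim _ _⟩
  obtain ⟨x₀⟩ := hJ
  have hoff : ∀ x y, x ≠ y → Z x y = 0 := fun x y hxy => by
    obtain ⟨i, hi⟩ := Function.ne_iff.1 hxy
    obtain ⟨W, hW⟩ := h i
    have := congrFun (congrFun hW (Equiv.funSplitAt i (Fin m) x)) (Equiv.funSplitAt i (Fin m) y)
    rw [split_apply, Equiv.symm_apply_apply, Equiv.symm_apply_apply, Matrix.kroneckerMap_apply] at this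
    rw [this, Matrix.one_apply_ne (show (Equiv.funSplitAt i (Fin m) x).1 ≠ (Equiv.funSplitAt i (Fin m) y).1 from hi),
      zero_mul]
  have hstep : ∀ (x : κ → Fin m) i a, Z x x = Z (Function.update x i a) (Function.update x i a) := fun x i a => by
    obtain ⟨W, hW⟩ := h i
    have h1 := congrFun (congrFun hW (Equiv.funSplitAt i (Fin m) x)) (Equiv.funSplitAt i (Fin m) x)
    have h2 := congrFun (congrFun hW (Equiv.funSplitAt i (Fin m) (Function.update x i a)))
      (Equiv.funSplitAt i (Fin m) (Function.update x i a))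
    rw [split_apply, Equiv.symm_apply_apply, Matrix.kroneckerMap_apply, Matrix.one_apply_eq, one_mul] at h1 h2
    rw [h1, h2]
    congr 1 <;> funext l <;> simp [Equiv.funSplitAt, Equiv.piSplitAt, l.2]
  have hdia : ∀ x, Z x x = Z x₀ x₀ := fun x => by
    suffices hs : ∀ s : Finset κ, Z x x = Z (fun l => if l ∈ s then x₀ l else x l) (fun l => if l ∈ s then x₀ l else x l) by
      simpa using hs Finset.univ
    intro s
    induction s using Finset.induction with
    | empty => simp
    | @insert a s ha ih =>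
      rw [ih, hstep _ a (x₀ a)]
      congr 1 <;> funext l <;>
        · by_cases hl : l = a
          · subst hl; simp
          · simp [hl]
  refine ⟨Z x₀ x₀, ?_⟩
  ext x y
  by_cases hxy : x = y
  · subst hxy; rw [hdia, Matrix.smul_apply, Matrix.one_apply_eq, smul_eq_mul, mul_one]
  · rw [hoff x y hxy, Matrix.smul_apply, Matrix.one_apply_ne hxy, smul_zero]

theorem ptrSum_conj_hyp (M : Subgroup (GL (κ → Fin m) F)) :
    ∀ h ∈ M, h ∈ wreathT F κ m → ∀ Y, ptrSum (Ad h Y) = Ad h (ptrSum Y) := fun h _ hT Y => by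
  rw [Ad_apply, Ad_apply, ptrSum_conj hT]

/-- Without fusion the overgroup is the stabiliser itself. -/
theorem le_of_noFuse (hM : Over M) (hNF : NoFuse M) (hex : 4 ≤ m ∨ (3 ≤ m ∧ 3 ≤ Fintype.card F)) :
    M ≤ wreathT F κ m := by
  classical
  intro g hg
  by_contra hgT
  have h3 : 3 ≤ m := by omega
  rcases isEmpty_or_nonempty κ with hκ | hκ
  · refine hgT ⟨1, fun i => isEmptyElim i, ?_⟩
    have h1 := hM.det_one g hg
    haveI : Unique (κ → Fin m) := Pi.uniqueOfIsEmpty _
    rw [Matrix.det_unique] at h1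
    rw [map_one, mul_one]
    refine Units.ext ?_
    ext x y
    rw [tensU_coe, tens_apply, Finset.univ_eq_empty, Finset.prod_empty, Unique.eq_default x, Unique.eq_default y, h1]
  obtain ⟨i₀⟩ := hκ
  set relT := relTr M (wreathT F κ m) ptrSum (ptrSum_conj_hyp M) with hP
  set D := relT - ptrSum with hD
  -- vectors killed by `D`
  have hkill : ∀ (i : κ) (b : Fin m → F) (x : TMat F κ m), b ≠ 0 →
      (∀ β, β ⬝ᵥ b = 0 → op i (vecMulVec b β) * x = x * op i (vecMulVec b β)) → D x = 0 := by
    intro i b x hb hx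
    haveI := Fintype.ofFinite (rootGroup M i b)
    have h := relTr_sub_mem (ptrSum_conj_hyp M) (rootGroup M i b) (fun r hr => ?_) (fun r hr hne => ?_) ⊥
      (fun Z => by rw [Submodule.mem_bot]; exact sum_rootGroup hM hex i hb Z) (x := x) (fun r hr => ?_)
    · simpa [hD, hP] using h
    · obtain ⟨β, hβ, e⟩ := hr
      exact op_mem_wreathT i (A := 1 + vecMulVec b β) (by rw [e, op_add, map_one])
    · obtain ⟨β, hβ, e⟩ := hr
      intro g' hg' hg'T
      refine hNF g' hg' hg'T i b β hb (fun h0 => hne (Subtype.ext (Units.ext ?_))) hβ r.1 e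
      rw [e, h0, vecMulVec_zero, op_zero, add_zero]
      rfl
    · obtain ⟨β, hβ, e⟩ := hr
      rw [Ad_apply, e]
      rw [show (1 + op i (vecMulVec b β)) * x = x * (1 + op i (vecMulVec b β)) by
        rw [Matrix.add_mul, Matrix.mul_add, Matrix.one_mul, Matrix.mul_one, hx β hβ], ← e, Matrix.mul_assoc,
        ← Units.val_mul, mul_inv_cancel, Units.val_one, Matrix.mul_one]
  have hsa : ∀ Y Z, (D Y * Z).trace = (Y * D Z).trace := fun Y Z => by
    simp only [hD, LinearMap.sub_apply, Matrix.sub_mul, Matrix.mul_sub, Matrix.trace_sub, hP,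
      trace_relTr_mul (ptrSum_conj_hyp M) trace_ptrSum_mul, trace_ptrSum_mul]
  have himg : ∀ Y, ∃ c : F, D Y = c • 1 := fun Y => eq_smul_one_of_split fun i => by
    have horth : ∀ (b γ : Fin m → F), γ ⬝ᵥ b = 0 → ∀ u v : Rest i → Fin m,
        γ ⬝ᵥ ((Matrix.of fun a c => split i (D Y) (a, u) (c, v)) *ᵥ b) = 0 := by
      intro b γ hγ u v
      rcases eq_or_ne b 0 with rfl | hb
      · simp
      set x := (split i).symm (vecMulVec b γ ⊗ₖ Matrix.single v u (1 : F)) with hx
      have hfix : ∀ β, β ⬝ᵥ b = 0 → op i (vecMulVec b β) * x = x * op i (vecMulVec b β) := fun β hβ => by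
        refine (split i).injective ?_
        rw [map_mul, map_mul, hx, AlgEquiv.apply_symm_apply, split_op_self, ← Matrix.mul_kronecker_mul,
          ← Matrix.mul_kronecker_mul, vecMulVec_mul_vecMulVec, vecMulVec_mul_vecMulVec, hβ, hγ, Matrix.one_mul,
          Matrix.mul_one, zero_smul, zero_smul]
      have h := hsa x Y
      rw [hkill i b x hb hfix, Matrix.zero_mul, Matrix.trace_zero] at h
      rw [← trace_split i, map_mul, hx, AlgEquiv.apply_symm_apply] at h
      rw [h]
      simp only [Matrix.trace, Matrix.diag, Matrix.mul_apply, Fintype.sum_prod_type, Matrix.kroneckerMap_apply,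
        vecMulVec_apply, Matrix.single_apply, mul_ite, mul_one, mul_zero, ite_mul, zero_mul, ite_and,
        Finset.sum_ite_eq, Finset.sum_ite_eq', Finset.sum_ite_irrel, Finset.sum_const_zero, Finset.mem_univ, if_true,
        dotProduct, Matrix.mulVec, Matrix.of_apply, Finset.mul_sum]
      rw [Finset.sum_comm]
      exact Finset.sum_congr rfl fun c _ => Finset.sum_congr rfl fun a _ => by ring
    have hsc : ∀ u v : Rest i → Fin m, ∃ c : F, (Matrix.of fun a c => split i (D Y) (a, u) (c, v)) = c • 1 := by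
      intro u v
      by_contra hne
      push Not at hne
      obtain ⟨b, hb⟩ := exists_not_eigen hne
      obtain ⟨θ, hθ, hθb⟩ := Submodule.exists_dual_map_eq_bot_of_notMem hb inferInstance
      set γ : Fin m → F := fun a => θ (Pi.single a 1)
      have hγ : ∀ w, γ ⬝ᵥ w = θ w := fun w => by
        conv_rhs => rw [pi_eq_sum_univ' w]
        simp [dotProduct, γ, map_sum, mul_comm]
      apply hθ
      rw [← hγ]
      refine horth b γ ?_ u v
      rw [hγ]
      have := Submodule.mem_map_of_mem (f := θ) (Submodule.mem_span_singleton_self b)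
      rwa [hθb, Submodule.mem_bot] at this
    choose W hW using hsc
    refine ⟨Matrix.of W, ?_⟩
    ext ⟨a, u⟩ ⟨c, v⟩
    have := congrFun (congrFun (hW u v) a) c
    rw [Matrix.of_apply] at this
    rw [this, Matrix.smul_apply, Matrix.kroneckerMap_apply, smul_eq_mul, mul_comm, Matrix.of_apply]
  -- the image of a root
  set o : Fin m := ⟨0, by omega⟩
  set p : Fin m := ⟨1, by omega⟩
  have hop : o ≠ p := by simp [o, p, Fin.ext_iff]
  set b : Fin m → F := Pi.single o 1
  set β : Fin m → F := Pi.single p 1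
  have hb : b ≠ 0 := by simp [b]
  have hβ : β ≠ 0 := by simp [β]
  have hβb : β ⬝ᵥ b = 0 := by simp [b, β, hop]
  set x := tens (fun l => if l = i₀ then vecMulVec b β else Matrix.single o o (1 : F)) with hx
  have hfix : ∀ η, η ⬝ᵥ b = 0 → op i₀ (vecMulVec b η) * x = x * op i₀ (vecMulVec b η) := fun η hη => by
    refine (split i₀).injective ?_
    rw [map_mul, map_mul, hx, split_tens, split_op_self, ← Matrix.mul_kronecker_mul, ← Matrix.mul_kronecker_mul,
      if_pos rfl, vecMulVec_mul_vecMulVec, vecMulVec_mul_vecMulVec, hη, hβb, Matrix.one_mul, Matrix.mul_one, zero_smul, zero_smul]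
  have hπx : ptrSum x = op i₀ (vecMulVec b β) := by
    rw [ptrSum_apply, Finset.sum_eq_single i₀]
    · rw [hx, ptr_tens, if_pos rfl, Finset.prod_eq_one, one_smul]
      intro l _
      simp [l.2]
    · intro l _ hl
      rw [hx, ptr_tens, Finset.prod_eq_zero (Finset.mem_univ (⟨i₀, Ne.symm hl⟩ : Rest l)), zero_smul, op_zero]
      simp [b, β, Matrix.trace, vecMulVec_apply, Pi.single_apply, hop, hop.symm]
    · simp
  have hPx : relT x = op i₀ (vecMulVec b β) := by
    have := hkill i₀ b x hb hfix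
    rw [hD, LinearMap.sub_apply, sub_eq_zero] at this
    rw [this, hπx]
  obtain ⟨r, hrM, -, hr⟩ := hM.exists_root i₀ hβb
  -- conjugate it
  obtain ⟨c, hc⟩ := himg (Ad g x)
  have hY : Ad g (op i₀ (vecMulVec b β)) = ∑ l, op l (ptr l (Ad g x) + if l = i₀ then c • 1 else 0) := by
    rw [← hPx, hP, ← relTr_Ad (ptrSum_conj_hyp M) hg]
    rw [hD, LinearMap.sub_apply, sub_eq_iff_eq_add] at hc
    rw [← hP, hc, ptrSum_apply]
    simp only [op_add, Finset.sum_add_distrib]
    rw [Finset.sum_eq_single (f := fun l => op l (if l = i₀ then c • (1 : Matrix (Fin m) (Fin m) F) else 0)) i₀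
      (fun l _ hl => by rw [if_neg hl, op_zero]) (by simp), if_pos rfl, op_smul, map_one, add_comm]
  have hrank : (Ad g (op i₀ (vecMulVec b β))).rank ≤ Fintype.card (Rest i₀ → Fin m) := by
    rw [Ad_apply]
    exact ((Matrix.rank_mul_le_left _ _).trans (Matrix.rank_mul_le_right _ _)).trans (rank_op_rankOne_le i₀ b β)
  rw [hY] at hrank
  obtain ⟨j, B, hB⟩ := sum_op_eq_op h3 _ i₀ hrank
  refine hNF g⁻¹ (inv_mem hg) (fun h => hgT (by simpa using inv_mem h)) i₀ b β hb hβ hβb r hr ?_
  rw [inv_inv]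
  refine op_mem_wreathT j (A := 1 + B) ?_
  rw [Units.val_mul, Units.val_mul, hr, Matrix.mul_add, Matrix.mul_one, Matrix.add_mul, ← Units.val_mul,
    mul_inv_cancel, Units.val_one, ← Ad_apply, hY, hB, op_add, map_one]

end CfsgLib.Classical.WreathMax
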