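import Cfsg.Agent.Lib.Classical.WreathMax.SmallRel
import Cfsg.Agent.Lib.Classical.WreathMax.NoFusion
import Cfsg.Agent.Lib.Classical.WreathMax.Fusion
import Cfsg.Agent.Lib.Classical.SLBasic

/-!
# An overgroup without fusion: factors of dimension three over the field with two elements

With at least three factors the relative trace shows directly that root operators are mapped to sums of
one-factor operators. With two factors the sign of the action on the cosets of the base group first gives a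
subgroup of index two meeting the stabiliser in the base group; then each factor has its own relative trace.
-/

set_option autoImplicit false
set_option linter.unusedSectionVars false

open Matrix Module
open scoped Kronecker commutatorElement

namespace CfsgLib.Classical.WreathMax

variable {F : Type*} [Field F] {κ : Type} [Fintype κ] [DecidableEq κ]

theorem Ad_map_mul {J : Type} [Fintype J] [DecidableEq J] (g : GL J F) (U V : Matrix J J F) :
    Ad g (U * V) = Ad g U * Ad g V := by
  simp only [Ad_apply, Matrix.mul_assoc]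
  rw [← Matrix.mul_assoc g⁻¹.1 g.1, ← Units.val_mul, inv_mul_cancel, Units.val_one, Matrix.one_mul]

theorem tens_eq_zero_of_factor {m : ℕ} {C : κ → Matrix (Fin m) (Fin m) F} {a : κ} (h : C a = 0) : tens C = 0 := by
  ext x y
  exact Finset.prod_eq_zero (Finset.mem_univ a) (by rw [h]; rfl)

theorem exists_rootU (i : κ) {b β : Fin 3 → F} (h : β ⬝ᵥ b = 0) :
    ∃ A : GL (Fin 3) F, (tensU (Pi.mulSingle i A) : GL (κ → Fin 3) F).1 = 1 + op i (vecMulVec b β) := by
  have hdet : det (1 + vecMulVec b β) ≠ 0 := by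
    rw [CfsgLib.Classical.TensorMax.det_one_add_vecMulVec, h, add_zero]
    exact one_ne_zero
  refine ⟨GeneralLinearGroup.mkOfDetNeZero (1 + vecMulVec b β) hdet, ?_⟩
  rw [tensU_coe, show (1 : TMat F κ 3) + op i (vecMulVec b β) = op i (1 + vecMulVec b β) by rw [op_add, map_one],
    op_eq_tens]
  congr 1
  funext l
  by_cases hl : l = i
  · subst hl; simp [GeneralLinearGroup.mkOfDetNeZero]
  · simp [hl]

/-- An element carrying a root operator to a one-factor operator lies in the stabiliser. -/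
theorem mem_of_Ad_root {M : Subgroup (GL (κ → Fin 3) F)} (hNF : NoFuse M) {g : GL (κ → Fin 3) F} (hg : g ∈ M)
    {i j : κ} {b β : Fin 3 → F} (hb : b ≠ 0) (hβ : β ≠ 0) (hβb : β ⬝ᵥ b = 0) {B : Matrix (Fin 3) (Fin 3) F}
    (h : Ad g (op i (vecMulVec b β)) = op j B) : g ∈ wreathT F κ 3 := by
  by_contra hgT
  obtain ⟨A, hA⟩ := exists_rootU i hβb
  refine hNF g⁻¹ (inv_mem hg) (fun h => hgT (by simpa using inv_mem h)) i b β hb hβ hβb _ hA ?_
  rw [inv_inv]
  refine op_mem_wreathT j (A := 1 + B) ?_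
  rw [Units.val_mul, Units.val_mul, hA, Matrix.mul_add, Matrix.mul_one, Matrix.add_mul, ← Units.val_mul,
    mul_inv_cancel, Units.val_one, ← Ad_apply, h, op_add, map_one]

variable [Fintype F]

/-- With at least three factors. -/
theorem le_of_noFuse_three (hq : Fintype.card F = 2) {M : Subgroup (GL (κ → Fin 3) F)} (hM : Over M)
    (hNF : NoFuse M) (hcard : 3 ≤ Fintype.card κ) : M ≤ wreathT F κ 3 := by
  classical
  haveI := charTwo_of_card hq
  intro g hg
  have htens : ∀ C : κ → GL (Fin 3) F, tensU C ∈ M ∧ tensU C ∈ wreathT F κ 3 := fun C =>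
    ⟨hM.le _ (tensU_mem C) (det_eq_one_of_card hq _), tensU_mem C⟩
  obtain ⟨c, hkill, hpair, hzero⟩ := relD_props hq (M := M) (T' := wreathT F κ 3) htens ptrSum (ptrSum_conj_hyp M)
    trace_ptrSum_mul hNF
  set Φ := relTr M (wreathT F κ 3) ptrSum (ptrSum_conj_hyp M) with hΦ
  have hre : RootEquiv Φ := rootEquiv_of_Ad fun C V => relTr_Ad _ (htens C).1 V
  obtain ⟨a₀, b₀, o₀, hab, hao, hbo⟩ := Fintype.two_lt_card_iff.1 hcard
  set u : Fin 3 → F := Pi.single 0 1 with hu
  set v : Fin 3 → F := Pi.single 1 1 with hv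
  have hvu : v ⬝ᵥ u = 0 := by simp [hu, hv]
  have hA : IsNilOne (vecMulVec u v) := ⟨u, v, by simp [hu], by simp [hv], hvu, rfl⟩
  set N := op a₀ (vecMulVec u v) with hN
  have hΦN : Φ N = N := by
    rw [hΦ, hkill b₀ N fun A => op_comm hab.symm A _, ptrSum_apply, Finset.sum_eq_single a₀, hN,
      ptr_op a₀ a₀ hA.trace_eq, if_pos rfl]
    · intro l _ hl
      rw [hN, ptr_op a₀ l hA.trace_eq, if_neg hl, op_zero]
    · simp
  set Y := Ad g N with hY
  have hΦY : Φ Y = Y := by rw [hY, hΦ, relTr_Ad _ hg, ← hΦ, hΦN]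
  have hnonSingle : ∀ (C : κ → Matrix (Fin 3) (Fin 3) F), (∀ l, ∃ k, k ≠ l ∧ (C k).trace = 0) →
      ptrSum (tens C) = 0 := fun C hC => by
    rw [ptrSum_apply]
    refine Finset.sum_eq_zero fun l _ => ?_
    obtain ⟨k, hk, h0⟩ := hC l
    rw [ptr_tens_eq_zero hk h0, op_zero]
  have hother : ∀ l, ∃ k, k ≠ l ∧ (k = a₀ ∨ k = b₀) := fun l => by
    by_cases h : l = a₀
    · exact ⟨b₀, h ▸ hab.symm, Or.inr rfl⟩
    · exact ⟨a₀, Ne.symm h, Or.inl rfl⟩
  have hY0 : ptrSum Y = Y := by
    rw [← hzero Y fun C hC => ?_, hΦY]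
    obtain ⟨Aa, wa, hAa, hwa, ea, ea'⟩ := (hC a₀).factor le_rfl
    obtain ⟨Ab, wb, hAb, hwb, eb, eb'⟩ := (hC b₀).factor le_rfl
    set Cy : κ → Matrix (Fin 3) (Fin 3) F := fun l => if l = a₀ then Aa else if l = b₀ then Ab else 1 with hCy
    set Cw : κ → Matrix (Fin 3) (Fin 3) F := fun l => if l = a₀ then wa else if l = b₀ then wb else C l with hCw
    have hw : ∀ l, IsNilOne (Cw l) := fun l => by
      simp only [hCw]; split_ifs <;> [exact hwa; exact hwb; exact hC l]
    have hyw : tens Cy * tens Cw = tens C := by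
      rw [← map_mul]
      congr 1
      funext l
      simp only [Pi.mul_apply, hCy, hCw]
      split_ifs with h1 h2
      · rw [h1, ea]
      · rw [h2, eb]
      · exact Matrix.one_mul _
    have hwy : tens Cw * tens Cy = 0 := by
      rw [← map_mul]
      exact tens_eq_zero_of_factor (a := a₀) (by simp [hCy, hCw, ea'])
    have hΦy : Φ (tens Cy) = 0 := by
      rw [hΦ, hkill o₀ _ fun A => ?_, hnonSingle Cy fun l => ?_]
      · obtain ⟨k, hk, rfl | rfl⟩ := hother l
        · exact ⟨k, hk, by simp [hCy, hAa.trace_eq]⟩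
        · exact ⟨k, hk, by simp [hCy, hab.symm, hAb.trace_eq]⟩
      · rw [op_mul_tens, tens_mul_op, show Cy o₀ = 1 by simp [hCy, hao.symm, hbo.symm], Matrix.mul_one,
          Matrix.one_mul]
    have hbr : Φ (Y * tens Cy - tens Cy * Y) = 0 := by
      have e : Y * tens Cy - tens Cy * Y = Ad g (N * Ad g⁻¹ (tens Cy) - Ad g⁻¹ (tens Cy) * N) := by
        rw [map_sub, Ad_map_mul, Ad_map_mul, Ad_self_inv]
      rw [e, hΦ, relTr_Ad _ hg, ← hΦ, hN, hre.bracket le_rfl a₀ hA, hΦ, relTr_Ad _ (inv_mem hg), ← hΦ, hΦy]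
      simp
    have h1 := hpair (Y * tens Cy - tens Cy * Y) Cw hw
    rw [hbr, Matrix.zero_mul, Matrix.trace_zero, trace_ptrSum_mul, hnonSingle Cw fun l => ?_, Matrix.mul_zero,
      Matrix.trace_zero, zero_add, Matrix.sub_mul, Matrix.trace_sub, Matrix.mul_assoc, hyw, Matrix.trace_mul_cycle,
      hwy, Matrix.zero_mul, Matrix.trace_zero, sub_zero] at h1
    · exact h1.symm
    · obtain ⟨k, hk, -⟩ := hother l
      exact ⟨k, hk, (hw k).trace_eq⟩
  have hrank : Y.rank ≤ Fintype.card (Rest a₀ → Fin 3) := by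
    rw [hY, Ad_apply, hN]
    exact ((Matrix.rank_mul_le_left _ _).trans (Matrix.rank_mul_le_right _ _)).trans (rank_op_rankOne_le a₀ u v)
  rw [← hY0, ptrSum_apply] at hrank
  obtain ⟨j, B, hB⟩ := sum_op_eq_op le_rfl _ a₀ hrank
  refine mem_of_Ad_root hNF hg (i := a₀) (j := j) (B := B) (by simp [hu]) (by simp [hv]) hvu ?_
  rw [← hN, ← hY, ← hY0, ptrSum_apply, hB]

/-- The base group of the stabiliser. -/
def baseT (F : Type*) [Field F] (κ : Type) [Fintype κ] [DecidableEq κ] : Subgroup (GL (κ → Fin 3) F) :=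
  (Units.map (tens (F := F) (κ := κ) (m := 3))).range

theorem tensU_mem_baseT (C : κ → GL (Fin 3) F) : tensU C ∈ baseT F κ := ⟨MulEquiv.piUnits.symm C, rfl⟩

theorem exists_of_mem_baseT {g : GL (κ → Fin 3) F} (hg : g ∈ baseT F κ) : ∃ C, g = tensU C := by
  obtain ⟨w, rfl⟩ := hg
  exact ⟨MulEquiv.piUnits w, by rw [tensU, MulEquiv.symm_apply_apply]⟩

theorem baseT_le : baseT F κ ≤ wreathT F κ 3 := fun g hg => by
  obtain ⟨C, rfl⟩ := exists_of_mem_baseT hg
  exact tensU_mem C

theorem conj_mem_baseT {g b : GL (κ → Fin 3) F} (hg : g ∈ wreathT F κ 3) (hb : b ∈ baseT F κ) :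
    g * b * g⁻¹ ∈ baseT F κ := by
  obtain ⟨σ, C, rfl⟩ := hg
  obtain ⟨D, rfl⟩ := exists_of_mem_baseT hb
  have e : tensU C * permU σ * tensU D * (tensU C * permU σ)⁻¹ = tensU C * tensU (fun l => D (σ⁻¹ l)) * (tensU C)⁻¹ := by
    rw [mul_assoc (tensU C) (permU σ), permU_mul_tensU]
    group
  rw [e]
  exact mul_mem (mul_mem (tensU_mem_baseT C) (tensU_mem_baseT _)) (inv_mem (tensU_mem_baseT C))

/-- A homomorphism from the invertible matrices of size three to a commutative group is trivial here. -/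
theorem hom_gl_three_eq_one (hq : Fintype.card F = 2) {A : Type*} [CommGroup A] (f : GL (Fin 3) F →* A)
    (g : GL (Fin 3) F) : f g = 1 := by
  classical
  have htop : (f.comp SpecialLinearGroup.toGL).ker = ⊤ := by
    refine sl_subgroup_eq_top _ fun i j hij c => ?_
    obtain ⟨k, hki, hkj⟩ : ∃ k : Fin 3, k ≠ i ∧ k ≠ j := by
      revert i j
      decide
    rw [MonoidHom.mem_ker, show c = c * 1 from (mul_one c).symm, ← commutator_transvection hki.symm hkj hij c 1,
      map_commutatorElement]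
    exact commutatorElement_eq_one_iff_commute.2 (Commute.all _ _)
  let S : SpecialLinearGroup (Fin 3) F := ⟨g.1, det_eq_one_of_card hq g⟩
  have h : S ∈ (f.comp SpecialLinearGroup.toGL).ker := htop ▸ Subgroup.mem_top S
  rwa [MonoidHom.mem_ker, MonoidHom.comp_apply, show SpecialLinearGroup.toGL S = g from Units.ext rfl] at h

/-- The pairs of different basis vectors. -/
abbrev Pairs := {p : Fin 3 × Fin 3 // p.1 < p.2}

theorem pairs_identity : ∀ a b c d : Fin 3,
    (∑ p : Pairs, (if (a, b) = p.1 ∨ (b, a) = p.1 then (1 : ZMod 2) else 0) *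
      (if (c, d) = p.1 ∨ (d, c) = p.1 then 1 else 0)) =
    (if c = b ∧ d = a then 1 else 0) + (if c = a ∧ d = b then 1 else 0) := by
  decide +kernel

/-- The exchange of two factors moves little. -/
theorem rank_swap_le [CharP F 2] (hcard : Fintype.card κ = 2) {k l : κ} (hkl : k ≠ l) :
    (permM (F := F) (m := 3) (Equiv.swap k l) - 1).rank ≤ 3 := by
  classical
  have huniv : ∀ o, o = k ∨ o = l := fun o => by
    by_contra hc
    push Not at hc
    have := Finset.card_le_univ ({o, k, l} : Finset κ)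
    rw [Finset.card_insert_of_notMem (by simp [hc.1, hc.2]), Finset.card_pair hkl] at this
    omega
  let ι : ZMod 2 →+* F := ZMod.castHom dvd_rfl F
  let U : Matrix (κ → Fin 3) Pairs F :=
    Matrix.of fun x p => ι (if (x k, x l) = p.1 ∨ (x l, x k) = p.1 then 1 else 0)
  have hU : permM (F := F) (m := 3) (Equiv.swap k l) - 1 = U * Uᵀ := by
    ext x y
    simp only [Matrix.mul_apply, Matrix.transpose_apply, U, Matrix.of_apply, ← map_mul, ← map_sum]
    rw [pairs_identity, map_add, Matrix.sub_apply, permM_apply, Matrix.one_apply, CharTwo.sub_eq_add]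
    have h1 : y = x ∘ ⇑(Equiv.swap k l) ↔ y k = x l ∧ y l = x k := by
      constructor
      · rintro rfl; simp
      · rintro ⟨e1, e2⟩
        funext o
        rcases huniv o with rfl | rfl <;> simp [e1, e2]
    have h2 : x = y ↔ y k = x k ∧ y l = x l := by
      constructor
      · rintro rfl; simp
      · rintro ⟨e1, e2⟩
        funext o
        rcases huniv o with rfl | rfl <;> simp [e1, e2]
    simp only [h1, h2]
    split_ifs <;> simp
  rw [hU]
  exact (Matrix.rank_mul_le_left _ _).trans ((Matrix.rank_le_card_width U).trans (by decide))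

/-- With two factors. -/
theorem le_of_noFuse_two (hq : Fintype.card F = 2) {M : Subgroup (GL (κ → Fin 3) F)} (hM : Over M)
    (hNF : NoFuse M) (hcard : Fintype.card κ = 2) : M ≤ wreathT F κ 3 := by
  classical
  haveI := charTwo_of_card hq
  obtain ⟨k, l, hkl⟩ := Fintype.exists_pair_of_one_lt_card (α := κ) (by omega)
  have huniv : ∀ o, o = k ∨ o = l := fun o => by
    by_contra hc
    push Not at hc
    have := Finset.card_le_univ ({o, k, l} : Finset κ)
    rw [Finset.card_insert_of_notMem (by simp [hc.1, hc.2]), Finset.card_pair hkl] at this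
    omega
  have hW : ∀ g ∈ wreathT F κ 3, g ∈ M := fun g hg => hM.le g hg (det_eq_one_of_card hq g)
  set τ : GL (κ → Fin 3) F := permU (Equiv.swap k l) with hτ
  have hτM : τ ∈ M := hW _ (permU_mem _)
  have hτb : τ ∉ baseT F κ := fun h => by
    obtain ⟨C, hC⟩ := exists_of_mem_baseT h
    have := perm_unique (m := 3) (by norm_num) (C := fun _ => (1 : GL (Fin 3) F)) (D := C) (σ := Equiv.swap k l) (τ := 1)
      (by rw [tensU_one, one_mul, map_one, mul_one]; exact hC)
    exact hkl ((by rw [this]; rfl : Equiv.swap k l k = k).symm.trans (Equiv.swap_apply_left k l))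
  have hcases : ∀ g ∈ wreathT F κ 3, g ∈ baseT F κ ∨ τ * g ∈ baseT F κ := by
    rintro _ ⟨σ, C, rfl⟩
    have hσ : σ = 1 ∨ σ = Equiv.swap k l := by
      rcases huniv (σ k) with h | h
      · refine Or.inl (Equiv.ext fun o => ?_)
        rcases huniv o with rfl | rfl
        · exact h
        · rcases huniv (σ o) with h' | h'
          · exact absurd (σ.injective (h'.trans h.symm)).symm hkl
          · exact h'
      · refine Or.inr (Equiv.ext fun o => ?_)
        rcases huniv o with rfl | rfl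
        · rw [h, Equiv.swap_apply_left]
        · rcases huniv (σ o) with h' | h'
          · rw [h', Equiv.swap_apply_right]
          · exact absurd (σ.injective (h'.trans h.symm)).symm hkl
    rcases hσ with rfl | rfl
    · rw [map_one, mul_one]; exact Or.inl (tensU_mem_baseT C)
    · refine Or.inr ?_
      rw [hτ, ← mul_assoc, permU_mul_tensU, mul_assoc, ← map_mul, Equiv.swap_mul_self, map_one, mul_one]
      exact tensU_mem_baseT _
  have hfreeB : ∀ g ∈ M, ∀ (i : κ) (b β : Fin 3 → F), b ≠ 0 → β ≠ 0 → β ⬝ᵥ b = 0 →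
      ∀ r : GL (κ → Fin 3) F, r.1 = 1 + op i (vecMulVec b β) → g⁻¹ * r * g ∈ baseT F κ → g ∈ wreathT F κ 3 :=
    fun g hg i b β hb hβ hβb r hr h => by
      by_contra hgT
      exact hNF g hg hgT i b β hb hβ hβb r hr (baseT_le h)
  -- the sign of the action on the cosets of the base group
  let B₀ : Subgroup M := (baseT F κ).subgroupOf M
  letI : Fintype (↥M ⧸ B₀) := Fintype.ofFinite _
  let f : M →* ℤˣ := Equiv.Perm.sign.comp (MulAction.toPermHom M (↥M ⧸ B₀))
  let emb : κ → GL (Fin 3) F →* M := fun i => MonoidHom.mk'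
    (fun A => ⟨tensU (Pi.mulSingle i A), hW _ (tensU_mem _)⟩)
    (fun A A' => Subtype.ext (by
      show tensU _ = tensU _ * tensU _
      rw [tensU_mul]
      congr 1
      funext o
      simp [Pi.mulSingle_apply]
      split_ifs <;> simp))
  have hfb : ∀ C : κ → GL (Fin 3) F, f ⟨tensU C, hW _ (tensU_mem C)⟩ = 1 := fun C => by
    have e : (⟨tensU C, hW _ (tensU_mem C)⟩ : M) = emb k (C k) * emb l (C l) := Subtype.ext (by
      show tensU C = tensU _ * tensU _
      rw [tensU_mul]
      congr 1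
      funext o
      rcases huniv o with rfl | rfl <;> simp [hkl, hkl.symm])
    rw [e, map_mul]
    rw [show f (emb k (C k)) = 1 from hom_gl_three_eq_one hq (f.comp (emb k)) (C k),
      show f (emb l (C l)) = 1 from hom_gl_three_eq_one hq (f.comp (emb l)) (C l), mul_one]
  set u : Fin 3 → F := Pi.single 0 1 with hu
  set v : Fin 3 → F := Pi.single 1 1 with hv
  have hvu : v ⬝ᵥ u = 0 := by simp [hu, hv]
  have hu0 : u ≠ 0 := by simp [hu]
  have hv0 : v ≠ 0 := by simp [hv]
  obtain ⟨A₀, hA₀⟩ := exists_rootU (κ := κ) k hvu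
  set r : GL (κ → Fin 3) F := tensU (Pi.mulSingle k A₀) with hr
  have hrr : r * r = 1 := Units.ext (by
    rw [Units.val_mul, hA₀, Units.val_one, show (1 + op k (vecMulVec u v)) * (1 + op k (vecMulVec u v)) =
      1 + (2 : F) • op k (vecMulVec u v) + op k (vecMulVec u v) * op k (vecMulVec u v) by rw [two_smul]; noncomm_ring,
      CharTwo.two_eq_zero, zero_smul, op_root_mul, hvu, zero_smul, add_zero, add_zero])
  let rM : M := ⟨r, hW _ (tensU_mem _)⟩
  let τM : M := ⟨τ, hτM⟩
  let c₁ : ↥M ⧸ B₀ := QuotientGroup.mk 1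
  let cτ : ↥M ⧸ B₀ := QuotientGroup.mk τM
  have hfix : ∀ g : M, rM • (QuotientGroup.mk g : ↥M ⧸ B₀) = QuotientGroup.mk g ↔ g.1⁻¹ * r * g.1 ∈ baseT F κ := fun g => by
    rw [MulAction.Quotient.smul_mk, QuotientGroup.eq, Subgroup.mem_subgroupOf]
    rw [show (((rM • g)⁻¹ * g : M) : GL (κ → Fin 3) F) = (r * g.1)⁻¹ * g.1 from rfl, _root_.mul_inv_rev,
      inv_eq_of_mul_eq_one_right hrr]
  have hne : c₁ ≠ cτ := fun h => hτb (by simpa [c₁, cτ, QuotientGroup.eq, B₀, Subgroup.mem_subgroupOf, τM] using h)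
  have hfixr : Function.fixedPoints (MulAction.toPermHom M (↥M ⧸ B₀) rM) = {c₁, cτ} := by
    ext c
    induction c using QuotientGroup.induction_on with
    | H g =>
      simp only [Function.mem_fixedPoints_iff, MulAction.toPermHom_apply, MulAction.toPerm_apply]
      rw [hfix]
      constructor
      · intro h
        have hgT := hfreeB g.1 g.2 k u v hu0 hv0 hvu r hA₀ h
        rcases hcases g.1 hgT with h' | h'
        · refine Or.inl ?_
          simp only [c₁, QuotientGroup.eq, B₀, Subgroup.mem_subgroupOf, mul_one]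
          exact inv_mem h'
        · refine Or.inr ?_
          simp only [Set.mem_singleton_iff, cτ, QuotientGroup.eq, B₀, Subgroup.mem_subgroupOf]
          show g.1⁻¹ * τ ∈ baseT F κ
          rw [show g.1⁻¹ * τ = (τ * g.1)⁻¹ * (τ * τ) by group,
            show τ * τ = 1 by rw [hτ, ← map_mul, Equiv.swap_mul_self, map_one], mul_one]
          exact inv_mem h'
      · intro h
        have hgT : g.1 ∈ wreathT F κ 3 := by
          rcases h with h | h <;> simp only [Set.mem_singleton_iff, c₁, cτ, QuotientGroup.eq, B₀, Subgroup.mem_subgroupOf] at h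
          · have := inv_mem (baseT_le h); simpa using this
          · have h' : g.1⁻¹ * τ ∈ baseT F κ := h
            have := mul_mem (permU_mem (Equiv.swap k l)) (inv_mem (baseT_le h'))
            rwa [_root_.mul_inv_rev, inv_inv, ← mul_assoc, ← hτ, mul_inv_cancel, one_mul] at this
        have := conj_mem_baseT (inv_mem hgT) (tensU_mem_baseT (Pi.mulSingle k A₀))
        rwa [inv_inv] at this
  have hrpow : MulAction.toPermHom M (↥M ⧸ B₀) rM ^ 2 = 1 := by
    rw [← map_pow, pow_two, show rM * rM = 1 from Subtype.ext hrr, map_one]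
  have hn2 : 2 ≤ Fintype.card (↥M ⧸ B₀) := Fintype.one_lt_card_iff.2 ⟨c₁, cτ, hne⟩
  have heven : Even ((Fintype.card (↥M ⧸ B₀) - 2) / 2) := by
    have h1 : f rM = 1 := hfb _
    rw [show f rM = Equiv.Perm.sign (MulAction.toPermHom M (↥M ⧸ B₀) rM) from rfl,
      Equiv.Perm.sign_of_pow_two_eq_one hrpow] at h1
    have h2 : Fintype.card (Function.fixedPoints (MulAction.toPermHom M (↥M ⧸ B₀) rM)) = 2 := by
      rw [Fintype.card_eq_nat_card, hfixr, Nat.card_coe_set_eq, Set.ncard_pair hne]
    rw [h2] at h1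
    exact (neg_one_pow_eq_one_iff_even (by decide)).1 h1
  have hfτ : f τM = -1 := by
    have hτpow : MulAction.toPermHom M (↥M ⧸ B₀) τM ^ 2 = 1 := by
      rw [← map_pow, pow_two, show τM * τM = 1 from Subtype.ext (by
        show τ * τ = 1
        rw [hτ, ← map_mul, Equiv.swap_mul_self, map_one]), map_one]
    have h0 : Fintype.card (Function.fixedPoints (MulAction.toPermHom M (↥M ⧸ B₀) τM)) = 0 := by
      rw [Fintype.card_eq_zero_iff, Set.isEmpty_coe_sort, Set.eq_empty_iff_forall_notMem]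
      intro c
      induction c using QuotientGroup.induction_on with
      | H g =>
        intro h
        simp only [Function.mem_fixedPoints_iff, MulAction.toPermHom_apply, MulAction.toPerm_apply] at h
        rw [MulAction.Quotient.smul_mk, QuotientGroup.eq, Subgroup.mem_subgroupOf] at h
        have hb : g.1⁻¹ * τ * g.1 ∈ baseT F κ := by
          have h' : (τ * g.1)⁻¹ * g.1 ∈ baseT F κ := h
          rw [_root_.mul_inv_rev] at h'
          rwa [show τ⁻¹ = τ from inv_eq_of_mul_eq_one_right (by rw [hτ, ← map_mul, Equiv.swap_mul_self, map_one])] at h'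
        by_cases hgT : g.1 ∈ wreathT F κ 3
        · have := conj_mem_baseT hgT hb
          exact hτb (by simpa [mul_assoc] using this)
        obtain ⟨C, hC⟩ := exists_of_mem_baseT hb
        set b := g.1⁻¹ * τ * g.1 with hbdef
        have hb1 : b ≠ 1 := fun e => hτb (by
          have : τ = 1 := by
            have h3 : g.1 * b * g.1⁻¹ = 1 := by rw [e]; group
            rw [← h3, hbdef]; group
          rw [this]; exact one_mem _)
        have hbb : b * b = 1 := by
          rw [hbdef, show g.1⁻¹ * τ * g.1 * (g.1⁻¹ * τ * g.1) = g.1⁻¹ * (τ * τ) * g.1 by group,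
            show τ * τ = 1 by rw [hτ, ← map_mul, Equiv.swap_mul_self, map_one]]
          group
        have hq2 : (b.1 - 1) * (b.1 - 1) = 0 := by
          rw [show (b.1 - 1) * (b.1 - 1) = b.1 * b.1 + 1 - (2 : F) • b.1 by rw [two_smul]; noncomm_ring,
            CharTwo.two_eq_zero, zero_smul, sub_zero, ← Units.val_mul, hbb, Units.val_one, ← two_smul F (1 : TMat F κ 3),
            CharTwo.two_eq_zero, zero_smul]
        have hrk : (b.1 - 1).rank ≤ Fintype.card (Rest k → Fin 3) := by
          have e : b.1 - 1 = g.1⁻¹.1 * (τ.1 - 1) * g.1.1 := by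
            rw [Matrix.mul_sub, Matrix.sub_mul, Matrix.mul_one, ← Units.val_mul, ← Units.val_mul, ← Units.val_mul,
              inv_mul_cancel, Units.val_one]
          rw [e]
          refine ((Matrix.rank_mul_le_left _ _).trans (Matrix.rank_mul_le_right _ _)).trans ?_
          refine (rank_swap_le hcard hkl).trans (le_of_eq ?_)
          simp [Fintype.card_subtype_compl, hcard]
        obtain ⟨j, b', β', hb', hβ', hβb', e⟩ := classify_one le_rfl k hC hb1 hq2 hrk
        refine hNF g.1⁻¹ (inv_mem g.2) (fun h => hgT (by simpa using inv_mem h)) j b' β' hb' hβ' hβb' b e ?_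
        rw [hbdef]
        simpa [mul_assoc] using (permU_mem (F := F) (m := 3) (Equiv.swap k l))
    show Equiv.Perm.sign (MulAction.toPermHom M (↥M ⧸ B₀) τM) = -1
    rw [Equiv.Perm.sign_of_pow_two_eq_one hτpow, h0, Nat.sub_zero,
      show Fintype.card (↥M ⧸ B₀) / 2 = (Fintype.card (↥M ⧸ B₀) - 2) / 2 + 1 by omega, pow_succ, heven.neg_one_pow,
      one_mul]
  -- the subgroup of index two
  set M₀ : Subgroup (GL (κ → Fin 3) F) := f.ker.map M.subtype with hM₀
  have hmem₀ : ∀ g : GL (κ → Fin 3) F, g ∈ M₀ ↔ ∃ h : g ∈ M, f ⟨g, h⟩ = 1 := fun g => by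
    constructor
    · rintro ⟨x, hx, rfl⟩; exact ⟨x.2, hx⟩
    · rintro ⟨h, h'⟩; exact ⟨⟨g, h⟩, h', rfl⟩
  have htens : ∀ C : κ → GL (Fin 3) F, tensU C ∈ M₀ ∧ tensU C ∈ baseT F κ := fun C =>
    ⟨(hmem₀ _).2 ⟨_, hfb C⟩, tensU_mem_baseT C⟩
  have hfree₀ : ∀ g ∈ M₀, g ∉ baseT F κ → ∀ (i : κ) (b β : Fin 3 → F), b ≠ 0 → β ≠ 0 → β ⬝ᵥ b = 0 →
      ∀ r : GL (κ → Fin 3) F, r.1 = 1 + op i (vecMulVec b β) → g⁻¹ * r * g ∉ baseT F κ := by
    intro g hg hgb i b β hb hβ hβb r' hr' h
    obtain ⟨hgM, hfg⟩ := (hmem₀ g).1 hg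
    rcases hcases g (hfreeB g hgM i b β hb hβ hβb r' hr' h) with h' | h'
    · exact hgb h'
    · obtain ⟨C, hC⟩ := exists_of_mem_baseT h'
      have h1 : f (τM * ⟨g, hgM⟩) = 1 := by
        rw [show τM * ⟨g, hgM⟩ = (⟨tensU C, hW _ (tensU_mem C)⟩ : M) from Subtype.ext hC, hfb]
      rw [map_mul, hfτ, hfg] at h1
      exact absurd h1 (by decide)
  have hφ : ∀ i : κ, ∀ h ∈ M₀, h ∈ baseT F κ → ∀ Y, ptrOne i (Ad h Y) = Ad h (ptrOne i Y) := fun i h _ hb Y => by
    obtain ⟨C, hC⟩ := exists_of_mem_baseT hb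
    have hC' : h = tensU C * permU 1 := by rw [hC, map_one, mul_one]
    rw [Ad_apply, Ad_apply, ptrOne_apply, ptrOne_apply, show ptr i (h.1 * Y * h⁻¹.1) =
      (C i).1 * ptr i Y * (C i)⁻¹.1 from ptr_conj hC' i Y, conj_op hC' i, Equiv.Perm.one_apply]
  obtain ⟨ck, hkillk, hpairk, hzerok⟩ := relD_props hq htens (ptrOne k) (hφ k) (trace_ptrOne_mul k) hfree₀
  obtain ⟨cl, hkilll, hpairl, hzerol⟩ := relD_props hq htens (ptrOne l) (hφ l) (trace_ptrOne_mul l) hfree₀
  have htr : (vecMulVec u v).trace = 0 := (show IsNilOne (vecMulVec u v) from ⟨u, v, hu0, hv0, hvu, rfl⟩).trace_eq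
  have main : ∀ g ∈ M₀, g ∈ wreathT F κ 3 := by
    intro g hg
    have hgM := ((hmem₀ g).1 hg).1
    by_cases hck : ck = 0
    · set Y := Ad g (op k (vecMulVec u v)) with hY
      have h1 : relTr M₀ (baseT F κ) (ptrOne k) (hφ k) Y = Y := by
        rw [hY, relTr_Ad _ hg, hkillk l _ fun A => op_comm hkl.symm A _, ptrOne_apply, ptr_op k k htr, if_pos rfl]
      rw [hzerok Y fun C _ => by rw [hck, zero_mul]] at h1
      exact mem_of_Ad_root hNF hgM hu0 hv0 hvu h1.symm
    · set Y := Ad g (op l (vecMulVec u v)) with hY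
      have h1 : relTr M₀ (baseT F κ) (ptrOne l) (hφ l) Y = Y := by
        rw [hY, relTr_Ad _ hg, hkilll k _ fun A => op_comm hkl A _, ptrOne_apply, ptr_op l l htr, if_pos rfl]
      have h0 : relTr M₀ (baseT F κ) (ptrOne k) (hφ k) Y = 0 := by
        rw [hY, relTr_Ad _ hg, hkillk k _ ?_, ptrOne_apply, ptr_op l k htr, if_neg hkl, op_zero, map_zero]
        exact fun A => op_comm hkl A _
      rw [hzerol Y fun C hC => ?_] at h1
      · exact mem_of_Ad_root hNF hgM hu0 hv0 hvu h1.symm
      · have h2 := hpairk Y C hC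
        rw [h0, Matrix.zero_mul, Matrix.trace_zero, trace_ptrOne_mul, ptrOne_apply,
          ptr_tens_eq_zero hkl.symm (hC l).trace_eq, op_zero, Matrix.mul_zero, Matrix.trace_zero, zero_add] at h2
        rw [(mul_eq_zero.1 h2.symm).resolve_left hck, mul_zero]
  intro g hg
  by_cases hfg : f ⟨g, hg⟩ = 1
  · exact main g ((hmem₀ g).2 ⟨hg, hfg⟩)
  · have h1 : f (τM * ⟨g, hg⟩) = 1 := by
      rw [map_mul, hfτ, (Int.units_eq_one_or (f ⟨g, hg⟩)).resolve_left hfg]
      decide
    have h2 := mul_mem (inv_mem (permU_mem (Equiv.swap k l))) (main (τ * g) ((hmem₀ _).2 ⟨mul_mem hτM hg, h1⟩))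
    rwa [← hτ, inv_mul_cancel_left] at h2

/-- Without fusion, factors of dimension three over two elements. -/
theorem le_of_noFuse_small (hq : Fintype.card F = 2) {M : Subgroup (GL (κ → Fin 3) F)} (hM : Over M)
    (hNF : NoFuse M) (hcard : 2 ≤ Fintype.card κ) : M ≤ wreathT F κ 3 := by
  rcases hcard.eq_or_lt with h | h
  · exact le_of_noFuse_two hq hM hNF h.symm
  · exact le_of_noFuse_three hq hM hNF h

end CfsgLib.Classical.WreathMax
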