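import Cfsg.Prelude.Def_GeometricClasses
import Cfsg.Agent.Lib.Classical.WreathMax.Induct
import Cfsg.Agent.Lib.Classical.WreathMax.Small

/-!
# Maximality of the stabiliser of a tensor power decomposition in the special linear group
-/

set_option autoImplicit false
set_option linter.unusedSectionVars false

open Matrix Module

namespace CfsgLib.Classical.WreathMax

variable {F : Type*} [Field F] {m : ℕ}

theorem tensorWreathStandard_eq (t : ℕ) :
    Cfsg.Geo.tensorWreathStandard m t F = wreathT F (Fin t) m := by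
  rw [Cfsg.Geo.tensorWreathStandard]
  refine le_antisymm ((Subgroup.closure_le _).2 ?_) ?_
  · rintro g (⟨gs, hgs⟩ | ⟨σ, hσ⟩)
    · have : g = tensU gs := Units.ext (Matrix.ext fun x y => by rw [hgs, tensU_coe, tens_apply])
      exact this ▸ tensU_mem gs
    · have : g = permU σ := Units.ext (Matrix.ext fun x y => by rw [hσ, permU_coe, permM_apply])
      exact this ▸ permU_mem σ
  · rintro _ ⟨σ, C, rfl⟩
    exact mul_mem
      (Subgroup.subset_closure (Or.inl ⟨C, fun x y => by rw [tensU_coe, tens_apply]⟩))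
      (Subgroup.subset_closure (Or.inr ⟨σ, fun x y => by rw [permU_coe, permM_apply]⟩))

theorem exists_not_mem_wreathT {κ : Type} [Fintype κ] [DecidableEq κ] (h3 : 3 ≤ m)
    (hcard : 1 < Fintype.card κ) : ∃ g : GL (κ → Fin m) F, det g.1 = 1 ∧ g ∉ wreathT F κ m := by
  obtain ⟨l, o, hlo⟩ := Fintype.one_lt_card_iff.1 hcard
  set z : Fin m := ⟨0, by omega⟩
  set w : Fin m := ⟨1, by omega⟩
  have hzw : z ≠ w := by simp [z, w, Fin.ext_iff]
  set x : κ → Fin m := fun _ => z
  set y : κ → Fin m := fun a => if a = l ∨ a = o then w else z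
  have hxy : x ≠ y := fun e => hzw (by simpa [x, y] using congrFun e l)
  set T := SpecialLinearGroup.toGL (SpecialLinearGroup.transvection hxy (1 : F))
  have hTe : T.1 = (1 : TMat F κ m) + Matrix.single x y 1 := SpecialLinearGroup.transvection_coe hxy 1
  refine ⟨T, (SpecialLinearGroup.transvection hxy (1 : F)).2, fun hW => ?_⟩
  have hfix : ∀ γ, T.1 * op l (vecMulVec (Pi.single z 1) γ) = op l (vecMulVec (Pi.single z 1) γ) := fun γ => by
    rw [hTe, Matrix.add_mul, Matrix.one_mul, add_eq_left]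
    ext a c
    rw [Matrix.mul_apply, Finset.sum_eq_single y, Matrix.single_apply, op_apply, vecMulVec_apply,
      Pi.single_eq_of_ne (show y l ≠ z by simp [y, hzw.symm])]
    · simp
    · intro b _ hb
      rw [Matrix.single_apply, if_neg fun e => hb e.2.symm, zero_mul]
    · simp
  obtain ⟨A, hA⟩ := op_of_fix h3 hW (by simp) hfix
  have h1 := congrFun (congrFun hA x) y
  rw [hTe, Matrix.add_apply, Matrix.one_apply_ne hxy, zero_add, Matrix.single_apply, if_pos ⟨rfl, rfl⟩, op_apply,
    if_neg fun hall => hzw (by simpa [x, y] using hall o hlo.symm)] at h1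
  exact one_ne_zero h1

variable [Fintype F]

/-- The stabiliser of a tensor power decomposition is maximal, given the dichotomy for overgroups. -/
theorem isMaximal_of_dichotomy {n t : ℕ} (h3 : 3 ≤ m) (ht : 2 ≤ t) (e : Fin n ≃ (Fin t → Fin m)) (P : GL (Fin n) F)
    (hdich : ∀ M : Subgroup (GL (Fin t → Fin m) F), Over M → M ≤ wreathT F (Fin t) m ∨ Full M) :
    Cfsg.Geo.IsMaximalIn (Cfsg.Geo.specialLinear (Fin n) F)
      (Cfsg.Geo.tensorWreathSubgroup m t e P ⊓ Cfsg.Geo.specialLinear (Fin n) F) := by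
  classical
  set T := Cfsg.Geo.tensorWreathSubgroup m t e P with hT
  set S := Cfsg.Geo.specialLinear (Fin n) F with hS
  set φ : GL (Fin t → Fin m) F →* GL (Fin n) F :=
    (MulAut.conj P).toMonoidHom.comp (Cfsg.Geo.glReindex e.symm).toMonoidHom with hφ
  have hdet : ∀ x, φ x ∈ S ↔ det x.1 = 1 := fun x => by
    show Matrix.GeneralLinearGroup.det (P * Cfsg.Geo.glReindex e.symm x * P⁻¹) = 1 ↔ _
    rw [map_mul, map_mul, map_inv, mul_comm (Matrix.GeneralLinearGroup.det P), mul_assoc, mul_inv_cancel, mul_one,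
      Units.ext_iff, Matrix.GeneralLinearGroup.val_det_apply]
    rw [show (Cfsg.Geo.glReindex e.symm x : Matrix (Fin n) (Fin n) F) = Matrix.reindex e.symm e.symm x.1 from rfl,
      Matrix.det_reindex_self, Units.val_one]
  have hTeq : ∀ x, φ x ∈ T ↔ x ∈ wreathT F (Fin t) m := fun x => by
    rw [hT, Cfsg.Geo.tensorWreathSubgroup, tensorWreathStandard_eq, Subgroup.map_map]
    refine ⟨fun h => ?_, fun h => Subgroup.mem_map_of_mem _ h⟩
    obtain ⟨y, hy, hyx⟩ := Subgroup.mem_map.1 h
    rwa [((MulAut.conj P).injective.comp (Cfsg.Geo.glReindex e.symm).injective) hyx] at hy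
  have hsurj : ∀ g, ∃ x, φ x = g := fun g =>
    ⟨(Cfsg.Geo.glReindex e.symm).symm ((MulAut.conj P).symm g), by simp [hφ, mul_assoc]⟩
  refine ⟨lt_of_le_of_ne inf_le_right fun h => ?_, fun M hHM hMS => ?_⟩
  · obtain ⟨g, hg, hgT⟩ := exists_not_mem_wreathT (F := F) h3 (κ := Fin t) (by simp; omega)
    have : φ g ∈ T ⊓ S := by rw [h]; exact (hdet g).2 hg
    exact hgT ((hTeq g).1 this.1)
  have hover : Over (M.comap φ) := ⟨fun g hg => (hdet g).1 (hMS hg),
    fun g hg hd => hHM ⟨(hTeq g).2 hg, (hdet g).2 hd⟩⟩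
  rcases hdich _ hover with h | h
  · refine Or.inl (le_antisymm (fun g hg => ⟨?_, hMS hg⟩) hHM)
    obtain ⟨x, rfl⟩ := hsurj g
    exact (hTeq x).2 (h hg)
  · refine Or.inr (le_antisymm hMS fun g hg => ?_)
    obtain ⟨x, rfl⟩ := hsurj g
    exact h x ((hdet x).1 hg)

/-- The stabiliser of a tensor power decomposition with factors of dimension at least three is maximal. -/
theorem isMaximal {n t : ℕ} (h3 : 3 ≤ m) (ht : 2 ≤ t) (e : Fin n ≃ (Fin t → Fin m)) (P : GL (Fin n) F) :
    Cfsg.Geo.IsMaximalIn (Cfsg.Geo.specialLinear (Fin n) F)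
      (Cfsg.Geo.tensorWreathSubgroup m t e P ⊓ Cfsg.Geo.specialLinear (Fin n) F) := by
  refine isMaximal_of_dichotomy h3 ht e P fun M hM => ?_
  by_cases hex : 4 ≤ m ∨ (3 ≤ m ∧ 3 ≤ Fintype.card F)
  · exact dichotomy hex hM
  obtain rfl : m = 3 := by omega
  have hq : Fintype.card F = 2 := by
    have := Fintype.one_lt_card (α := F)
    omega
  exact dichotomy_of_base le_rfl (fun _ _ _ _ hcard hM' hNF => le_of_noFuse_small hq hM' hNF hcard) hM

end CfsgLib.Classical.WreathMax
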