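import Cfsg.Agent.Lib.Classical.WreathMax.Ops

/-!
# Algebras of matrices on a tensor power invariant under the transvections of all factors
-/

set_option autoImplicit false
set_option linter.unusedSectionVars false

open Matrix

namespace CfsgLib.Classical.WreathMax

variable {F : Type*} [Field F] {κ : Type} [Fintype κ] [DecidableEq κ] {m : ℕ}

theorem tens_update_apply (C : κ → Matrix (Fin m) (Fin m) F) (l : κ) (X : Matrix (Fin m) (Fin m) F)
    (x y : κ → Fin m) :
    tens (Function.update C l X) x y = X (x l) (y l) * ∏ k ∈ Finset.univ.erase l, C k (x k) (y k) := by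
  rw [tens_apply, ← Finset.mul_prod_erase Finset.univ _ (Finset.mem_univ l), Function.update_self]
  congr 1
  exact Finset.prod_congr rfl fun k hk => by rw [Function.update_of_ne (Finset.ne_of_mem_erase hk)]

theorem tens_update_sub (C : κ → Matrix (Fin m) (Fin m) F) (l : κ) (X X' : Matrix (Fin m) (Fin m) F) :
    tens (Function.update C l (X - X')) = tens (Function.update C l X) - tens (Function.update C l X') := by
  ext x y
  simp only [Matrix.sub_apply, tens_update_apply, sub_mul]

theorem tens_update_neg (C : κ → Matrix (Fin m) (Fin m) F) (l : κ) (X : Matrix (Fin m) (Fin m) F) :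
    tens (Function.update C l (-X)) = -tens (Function.update C l X) := by
  ext x y
  simp only [Matrix.neg_apply, tens_update_apply, neg_mul]

theorem tens_update_sum {α : Type*} (s : Finset α) (C : κ → Matrix (Fin m) (Fin m) F) (l : κ)
    (X : α → Matrix (Fin m) (Fin m) F) :
    tens (Function.update C l (∑ a ∈ s, X a)) = ∑ a ∈ s, tens (Function.update C l (X a)) := by
  ext x y
  simp only [Matrix.sum_apply, tens_update_apply, Finset.sum_mul]

theorem op_mul_tens (C : κ → Matrix (Fin m) (Fin m) F) (l : κ) (A : Matrix (Fin m) (Fin m) F) :
    op l A * tens C = tens (Function.update C l (A * C l)) := by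
  rw [op_eq_tens, ← map_mul]
  congr 1
  funext k
  by_cases h : k = l
  · subst h; simp
  · simp [h]

theorem op_single_mul_apply (l : κ) (a b : Fin m) (Y : TMat F κ m) (x y : κ → Fin m) :
    (op l (Matrix.single a b (1 : F)) * Y) x y = if x l = a then Y (Function.update x l b) y else 0 := by
  rw [Matrix.mul_apply, Finset.sum_eq_single (Function.update x l b)]
  · rw [op_apply, if_pos (fun k hk => by rw [Function.update_of_ne hk]), Function.update_self, Matrix.single_apply]
    by_cases h : x l = a
    · simp [h]
    · simp [h, Ne.symm h]
  · intro z _ hz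
    rw [op_apply]
    split_ifs with h
    · rw [Matrix.single_apply, if_neg, zero_mul]
      rintro ⟨-, h2⟩
      exact hz (funext fun k => by
        by_cases hk : k = l
        · subst hk; rw [Function.update_self, h2]
        · rw [Function.update_of_ne hk, h k hk])
    · rw [zero_mul]
  · simp

theorem mul_op_single_apply (l : κ) (a b : Fin m) (Y : TMat F κ m) (x y : κ → Fin m) :
    (Y * op l (Matrix.single a b (1 : F))) x y = if y l = b then Y x (Function.update y l a) else 0 := by
  rw [Matrix.mul_apply, Finset.sum_eq_single (Function.update y l a)]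
  · rw [op_apply, if_pos (fun k hk => by rw [Function.update_of_ne hk]), Function.update_self, Matrix.single_apply]
    by_cases h : y l = b
    · simp [h]
    · simp [h, Ne.symm h]
  · intro z _ hz
    rw [op_apply]
    split_ifs with h
    · rw [Matrix.single_apply, if_neg, mul_zero]
      rintro ⟨h1, -⟩
      exact hz (funext fun k => by
        by_cases hk : k = l
        · subst hk; rw [Function.update_self, h1]
        · rw [Function.update_of_ne hk, ← h k hk])
    · rw [mul_zero]
  · simp

/-- The subalgebra is invariant under the elementary transvections of every factor. -/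
def ConjInv (S : Subalgebra F (TMat F κ m)) : Prop :=
  ∀ (l : κ) (a b : Fin m), a ≠ b → ∀ Y ∈ S,
    (1 + op l (Matrix.single a b (1 : F))) * Y * (1 - op l (Matrix.single a b (1 : F))) ∈ S

variable {S : Subalgebra F (TMat F κ m)}

theorem exchange (hS : ConjInv S) {C : κ → Matrix (Fin m) (Fin m) F} (hC : tens C ∈ S) {l : κ} {a b c d : Fin m}
    (hab : a ≠ b) (hcd : c ≠ d) (hl : C l = Matrix.single a b 1) (h3 : 3 ≤ m) :
    tens (Function.update C l (Matrix.single c d 1)) ∈ S := by
  have left : ∀ {C : κ → Matrix (Fin m) (Fin m) F} {a b c : Fin m}, a ≠ b → c ≠ b → tens C ∈ S →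
      C l = Matrix.single a b 1 → tens (Function.update C l (Matrix.single c b 1)) ∈ S := by
    intro C a b c hab hcb hC hl
    rcases eq_or_ne c a with rfl | hca
    · rw [← hl, Function.update_eq_self]; exact hC
    have h := S.sub_mem (hS l c a hca _ hC) hC
    rw [← map_one (op l), ← op_add, ← op_sub, op_mul_tens, tens_mul_op, Function.update_self, Function.update_idem]
      at h
    rw [show tens C = tens (Function.update C l (C l)) by rw [Function.update_eq_self],
      ← tens_update_sub, hl] at h
    convert h using 4
    simp only [Matrix.add_mul, Matrix.mul_sub, Matrix.mul_one, Matrix.one_mul, Matrix.single_mul_single_same,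
      Matrix.single_mul_single_of_ne _ _ _ _ hcb.symm, mul_one, sub_zero]
    abel
  have right : ∀ {C : κ → Matrix (Fin m) (Fin m) F} {a b d : Fin m}, a ≠ b → a ≠ d → tens C ∈ S →
      C l = Matrix.single a b 1 → tens (Function.update C l (Matrix.single a d 1)) ∈ S := by
    intro C a b d hab had hC hl
    rcases eq_or_ne d b with rfl | hdb
    · rw [← hl, Function.update_eq_self]; exact hC
    have h := S.neg_mem (S.sub_mem (hS l b d hdb.symm _ hC) hC)
    rw [← map_one (op l), ← op_add, ← op_sub, op_mul_tens, tens_mul_op, Function.update_self, Function.update_idem]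
      at h
    rw [show tens C = tens (Function.update C l (C l)) by rw [Function.update_eq_self],
      ← tens_update_sub, ← tens_update_neg, hl] at h
    convert h using 4
    simp only [Matrix.add_mul, Matrix.mul_sub, Matrix.mul_one, Matrix.one_mul, Matrix.single_mul_single_same,
      Matrix.single_mul_single_of_ne _ _ _ _ had.symm, Matrix.zero_mul, mul_one, add_zero]
    abel
  by_cases hcb : c = b
  · obtain ⟨e, hea, heb⟩ : ∃ e : Fin m, e ≠ a ∧ e ≠ b := by
      obtain ⟨e, he⟩ := Finset.exists_mem_notMem_of_card_lt_card (s := ({a, b} : Finset (Fin m))) (t := Finset.univ)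
        (lt_of_le_of_lt Finset.card_le_two (by simp; omega))
      simp only [Finset.mem_insert, Finset.mem_singleton, not_or] at he
      exact ⟨e, he.2⟩
    have h1 := right hab hea.symm hC hl
    have h2 := left hea.symm (show c ≠ e from hcb ▸ heb.symm) h1 (Function.update_self ..)
    rw [Function.update_idem] at h2
    have h3 := right (show c ≠ e from hcb ▸ heb.symm) hcd h2 (Function.update_self ..)
    rwa [Function.update_idem] at h3
  · have h1 := left hab hcb hC hl
    have h2 := right hcb hcd h1 (Function.update_self ..)
    rwa [Function.update_idem] at h2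

/-- All of one factor, from one off-diagonal unit of it. -/
theorem full_of_single (hS : ConjInv S) (h3 : 3 ≤ m) {j : κ} {p r : Fin m} (hpr : p ≠ r)
    (h : op j (Matrix.single p r (1 : F)) ∈ S) (A : Matrix (Fin m) (Fin m) F) : op j A ∈ S := by
  have hall : ∀ c d : Fin m, c ≠ d → op j (Matrix.single c d (1 : F)) ∈ S := fun c d hcd => by
    have h1 := exchange hS (C := Pi.mulSingle j (Matrix.single p r (1 : F))) h hpr hcd (Pi.mulSingle_eq_same ..) h3
    rw [op_eq_tens]
    convert h1 using 2
    funext k
    by_cases hk : k = j
    · subst hk; simp
    · simp [hk]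
  rw [Matrix.matrix_eq_sum_single A, op_sum]
  refine S.sum_mem fun c _ => ?_
  rw [op_sum]
  refine S.sum_mem fun d _ => ?_
  rw [show Matrix.single c d (A c d) = A c d • Matrix.single c d (1 : F) by simp, op_smul]
  refine S.smul_mem ?_ _
  by_cases hcd : c = d
  · subst hcd
    haveI : Nontrivial (Fin m) := Fin.nontrivial_iff_two_le.2 (by omega)
    obtain ⟨e, he⟩ := exists_ne c
    rw [show Matrix.single c c (1 : F) = Matrix.single c e 1 * Matrix.single e c 1 by
      rw [Matrix.single_mul_single_same, one_mul], map_mul]
    exact S.mul_mem (hall c e he.symm) (hall e c he)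
  · exact hall c d hcd

/-- The height of an index. -/
def wt (x : κ → Fin m) : ℕ := ∑ l, (x l : ℕ)

theorem wt_le (x : κ → Fin m) : wt x ≤ Fintype.card κ * m := by
  refine (Finset.sum_le_card_nsmul Finset.univ _ m fun l _ => le_of_lt (x l).2).trans ?_
  simp

theorem wt_update (x : κ → Fin m) (l : κ) (b : Fin m) : wt (Function.update x l b) + x l = wt x + b := by
  have h : ∀ z : κ → Fin m, wt z = (z l : ℕ) + ∑ k ∈ Finset.univ.erase l, (z k : ℕ) := fun z =>
    (Finset.add_sum_erase Finset.univ (fun k => (z k : ℕ)) (Finset.mem_univ l)).symm
  rw [h, h x, Function.update_self,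
    Finset.sum_congr rfl (g := fun k => (x k : ℕ)) fun k hk => by
      rw [Function.update_of_ne (Finset.ne_of_mem_erase hk)]]
  omega

/-- The matrices of height at least `k`. -/
def Filt (k : ℕ) (Y : TMat F κ m) : Prop :=
  ∀ x y, wt y + Fintype.card κ * m < wt x + k → Y x y = 0

theorem Filt.raise_left {k : ℕ} {Y : TMat F κ m} (hY : Filt k Y) (l : κ) {a b : Fin m} (hab : a < b) :
    Filt (k + 1) (op l (Matrix.single a b (1 : F)) * Y) := fun x y h => by
  rw [op_single_mul_apply]
  split_ifs with hx
  · refine hY _ _ ?_
    have := wt_update x l b
    rw [hx] at this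
    have : (a : ℕ) < b := hab
    omega
  · rfl

theorem Filt.raise_right {k : ℕ} {Y : TMat F κ m} (hY : Filt k Y) (l : κ) {a b : Fin m} (hab : a < b) :
    Filt (k + 1) (Y * op l (Matrix.single a b (1 : F))) := fun x y h => by
  rw [mul_op_single_apply]
  split_ifs with hy
  · refine hY _ _ ?_
    have := wt_update y l a
    rw [hy] at this
    have : (a : ℕ) < b := hab
    omega
  · rfl

theorem Filt.mono {k : ℕ} {Y : TMat F κ m} (hY : Filt (k + 1) Y) : Filt k Y :=
  fun x y h => hY x y (by omega)

/-- `Y` commutes with the upper transvections of the factor `l`. -/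
def CommU (l : κ) (Y : TMat F κ m) : Prop :=
  ∀ a b : Fin m, a < b → op l (Matrix.single a b (1 : F)) * Y = Y * op l (Matrix.single a b 1)

theorem exists_fixed (hS : ConjInv S) (h3 : 3 ≤ m) {Y : TMat F κ m} (hY : Y ∈ S)
    (hne : ∀ c : F, Y ≠ c • 1) :
    ∃ Z ∈ S, (∀ c : F, Z ≠ c • 1) ∧ ∀ l, CommU l Z := by
  classical
  set B := Fintype.card κ * m
  suffices h : ∀ (d k : ℕ) (Y : TMat F κ m), k + d = 2 * B + 1 → Y ∈ S → (∀ c : F, Y ≠ c • 1) → Filt k Y →
      ∃ Z ∈ S, (∀ c : F, Z ≠ c • 1) ∧ ∀ l, CommU l Z by
    refine h (2 * B + 1) 0 Y (Nat.zero_add _) hY hne fun x y h => ?_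
    have := wt_le x
    omega
  intro d
  induction d with
  | zero =>
    intro k Y hk _ hne hF
    refine absurd ?_ (hne 0)
    rw [zero_smul]
    ext x y
    refine hF x y ?_
    have := wt_le y
    omega
  | succ d ih =>
    intro k Y hk hY hne hF
    by_cases hc : ∃ l a b, a < b ∧ ∀ c : F,
        (1 + op l (Matrix.single a b (1 : F))) * Y * (1 - op l (Matrix.single a b (1 : F))) - Y ≠ c • 1
    · obtain ⟨l, a, b, hab, hc⟩ := hc
      refine ih (k + 1) _ (by omega) (S.sub_mem (hS l a b (ne_of_lt hab) Y hY) hY) hc ?_
      set N := op l (Matrix.single a b (1 : F)) with hN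
      have e : (1 + N) * Y * (1 - N) - Y = N * Y - Y * N - N * Y * N := by noncomm_ring
      rw [e]
      intro x y h
      have h1 := hF.raise_left l hab x y h
      have h2 := hF.raise_right l hab x y h
      have h3' := (hF.raise_left l hab).mono.raise_right l hab x y h
      rw [← hN] at h1 h2 h3'
      rw [Matrix.sub_apply, Matrix.sub_apply, h1, h2, h3', sub_zero, sub_zero]
    · push Not at hc
      refine ⟨Y, hY, hne, fun l a b hab => ?_⟩
      have hlin : ∀ a b : Fin m, a < b → ∃ c : F, op l (Matrix.single a b (1 : F)) * Y -
          Y * op l (Matrix.single a b 1) = c • (1 + op l (Matrix.single a b 1)) := fun a b hab => by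
        obtain ⟨c, hc⟩ := hc l a b hab
        refine ⟨c, ?_⟩
        set N := op l (Matrix.single a b (1 : F)) with hN
        have hN2 : N * N = 0 := by
          rw [hN, ← map_mul, Matrix.single_mul_single_of_ne _ _ _ _ (ne_of_gt hab), op_zero]
        have e : ((1 + N) * Y * (1 - N) - Y) * (1 + N) = N * Y - Y * N := by
          have : (1 - N) * (1 + N) = 1 := by noncomm_ring [hN2]
          rw [Matrix.sub_mul, Matrix.mul_assoc _ (1 - N), this, Matrix.mul_one]
          noncomm_ring
        rw [← e, hc, Matrix.smul_mul, Matrix.one_mul]
      -- a second transvection in the same row or column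
      obtain ⟨a', b', ha'b', hne', h0, h0'⟩ : ∃ a' b' : Fin m, a' < b' ∧ (a', b') ≠ (a, b) ∧ b ≠ a' ∧ b' ≠ a := by
        by_cases h1 : (a : ℕ) + 1 < b
        · exact ⟨a, ⟨a + 1, by omega⟩, by simp [Fin.lt_def],
            fun e => by simp [Prod.ext_iff, Fin.ext_iff] at e; omega, fun e => by omega,
            fun e => by simp [Fin.ext_iff] at e⟩
        · by_cases h2 : (b : ℕ) + 1 < m
          · exact ⟨a, ⟨b + 1, h2⟩, by simp [Fin.lt_def]; omega,
              fun e => by simp [Prod.ext_iff, Fin.ext_iff] at e, fun e => by omega,
              fun e => by simp [Fin.ext_iff] at e; omega⟩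
          · exact ⟨⟨0, by omega⟩, b, by simp [Fin.lt_def]; omega,
              fun e => by simp [Prod.ext_iff, Fin.ext_iff] at e; omega, fun e => by simp [Fin.ext_iff] at e; omega,
              fun e => by omega⟩
      obtain ⟨c, hcN⟩ := hlin a b hab
      obtain ⟨c', hcN'⟩ := hlin a' b' ha'b'
      set N := op l (Matrix.single a b (1 : F)) with hN
      set N' := op l (Matrix.single a' b' (1 : F)) with hN'
      have hNN' : N * N' = 0 := by
        rw [hN, hN', ← map_mul, Matrix.single_mul_single_of_ne _ _ _ _ h0, op_zero]
      have key : (N * Y - Y * N) * N' + N * (N' * Y - Y * N') = 0 := by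
        rw [Matrix.sub_mul, Matrix.mul_sub, ← Matrix.mul_assoc N N' Y, Matrix.mul_assoc Y N N', hNN',
          Matrix.zero_mul, Matrix.mul_zero, ← Matrix.mul_assoc N Y N']
        abel
      rw [hcN, hcN', Matrix.smul_mul, Matrix.mul_smul, Matrix.add_mul, Matrix.mul_add, Matrix.one_mul,
        Matrix.mul_one, hNN', add_zero, add_zero] at key
      have hx : ∀ (p r p' r' : Fin m), (p, r) ≠ (p', r') →
          op l (Matrix.single p r (1 : F)) (Function.update (fun _ => a) l p') (Function.update (fun _ => a) l r') = 0 :=
        fun p r p' r' h => by
          rw [op_apply, if_pos fun k hk => by rw [Function.update_of_ne hk, Function.update_of_ne hk],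
            Function.update_self, Function.update_self, Matrix.single_apply, if_neg]
          exact fun e => h (Prod.ext e.1 e.2)
      have h1 := congrFun (congrFun key (Function.update (fun _ => a) l a')) (Function.update (fun _ => a) l b')
      rw [Matrix.add_apply, Matrix.smul_apply, Matrix.smul_apply, hN, hx a b a' b' hne'.symm, smul_zero, add_zero,
        hN', op_apply, if_pos fun k hk => by rw [Function.update_of_ne hk, Function.update_of_ne hk],
        Function.update_self, Function.update_self, Matrix.single_apply, if_pos ⟨rfl, rfl⟩, smul_eq_mul, mul_one,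
        Matrix.zero_apply] at h1
      rw [← sub_eq_zero, hcN, h1, zero_smul]

/-- `Y` is the identity on the factor `l`. -/
def DiagAt (o : Fin m) (l : κ) (Y : TMat F κ m) : Prop :=
  ∀ x y, Y x y = if x l = y l then Y (Function.update x l o) (Function.update y l o) else 0

/-- `Y` is a multiple of the unit `(p, r)` on the factor `l`. -/
def PinAt (p r : Fin m) (l : κ) (Y : TMat F κ m) : Prop :=
  ∀ x y, Y x y ≠ 0 → x l = p ∧ y l = r

/-- An invariant algebra with a non-scalar contains all of one factor. -/
theorem exists_full (hS : ConjInv S) (h3 : 3 ≤ m) {Y₀ : TMat F κ m} (hY₀ : Y₀ ∈ S)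
    (hne₀ : ∀ c : F, Y₀ ≠ c • 1) : ∃ j, ∀ A, op j A ∈ S := by
  classical
  set o : Fin m := ⟨0, by omega⟩ with ho
  set p : Fin m := ⟨1, by omega⟩ with hp
  set z : Fin m := ⟨m - 1, by omega⟩ with hz
  have hpo : p ≠ o := by simp [hp, ho, Fin.ext_iff]
  have hpz : p ≠ z := by simp [hp, hz, Fin.ext_iff]; omega
  have hoz : o ≠ z := by simp [ho, hz, Fin.ext_iff]; omega
  have hblock : ∀ (l : κ) (Y : TMat F κ m), CommU l Y → ∀ x y, x l ≠ y l → Y x y ≠ 0 → x l = o ∧ y l = z := by
    intro l Y hY x y hxy hne
    constructor
    · by_contra hx
      have hlt : o < x l := by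
        simp only [Fin.lt_def, ho]
        have : (x l : ℕ) ≠ 0 := fun e => hx (Fin.ext e)
        omega
      have h := congrFun (congrFun (hY o (x l) hlt) (Function.update x l o)) y
      rw [op_single_mul_apply, mul_op_single_apply, Function.update_self, if_pos rfl, Function.update_idem,
        Function.update_eq_self, if_neg hxy.symm] at h
      exact hne h
    · by_contra hy
      have hlt : y l < z := by
        simp only [Fin.lt_def, hz]
        have : (y l : ℕ) ≠ m - 1 := fun e => hy (Fin.ext e)
        have := (y l).2
        omega
      have h := congrFun (congrFun (hY (y l) z hlt) x) (Function.update y l z)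
      rw [op_single_mul_apply, mul_op_single_apply, Function.update_self, if_neg hxy, if_pos rfl,
        Function.update_idem, Function.update_eq_self] at h
      exact hne h.symm
  have hdiag : ∀ (l : κ) (Y : TMat F κ m), CommU l Y → ∀ x y, x l = y l →
      Y x y = Y (Function.update x l o) (Function.update y l o) := by
    intro l Y hY x y hxy
    by_cases hx : x l = o
    · conv_rhs => rw [← hx]
      rw [Function.update_eq_self, hxy, Function.update_eq_self]
    · have hlt : o < x l := by
        simp only [Fin.lt_def, ho]
        have : (x l : ℕ) ≠ 0 := fun e => hx (Fin.ext e)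
        omega
      have h := congrFun (congrFun (hY o (x l) hlt) (Function.update x l o)) y
      rwa [op_single_mul_apply, mul_op_single_apply, Function.update_self, if_pos rfl, Function.update_idem,
        Function.update_eq_self, if_pos hxy.symm] at h
  suffices main : ∀ s : Finset κ, ∃ Y ∈ S, (∀ c : F, Y ≠ c • 1) ∧ (∀ l ∉ s, CommU l Y) ∧
      ∀ l ∈ s, PinAt p z l Y ∨ DiagAt o l Y by
    obtain ⟨Y, hY, hne, -, hsh⟩ := main Finset.univ
    set T := Finset.univ.filter fun l => PinAt p z l Y with hT
    have hD : ∀ l, l ∉ T → DiagAt o l Y := fun l hl =>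
      (hsh l (Finset.mem_univ l)).resolve_left fun h => hl (by simp [hT, h])
    set x₀ : κ → Fin m := fun l => if l ∈ T then p else o with hx₀
    set y₀ : κ → Fin m := fun l => if l ∈ T then z else o with hy₀
    set C : κ → Matrix (Fin m) (Fin m) F := fun l => if l ∈ T then Matrix.single p z 1 else 1 with hC
    have hYC : Y = Y x₀ y₀ • tens C := by
      ext x y
      rw [Matrix.smul_apply, tens_apply, smul_eq_mul]
      by_cases hgood : ∀ l, if l ∈ T then x l = p ∧ y l = z else x l = y l
      · rw [Finset.prod_eq_one, mul_one]
        · suffices h : ∀ u : Finset κ, (∀ l ∈ u, l ∉ T) →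
              Y x y = Y (fun l => if l ∈ u then o else x l) (fun l => if l ∈ u then o else y l) by
            refine (h (Finset.univ \ T) (by simp)).trans ?_
            congr 1 <;> funext l <;>
              · have := hgood l
                by_cases hl : l ∈ T <;> simp [hl, hx₀, hy₀] at this ⊢ <;> simp [this]
          intro u
          induction u using Finset.induction with
          | empty => intro; simp
          | @insert a u ha ih =>
            intro hu
            rw [ih fun l hl => hu l (Finset.mem_insert_of_mem hl), hD a (hu a (Finset.mem_insert_self a u))]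
            have := hgood a
            rw [if_neg (hu a (Finset.mem_insert_self a u))] at this
            rw [if_pos (by simp [ha, this])]
            congr 1 <;> funext l <;>
              · by_cases hl : l = a
                · subst hl; simp
                · simp [hl]
        · intro l _
          have := hgood l
          by_cases hl : l ∈ T
          · rw [if_pos hl] at this
            simp [hC, hl, this]
          · rw [if_neg hl] at this
            simp [hC, hl, this]
      · push Not at hgood
        obtain ⟨l, hl⟩ := hgood
        rw [Finset.prod_eq_zero (Finset.mem_univ l), mul_zero]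
        · by_cases hlT : l ∈ T
          · rw [if_pos hlT] at hl
            by_contra hne0
            exact hl ((Finset.mem_filter.1 hlT).2 x y hne0)
          · rw [if_neg hlT] at hl
            rw [hD l hlT, if_neg hl]
        · by_cases hlT : l ∈ T
          · rw [if_pos hlT] at hl
            simp only [hC, if_pos hlT, Matrix.single_apply]
            rw [if_neg]
            exact fun e => hl ⟨e.1.symm, e.2.symm⟩
          · rw [if_neg hlT] at hl
            simp [hC, hlT, Matrix.one_apply_ne hl]
    have hc0 : Y x₀ y₀ ≠ 0 := fun h => hne 0 (by rw [zero_smul, hYC, h, zero_smul])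
    have hCS : tens C ∈ S := by
      rw [show tens C = (Y x₀ y₀)⁻¹ • Y by
        conv_rhs => arg 2; rw [hYC]
        rw [smul_smul, inv_mul_cancel₀ hc0, one_smul]]
      exact S.smul_mem hY _
    obtain ⟨j, hj⟩ : T.Nonempty := by
      rw [Finset.nonempty_iff_ne_empty]
      intro hT0
      refine hne (Y x₀ y₀) ?_
      conv_lhs => rw [hYC]
      rw [show C = 1 from funext fun l => by simp [hC, hT0], map_one]
    refine ⟨j, full_of_single hS h3 hpo ?_⟩
    -- any off-diagonal units on the factors in `T`
    have hany : ∀ (f : κ → Fin m × Fin m), (∀ l ∈ T, (f l).1 ≠ (f l).2) →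
        tens (fun l => if l ∈ T then Matrix.single (f l).1 (f l).2 (1 : F) else 1) ∈ S := by
      intro f hf
      suffices h : ∀ u ⊆ T,
          tens (fun l => if l ∈ u then Matrix.single (f l).1 (f l).2 (1 : F) else C l) ∈ S by
        convert h T subset_rfl using 2
        funext l
        by_cases hl : l ∈ T <;> simp [hl, hC]
      intro u hu
      induction u using Finset.induction with
      | empty => simpa using hCS
      | @insert a u ha ih =>
        have haT : a ∈ T := hu (Finset.mem_insert_self a u)
        have h1 := exchange hS (l := a) (ih (fun l hl => hu (Finset.mem_insert_of_mem hl))) hpz (hf a haT)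
          (by simp [ha, hC, haT]) h3
        convert h1 using 2
        funext l
        by_cases hl : l = a
        · subst hl; simp
        · simp [hl]
    -- diagonal units outside `j`
    have hdiagU : ∀ c : κ → Fin m,
        tens (fun l => if l = j then Matrix.single p o (1 : F) else if l ∈ T then Matrix.single (c l) (c l) 1 else 1) ∈ S := by
      intro c
      haveI : Nontrivial (Fin m) := Fin.nontrivial_iff_two_le.2 (by omega)
      choose d hd using fun l => exists_ne (c l)
      have h1 := S.mul_mem (hany (fun l => if l = j then (p, z) else (c l, d l)) fun l _ => by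
          by_cases hl : l = j <;> simp [hl, hpz, (hd l).symm])
        (hany (fun l => if l = j then (z, o) else (d l, c l)) fun l _ => by
          by_cases hl : l = j <;> simp [hl, hoz.symm, hd l])
      rw [← map_mul] at h1
      convert h1 using 2
      funext l
      by_cases hl : l = j
      · subst hl; simp [hj]
      · by_cases hlT : l ∈ T <;> simp [hl, hlT]
    suffices h : ∀ u ⊆ T.erase j, ∀ c : κ → Fin m,
        tens (fun l => if l = j then Matrix.single p o (1 : F) else
          if l ∈ T \ u then Matrix.single (c l) (c l) 1 else 1) ∈ S by
      rw [op_eq_tens]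
      convert h (T.erase j) subset_rfl (fun _ => o) using 2
      funext l
      by_cases hl : l = j
      · subst hl; simp
      · simp [hl]
    intro u hu
    induction u using Finset.induction with
    | empty => intro c; simpa using hdiagU c
    | @insert a u ha ih =>
      intro c
      have haj : a ≠ j := Finset.ne_of_mem_erase (hu (Finset.mem_insert_self a u))
      have haT : a ∈ T := Finset.mem_of_mem_erase (hu (Finset.mem_insert_self a u))
      have h1 : (fun l => if l = j then Matrix.single p o (1 : F) else
          if l ∈ T \ insert a u then Matrix.single (c l) (c l) 1 else 1) =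
          Function.update (fun l => if l = j then Matrix.single p o (1 : F) else
            if l ∈ T \ u then Matrix.single (c l) (c l) 1 else 1) a (∑ b, Matrix.single b b (1 : F)) := by
        funext l
        by_cases hl : l = a
        · subst hl
          simp [haj, Matrix.sum_single_one]
        · simp [hl]
      rw [h1, tens_update_sum]
      refine S.sum_mem fun b _ => ?_
      convert ih (fun l hl => hu (Finset.mem_insert_of_mem hl)) (Function.update c a b) using 2
      funext l
      by_cases hl : l = a
      · subst hl; simp [haj, haT, ha]
      · simp [hl]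
  intro s
  induction s using Finset.induction with
  | empty =>
    obtain ⟨Z, hZ, hne, hcomm⟩ := exists_fixed hS h3 hY₀ hne₀
    exact ⟨Z, hZ, hne, fun l _ => hcomm l, by simp⟩
  | @insert a s ha ih =>
    obtain ⟨Y, hY, hne, hcomm, hsh⟩ := ih
    have hca := hcomm a ha
    by_cases hzero : ∀ x y, x a = o → y a = z → Y x y = 0
    · refine ⟨Y, hY, hne, fun l hl => hcomm l fun h => hl (Finset.mem_insert_of_mem h), fun l hl => ?_⟩
      rcases Finset.mem_insert.1 hl with rfl | hl
      · refine Or.inr fun x y => ?_
        split_ifs with hxy
        · exact hdiag l Y hca x y hxy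
        · by_contra h0
          obtain ⟨h1, h2⟩ := hblock l Y hca x y hxy h0
          exact h0 (hzero x y h1 h2)
      · exact hsh l hl
    push Not at hzero
    obtain ⟨x₁, y₁, hx₁, hy₁, hne₁⟩ := hzero
    set N := op a (Matrix.single p o (1 : F)) with hN
    set Y' := (1 + N) * Y * (1 - N) - Y with hY'
    have hform : ∀ x y, Y' x y = if x a = p ∧ y a = z then Y (Function.update x a o) y else 0 := by
      intro x y
      have e : Y' = N * Y - Y * N - N * Y * N := by rw [hY']; noncomm_ring
      rw [e, Matrix.sub_apply, Matrix.sub_apply, hN, op_single_mul_apply, mul_op_single_apply, mul_op_single_apply,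
        op_single_mul_apply]
      have h3rd : x a = p → Y (Function.update x a o) (Function.update y a p) = 0 := fun _ => by
        by_contra h0
        have := (hblock a Y hca _ _ (by rw [Function.update_self, Function.update_self]; exact hpo.symm) h0).2
        rw [Function.update_self] at this
        exact hpz this
      by_cases hx : x a = p
      · by_cases hy : y a = o
        · have hyz : y a ≠ z := fun h => hoz (hy.symm.trans h)
          rw [if_pos hx, if_pos hy, if_pos hy, if_pos hx, h3rd hx, sub_zero, if_neg fun h => hyz h.2,
            hdiag a Y hca x (Function.update y a p) (by rw [Function.update_self, hx]), Function.update_idem]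
          rw [show Function.update y a o = y by rw [← hy, Function.update_eq_self], sub_self]
        · rw [if_pos hx, if_neg hy, if_neg hy, sub_zero, sub_zero]
          split_ifs with h
          · rfl
          · by_contra h0
            exact h ⟨hx, (hblock a Y hca _ _ (by rw [Function.update_self]; exact fun e => hy e.symm) h0).2⟩
      · have h0 : y a = o → Y x (Function.update y a p) = 0 := fun _ => by
          by_contra h0
          have := (hblock a Y hca _ _ (by rw [Function.update_self]; exact hx) h0).2
          rw [Function.update_self] at this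
          exact hpz this
        rw [if_neg (c := x a = p ∧ y a = z) fun h => hx h.1]
        by_cases hy : y a = o
        · simp [hx, hy, h0 hy]
        · simp [hx, hy]
    have hY'S : Y' ∈ S := S.sub_mem (hS a p o hpo Y hY) hY
    refine ⟨Y', hY'S, fun c hc => ?_, fun l hl => ?_, fun l hl => ?_⟩
    · rcases eq_or_ne c 0 with rfl | hc0
      · apply hne₁
        have := hform (Function.update x₁ a p) y₁
        rw [hc, Function.update_self, if_pos ⟨rfl, hy₁⟩, Function.update_idem, zero_smul, Matrix.zero_apply] at this
        rw [← hx₁, Function.update_eq_self] at this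
        exact this.symm
      · have := hform (fun _ => o) (fun _ => o)
        rw [hc, if_neg fun h => hpo h.1.symm] at this
        simp [hc0] at this
    · have hla : l ≠ a := fun h => hl (h ▸ Finset.mem_insert_self a s)
      intro u v huv
      have h1 := hcomm l (fun h => hl (Finset.mem_insert_of_mem h)) u v huv
      have h2 := op_comm (F := F) hla (Matrix.single u v 1) (Matrix.single p o 1)
      set U := op l (Matrix.single u v (1 : F)) with hU
      rw [← hN] at h2
      have cN : Commute U N := h2
      have cY : Commute U Y := h1
      exact ((((Commute.one_right U).add_right cN).mul_right cY).mul_right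
        ((Commute.one_right U).sub_right cN) |>.sub_right cY).eq
    · rcases Finset.mem_insert.1 hl with rfl | hl
      · exact Or.inl fun x y h => by
          by_contra hc
          exact h (by rw [hform, if_neg hc])
      · have hla : l ≠ a := fun h => ha (h ▸ hl)
        rcases hsh l hl with hp' | hd
        · refine Or.inl fun x y h => ?_
          rw [hform] at h
          split_ifs at h with hxy
          · have := hp' _ _ h
            rwa [Function.update_of_ne hla] at this
          · exact absurd rfl h
        · refine Or.inr fun x y => ?_
          rw [hform, hform, Function.update_of_ne hla.symm, Function.update_of_ne hla.symm]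
          by_cases hxy : x a = p ∧ y a = z
          · rw [if_pos hxy, if_pos hxy, hd (Function.update x a o) y, Function.update_of_ne hla,
              Function.update_comm hla.symm]
          · rw [if_neg hxy, if_neg hxy]
            split_ifs <;> rfl

end CfsgLib.Classical.WreathMax
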