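import Cfsg.Agent.Lib.Classical.WreathMax.Fusion
import Cfsg.Agent.Lib.Classical.WreathMax.InvAlg

/-!
# A slice-fixing element outside the stabiliser gives the special linear group
-/

set_option autoImplicit false
set_option maxHeartbeats 200000
set_option linter.unusedSectionVars false

open Matrix Module
open scoped Kronecker

namespace CfsgLib.Classical.WreathMax

variable {F : Type*} [Field F] {κ : Type} [Fintype κ] [DecidableEq κ] {m : ℕ}

/-- `M` contains the matrices of determinant one. -/
def Full (M : Subgroup (GL (κ → Fin m) F)) : Prop := ∀ g : GL (κ → Fin m) F, det g.1 = 1 → g ∈ M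

/-- The overgroup seen from the factor `i`. -/
def viewAt (i : κ) (M : Subgroup (GL (κ → Fin m) F)) :
    Subgroup (GL (Fin m × (Rest i → Fin m)) F) :=
  M.map (Units.mapEquiv (split (F := F) (m := m) i).toMulEquiv).toMonoidHom

theorem mem_viewAt {i : κ} {M : Subgroup (GL (κ → Fin m) F)} {g : GL (κ → Fin m) F} (hg : g ∈ M) :
    Units.mapEquiv (split (F := F) (m := m) i).toMulEquiv g ∈ viewAt i M :=
  Subgroup.mem_map_of_mem _ hg

theorem leftSL_viewAt {M : Subgroup (GL (κ → Fin m) F)} (hM : Over M) (i : κ) : LeftSL (viewAt i M) := by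
  refine ⟨fun C hC => ?_, fun g hg => ?_⟩
  · have hd : det (op i C) = 1 := by
      rw [← Matrix.det_reindex_self (Equiv.funSplitAt i (Fin m)) (op i C)]
      show det (split i (op i C)) = 1
      rw [split_op_self]; exact hC
    obtain ⟨g, hg, -, he⟩ := hM.exists_op i hd
    exact ⟨_, mem_viewAt hg, by show split i g.1 = _; rw [he, split_op_self]⟩
  · obtain ⟨x, hx, rfl⟩ := Subgroup.mem_map.1 hg
    show det (split i x.1) = 1
    exact (Matrix.det_reindex_self _ _).trans (hM.det_one x hx)

theorem hasM_viewAt {i : κ} {M : Subgroup (GL (κ → Fin m) F)} {A : TMat F κ m} :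
    HasM M A ↔ HasM (viewAt i M) (split i A) := by
  constructor
  · rintro ⟨g, hg, e⟩
    exact ⟨_, mem_viewAt hg, by show split i g.1 = _; rw [e, map_add, map_one]⟩
  · rintro ⟨g, hg, e⟩
    obtain ⟨x, hx, rfl⟩ := Subgroup.mem_map.1 hg
    refine ⟨x, hx, (split i).injective ?_⟩
    rw [map_add, map_one]
    exact e

theorem split_root_mul {i : κ} (b β : Fin m → F) (D : TMat F (Rest i) m) :
    split i (op i (vecMulVec b β) * liftRest i D) = rootT b β D := by
  rw [map_mul, split_op_self, split_liftRest, ← Matrix.mul_kronecker_mul, Matrix.mul_one, Matrix.one_mul]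
  rfl

theorem liftRest_op {i : κ} (l : Rest i) (A : Matrix (Fin m) (Fin m) F) :
    liftRest i (op l A) = op l.1 A := (split i).injective (by rw [split_liftRest, split_op_other l.2])

theorem conjInv_rootAlg {M : Subgroup (GL (κ → Fin m) F)} (hM : Over M) (h3 : 3 ≤ m) (i : κ) :
    ConjInv (rootAlg (leftSL_viewAt hM i) h3) := by
  intro l a b hab Y hY
  have hd : det (op l.1 (1 + vecMulVec (Pi.single a (1 : F)) (Pi.single b 1))) = 1 :=
    det_one_add_op l.1 (by simp [single_dotProduct, hab])
  obtain ⟨g, hg, -, he⟩ := hM.exists_op l.1 hd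
  have hE : vecMulVec (Pi.single a (1 : F)) (Pi.single b 1) = Matrix.single a b (1 : F) := by
    ext x y
    simp only [vecMulVec_apply, Matrix.single_apply, Pi.single_apply]
    by_cases hx : x = a <;> by_cases hy : y = b <;> simp [hx, hy, Ne.symm] <;> tauto
  refine rootAlg_conj (leftSL_viewAt hM i) h3 (mem_viewAt hg) ?_ ?_ hY
  · show split i g.1 = _
    rw [he, hE, op_add, map_one, map_add, map_one, split_op_other l.2, ← Matrix.one_kronecker_one,
      Matrix.kronecker_add]
  · have : op l (Matrix.single a b (1 : F)) * op l (Matrix.single a b (1 : F)) = (0 : TMat F (Rest i) m) := by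
      rw [← map_mul, Matrix.single_mul_single_of_ne _ _ _ _ hab.symm, op_zero]
    noncomm_ring [this]

/-- Products of root factors of the factor `i` and any matrix of the factor `l`. -/
def Edge (M : Subgroup (GL (κ → Fin m) F)) (i l : κ) : Prop :=
  ∀ (b β : Fin m → F), β ⬝ᵥ b = 0 → ∀ A, HasM M (op i (vecMulVec b β) * op l A)

theorem edge_of_mem {M : Subgroup (GL (κ → Fin m) F)} (hM : Over M) (h3 : 3 ≤ m) {i : κ} {l : Rest i}
    (h : ∀ A, op l A ∈ rootAlg (leftSL_viewAt hM i) h3) : Edge M i l.1 := fun b β hβ A => by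
  rw [hasM_viewAt (i := i), ← liftRest_op, split_root_mul]
  exact h A b β hβ

theorem Edge.mem {M : Subgroup (GL (κ → Fin m) F)} (hM : Over M) (h3 : 3 ≤ m) {i : κ} {l : Rest i}
    (h : Edge M i l.1) (A : Matrix (Fin m) (Fin m) F) : op l A ∈ rootAlg (leftSL_viewAt hM i) h3 := fun b β hβ => by
  have := h b β hβ A
  rwa [hasM_viewAt (i := i), ← liftRest_op, split_root_mul] at this

theorem Edge.symm {M : Subgroup (GL (κ → Fin m) F)} (hM : Over M) (h3 : 3 ≤ m) {i l : κ} (hli : l ≠ i)
    (h : Edge M i l) : Edge M l i := by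
  set o : Fin m := ⟨0, by omega⟩
  set p : Fin m := ⟨1, by omega⟩
  have hop : o ≠ p := by simp [o, p, Fin.ext_iff]
  have hbβ : (Pi.single p (1 : F)) ⬝ᵥ Pi.single o 1 = 0 := by simp [single_dotProduct, hop]
  have hE : vecMulVec (Pi.single o (1 : F)) (Pi.single p 1) = Matrix.single o p (1 : F) := by
    ext x y
    simp only [vecMulVec_apply, Matrix.single_apply, Pi.single_apply]
    by_cases hx : x = o <;> by_cases hy : y = p <;> simp [hx, hy, Ne.symm] <;> tauto
  let i' : Rest l := ⟨i, hli.symm⟩
  have hD : HasM (viewAt l M) (rootT (Pi.single o (1 : F)) (Pi.single p 1) (op i' (Matrix.single o p (1 : F)))) := by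
    have := h (Pi.single o 1) (Pi.single p 1) hbβ (Matrix.single o p 1)
    rw [hE, op_comm hli.symm, ← hE, hasM_viewAt (i := l)] at this
    rwa [show op i (vecMulVec (Pi.single o (1 : F)) (Pi.single p 1)) =
      liftRest l (op i' (Matrix.single o p (1 : F))) by rw [liftRest_op, hE], split_root_mul] at this
  have hmem : op i' (Matrix.single o p (1 : F)) ∈ rootAlg (leftSL_viewAt hM l) h3 :=
    rootT_spread (leftSL_viewAt hM l) h3 (by simp) (by simp) hbβ hD
  exact edge_of_mem hM h3 (l := i') fun A => full_of_single (conjInv_rootAlg hM h3 l) h3 hop hmem A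

theorem det_permM_three_cycle {a b c : κ} (hab : a ≠ b) (hbc : b ≠ c) :
    det (permM (F := F) (m := m) (Equiv.swap a b * Equiv.swap b c)) = 1 := by
  let f : Equiv.Perm κ →* F := (Matrix.detMonoidHom).comp (permM (F := F) (m := m))
  show f _ = 1
  rw [map_mul]
  obtain ⟨u, hu⟩ := isConj_iff.1 (Equiv.Perm.isConj_swap hab hbc)
  rw [← hu, map_mul, map_mul, mul_comm (f u), mul_assoc, ← map_mul f u, mul_inv_cancel, map_one, mul_one, ← map_mul,
    Equiv.swap_mul_self, map_one]

theorem Edge.rotate {M : Subgroup (GL (κ → Fin m) F)} (hM : Over M) {a b c : κ} (hab : a ≠ b) (hbc : b ≠ c)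
    (hac : a ≠ c) (h : Edge M a b) : Edge M b c := fun u β hβ A => by
  set π := Equiv.swap a b * Equiv.swap b c with hπ
  have hπa : π a = b := by simp [hπ, Equiv.swap_apply_of_ne_of_ne hab hac]
  have hπb : π b = c := by simp [hπ, Equiv.swap_apply_of_ne_of_ne hac.symm hbc.symm]
  have hmem : (permU π : GL (κ → Fin m) F) ∈ M :=
    hM.le _ (permU_mem π) (by rw [permU_coe]; exact det_permM_three_cycle hab hbc)
  have h1 := (h u β hβ A).conj hmem
  rwa [permU_coe, ← Matrix.mul_assoc, permM_mul_op, Matrix.mul_assoc _ (permM π), permM_mul_op, hπa, hπb,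
    ← Matrix.mul_assoc, Matrix.mul_assoc, show permM π * (permU π)⁻¹.1 = (1 : TMat F κ m) by
      rw [← permU_coe, ← Units.val_mul, mul_inv_cancel, Units.val_one], Matrix.mul_one] at h1

theorem mem_subalgebra_of_op {S : Subalgebra F (TMat F κ m)}
    (h : ∀ (l : κ) A, op l A ∈ S) (Y : TMat F κ m) : Y ∈ S := by
  classical
  have htens : ∀ C : κ → Matrix (Fin m) (Fin m) F, tens C ∈ S := fun C => by
    suffices hs : ∀ s : Finset κ, tens (fun l => if l ∈ s then C l else 1) ∈ S by simpa using hs Finset.univ
    intro s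
    induction s using Finset.induction with
    | empty =>
      simp only [Finset.notMem_empty, if_false]
      exact (map_one (tens (F := F) (κ := κ) (m := m))).symm ▸ S.one_mem
    | @insert a s ha ih =>
      have := S.mul_mem ih (h a (C a))
      rw [tens_mul_op] at this
      convert this using 2
      funext l
      by_cases hl : l = a
      · subst hl; simp [ha]
      · simp [hl]
  rw [Matrix.matrix_eq_sum_single Y]
  refine S.sum_mem fun x _ => S.sum_mem fun y _ => ?_
  rw [show Matrix.single x y (Y x y) = Y x y • tens (fun l => Matrix.single (x l) (y l) (1 : F)) by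
    ext u v
    rw [Matrix.smul_apply, tens_apply, Matrix.single_apply, smul_eq_mul]
    by_cases huv : x = u ∧ y = v
    · rw [if_pos huv, Finset.prod_eq_one (fun l _ => by rw [huv.1, huv.2, Matrix.single_apply, if_pos ⟨rfl, rfl⟩]),
        mul_one]
    · rw [if_neg huv]
      obtain ⟨l, hl⟩ : ∃ l, ¬ (x l = u l ∧ y l = v l) := by
        by_contra hc
        push Not at hc
        exact huv ⟨funext fun l => (hc l).1, funext fun l => (hc l).2⟩
      rw [Finset.prod_eq_zero (Finset.mem_univ l) (by rw [Matrix.single_apply, if_neg hl]), mul_zero]]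
  exact S.smul_mem (htens _) _

/-- A slice-fixing element outside the stabiliser generates everything with it. -/
theorem full_of_fixSlice {M : Subgroup (GL (κ → Fin m) F)} (hM : Over M) (h3 : 3 ≤ m) (hF : FixSlice M) :
    Full M := by
  classical
  obtain ⟨h, hh, hhT, i, b, hb, hfix⟩ := hF
  have hv := leftSL_viewAt hM i
  obtain ⟨C, hC⟩ | ⟨b', β, D, hb', hβ, hβb, hne, hD⟩ := tensor_or_root hv h3 (mem_viewAt (i := i) hh) hb
    (fun γ => by
      show split i h.1 * rootT b γ 1 = rootT b γ 1
      rw [show rootT b γ (1 : TMat F (Rest i) m) = split i (op i (vecMulVec b γ)) from (split_op_self i _).symm,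
        ← map_mul, hfix])
  · refine absurd ?_ hhT
    have hinv : (h⁻¹).1 = op i C := (split i).injective (by
      rw [split_op_self, ← hC, ← map_inv]; rfl)
    simpa using inv_mem (op_mem_wreathT i hinv)
  have hDS : D ∈ rootAlg hv h3 := rootT_spread hv h3 hb' hβ hβb hD
  obtain ⟨l₀, hl₀⟩ := exists_full (conjInv_rootAlg hM h3 i) h3 hDS hne
  have hE := edge_of_mem hM h3 hl₀
  -- all edges
  have hstar : ∀ a c, a ≠ c → Edge M a c → ∀ d, d ≠ a → Edge M a d ∧ Edge M d a := by
    intro a c hac hac' d hda
    rcases eq_or_ne d c with rfl | hdc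
    · exact ⟨hac', hac'.symm hM h3 hda⟩
    have h1 := hac'.rotate hM hac hdc.symm hda.symm
    have h2 := h1.rotate hM hdc.symm hda hac.symm
    exact ⟨h2.symm hM h3 hda.symm, h2⟩
  have hall : ∀ a d, a ≠ d → Edge M a d := fun a d had => by
    have h0 := hstar i l₀.1 l₀.2.symm hE
    rcases eq_or_ne a i with rfl | hai
    · exact (h0 d had.symm).1
    · exact (hstar a i hai (h0 a hai).2 d had.symm).1
  have hS : ∀ Y, Y ∈ rootAlg hv h3 := fun Y =>
    mem_subalgebra_of_op (S := rootAlg hv h3)
      (fun l A => Edge.mem hM h3 (l := l) (hall i l.1 l.2.symm) A) Y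
  -- transvections moving the coordinate `i`
  let M' : Subgroup (SpecialLinearGroup (κ → Fin m) F) := M.comap SpecialLinearGroup.toGL
  have hdiff : ∀ (x y : κ → Fin m) (hxy : x ≠ y) (c : F), x i ≠ y i →
      SpecialLinearGroup.transvection hxy c ∈ M' := by
    intro x y hxy c hi
    set D' : TMat F (Rest i) m := Matrix.single (fun l => x l) (fun l => y l) c
    have h1 := hS D' (Pi.single (x i) 1) (Pi.single (y i) 1) (by simp [single_dotProduct, hi])
    rw [← split_root_mul, ← hasM_viewAt] at h1
    obtain ⟨g, hg, hge⟩ := h1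
    refine Subgroup.mem_comap.2 ?_
    convert hg using 1
    refine Units.ext ?_
    rw [hge]
    show (SpecialLinearGroup.transvection hxy c : TMat F κ m) = _
    rw [SpecialLinearGroup.transvection_coe]
    congr 1
    refine (split i).injective ?_
    rw [split_root_mul]
    ext ⟨p, u⟩ ⟨q, v⟩
    rw [split_apply, rootT_apply, Matrix.single_apply, show D' = Matrix.single (fun l : Rest i => x l.1) (fun l : Rest i => y l.1) c from rfl,
      Matrix.single_apply, Pi.single_apply, Pi.single_apply]
    simp only [Equiv.eq_symm_apply, Prod.ext_iff]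
    rw [show (Equiv.funSplitAt i (Fin m) x).1 = x i from rfl, show (Equiv.funSplitAt i (Fin m) y).1 = y i from rfl,
      show (Equiv.funSplitAt i (Fin m) x).2 = (fun l : Rest i => x l.1) from rfl,
      show (Equiv.funSplitAt i (Fin m) y).2 = (fun l : Rest i => y l.1) from rfl]
    by_cases h4 : x i = p
    · by_cases h5 : y i = q
      · simp [h4, h5]
      · simp [h4, h5, Ne.symm h5]
    · simp [h4, Ne.symm h4]
  have htop : M' = ⊤ := by
    refine sl_subgroup_eq_top _ fun x y hxy c => ?_
    by_cases hi : x i = y i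
    · haveI : Nontrivial (Fin m) := Fin.nontrivial_iff_two_le.2 (by omega)
      obtain ⟨a, ha⟩ := exists_ne (x i)
      set z := Function.update x i a
      have hxz : x ≠ z := fun e => ha (by simpa [z] using (congrFun e i).symm)
      have hzy : z ≠ y := fun e => ha (by rw [hi]; simpa [z] using congrFun e i)
      rw [show c = c * 1 from (mul_one c).symm, ← commutator_transvection hxz hzy hxy c 1, commutatorElement_def]
      have h1 := hdiff x z hxz c (by simpa [z] using ha.symm)
      have h2 := hdiff z y hzy 1 (by simpa [z, ← hi] using ha)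
      exact mul_mem (mul_mem (mul_mem h1 h2) (inv_mem h1)) (inv_mem h2)
    · exact hdiff x y hxy c hi
  intro g hg
  let G : SpecialLinearGroup (κ → Fin m) F := ⟨g.1, hg⟩
  have hmem : G ∈ M' := htop ▸ Subgroup.mem_top G
  have : SpecialLinearGroup.toGL G ∈ M := Subgroup.mem_comap.1 hmem
  rwa [show SpecialLinearGroup.toGL G = g from Units.ext rfl] at this

end CfsgLib.Classical.WreathMax
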