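import Mathlib

/-!
# Tensor powers indexed by a finite type: pure tensors of matrices, one-factor operators, factor permutations
-/

set_option autoImplicit false
set_option linter.unusedSectionVars false

open Matrix
open scoped Kronecker

namespace CfsgLib.Classical.WreathMax

variable {F : Type*} [Field F] {κ : Type} [Fintype κ] [DecidableEq κ] {m : ℕ}

/-- Matrices on the tensor power of `F ^ m` with factors indexed by `κ`. -/
abbrev TMat (F : Type*) (κ : Type) (m : ℕ) := Matrix (κ → Fin m) (κ → Fin m) F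

/-- The tensor product of a family of matrices. -/
def tens : (κ → Matrix (Fin m) (Fin m) F) →* TMat F κ m where
  toFun C := Matrix.of fun x y => ∏ l, C l (x l) (y l)
  map_one' := by
    ext x y
    rw [Matrix.of_apply]
    by_cases h : x = y
    · subst h; simp
    · obtain ⟨l, hl⟩ := Function.ne_iff.1 h
      rw [Matrix.one_apply_ne h]
      exact Finset.prod_eq_zero (Finset.mem_univ l) (by simp [Matrix.one_apply_ne hl])
  map_mul' C D := by
    ext x y
    simp only [Matrix.of_apply, Matrix.mul_apply, Pi.mul_apply, Fintype.prod_sum, Finset.prod_mul_distrib]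

theorem tens_apply (C : κ → Matrix (Fin m) (Fin m) F) (x y : κ → Fin m) :
    tens C x y = ∏ l, C l (x l) (y l) := rfl

/-- The matrix `A` acting on the factor `i`. -/
def op (i : κ) : Matrix (Fin m) (Fin m) F →* TMat F κ m :=
  tens.comp (MonoidHom.mulSingle (fun _ : κ => Matrix (Fin m) (Fin m) F) i)

theorem op_eq_tens (i : κ) (A : Matrix (Fin m) (Fin m) F) : op i A = tens (Pi.mulSingle i A) := rfl

theorem op_apply (i : κ) (A : Matrix (Fin m) (Fin m) F) (x y : κ → Fin m) :
    op i A x y = if ∀ l, l ≠ i → x l = y l then A (x i) (y i) else 0 := by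
  rw [op_eq_tens, tens_apply]
  split_ifs with h
  · rw [Finset.prod_eq_single i (fun l _ hl => by rw [Pi.mulSingle_eq_of_ne hl, h l hl, Matrix.one_apply_eq]) (by simp),
      Pi.mulSingle_eq_same]
  · push Not at h
    obtain ⟨l, hl, hne⟩ := h
    exact Finset.prod_eq_zero (Finset.mem_univ l) (by rw [Pi.mulSingle_eq_of_ne hl, Matrix.one_apply_ne hne])

/-- `op i` as a homomorphism of algebras. -/
def opAlg (i : κ) : Matrix (Fin m) (Fin m) F →ₐ[F] TMat F κ m :=
  AlgHom.ofLinearMap
    { toFun := op i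
      map_add' := fun A B => by
        ext x y
        simp only [op_apply, Matrix.add_apply]
        split_ifs <;> simp
      map_smul' := fun c A => by
        ext x y
        simp only [op_apply, Matrix.smul_apply, RingHom.id_apply, smul_eq_mul]
        split_ifs <;> simp }
    (map_one (op i)) (fun A B => map_mul (op i) A B)

theorem opAlg_apply (i : κ) (A : Matrix (Fin m) (Fin m) F) : opAlg i A = op i A := rfl

theorem op_add (i : κ) (A B : Matrix (Fin m) (Fin m) F) : op i (A + B) = op i A + op i B := map_add (opAlg i) A B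

theorem op_sub (i : κ) (A B : Matrix (Fin m) (Fin m) F) : op i (A - B) = op i A - op i B := map_sub (opAlg i) A B

theorem op_neg (i : κ) (A : Matrix (Fin m) (Fin m) F) : op i (-A) = -op i A := map_neg (opAlg i) A

theorem op_smul (i : κ) (c : F) (A : Matrix (Fin m) (Fin m) F) : op i (c • A) = c • op i A :=
  map_smul (opAlg i) c A

theorem op_zero (i : κ) : op i (0 : Matrix (Fin m) (Fin m) F) = 0 := map_zero (opAlg i)

theorem op_sum {α : Type*} (s : Finset α) (i : κ) (A : α → Matrix (Fin m) (Fin m) F) :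
    op i (∑ a ∈ s, A a) = ∑ a ∈ s, op i (A a) := map_sum (opAlg i) A s

theorem commute_op {i j : κ} (h : i ≠ j) (A B : Matrix (Fin m) (Fin m) F) : Commute (op i A) (op j B) :=
  (Pi.mulSingle_commute (f := fun _ : κ => Matrix (Fin m) (Fin m) F) h A B).map tens

theorem op_comm {i j : κ} (h : i ≠ j) (A B : Matrix (Fin m) (Fin m) F) : op i A * op j B = op j B * op i A :=
  commute_op h A B

theorem tens_mul_op (C : κ → Matrix (Fin m) (Fin m) F) (i : κ) (A : Matrix (Fin m) (Fin m) F) :
    tens C * op i A = tens (Function.update C i (C i * A)) := by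
  rw [op_eq_tens, ← map_mul]
  congr 1
  funext l
  by_cases h : l = i
  · subst h; simp
  · simp [h]

/-- The matrix permuting the factors by `σ`. -/
def permM : Equiv.Perm κ →* TMat F κ m where
  toFun σ := Matrix.of fun x y => if y = x ∘ σ then 1 else 0
  map_one' := by
    ext x y
    simp [Matrix.one_apply, eq_comm]
  map_mul' σ τ := by
    ext x y
    simp only [Matrix.of_apply, Matrix.mul_apply, ite_mul, one_mul, zero_mul, Finset.sum_ite_eq',
      Finset.mem_univ, if_true]
    rfl

theorem permM_apply (σ : Equiv.Perm κ) (x y : κ → Fin m) :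
    permM (F := F) σ x y = if y = x ∘ σ then 1 else 0 := rfl

theorem permM_mulVec (σ : Equiv.Perm κ) (v : (κ → Fin m) → F) (x : κ → Fin m) :
    (permM σ *ᵥ v) x = v (x ∘ σ) := by
  simp [Matrix.mulVec, dotProduct, permM_apply]

theorem permM_mul_tens (σ : Equiv.Perm κ) (C : κ → Matrix (Fin m) (Fin m) F) :
    permM σ * tens C = tens (fun l => C (σ⁻¹ l)) * permM σ := by
  ext x y
  simp only [Matrix.mul_apply, permM_apply, ite_mul, one_mul, zero_mul, mul_ite, mul_one, mul_zero]
  rw [Finset.sum_ite_eq' Finset.univ (x ∘ σ), if_pos (Finset.mem_univ _)]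
  rw [Finset.sum_eq_single (y ∘ ⇑σ⁻¹)]
  · have h : y = (y ∘ ⇑σ⁻¹) ∘ ⇑σ := by funext l; simp
    rw [if_pos h, tens_apply, tens_apply]
    exact Fintype.prod_equiv σ _ _ fun l => by simp
  · intro z _ hz
    rw [if_neg]
    rintro rfl
    exact hz (funext fun l => by simp)
  · simp

theorem permM_mul_op (σ : Equiv.Perm κ) (i : κ) (A : Matrix (Fin m) (Fin m) F) :
    permM σ * op i A = op (σ i) A * permM σ := by
  rw [op_eq_tens, op_eq_tens, permM_mul_tens]
  congr 2
  funext l
  by_cases h : l = σ i
  · subst h; simp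
  · rw [Pi.mulSingle_eq_of_ne h, Pi.mulSingle_eq_of_ne]
    rintro rfl
    exact h (by simp)

/-! ### Units -/

/-- The tensor product of invertible matrices, as an invertible matrix. -/
def tensU (C : κ → GL (Fin m) F) : GL (κ → Fin m) F :=
  Units.map tens (MulEquiv.piUnits.symm C)

theorem tensU_coe (C : κ → GL (Fin m) F) :
    (tensU C : TMat F κ m) = tens fun l => (C l : Matrix (Fin m) (Fin m) F) := rfl

/-- A factor permutation, as an invertible matrix. -/
def permU : Equiv.Perm κ →* GL (κ → Fin m) F := (permM (F := F) (m := m)).toHomUnits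

theorem permU_coe (σ : Equiv.Perm κ) : (permU σ : GL (κ → Fin m) F).1 = permM σ := rfl

theorem tensU_mul (C D : κ → GL (Fin m) F) : tensU C * tensU D = tensU fun l => C l * D l := by
  apply Units.ext
  rw [Units.val_mul, tensU_coe, tensU_coe, tensU_coe, ← map_mul]
  rfl

theorem permU_mul_tensU (σ : Equiv.Perm κ) (C : κ → GL (Fin m) F) :
    permU σ * tensU C = tensU (fun l => C (σ⁻¹ l)) * permU σ := by
  apply Units.ext
  rw [Units.val_mul, Units.val_mul, permU_coe, tensU_coe, tensU_coe, permM_mul_tens]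

theorem tensU_one : tensU (fun _ : κ => (1 : GL (Fin m) F)) = 1 := by
  apply Units.ext
  rw [tensU_coe]
  exact map_one tens

/-- The group generated by tensor products and factor permutations. -/
def wreathT (F : Type*) [Field F] (κ : Type) [Fintype κ] [DecidableEq κ] (m : ℕ) :
    Subgroup (GL (κ → Fin m) F) where
  carrier := {g | ∃ σ C, g = tensU C * permU σ}
  one_mem' := ⟨1, fun _ => 1, by rw [tensU_one, map_one, mul_one]⟩
  mul_mem' := by
    rintro g h ⟨σ, C, rfl⟩ ⟨τ, D, rfl⟩
    refine ⟨σ * τ, fun l => C l * D (σ⁻¹ l), ?_⟩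
    rw [map_mul, ← tensU_mul, mul_assoc (tensU C), ← mul_assoc (permU σ), permU_mul_tensU]
    simp only [mul_assoc]
  inv_mem' := by
    rintro g ⟨σ, C, rfl⟩
    refine ⟨σ⁻¹, fun l => (C (σ l))⁻¹, ?_⟩
    apply inv_eq_of_mul_eq_one_right
    calc tensU C * permU σ * (tensU (fun l => (C (σ l))⁻¹) * permU σ⁻¹)
        = tensU C * (permU σ * tensU (fun l => (C (σ l))⁻¹)) * permU σ⁻¹ := by simp only [mul_assoc]
      _ = 1 := by
        rw [permU_mul_tensU, ← mul_assoc, tensU_mul, mul_assoc, ← map_mul]
        simp [tensU_one]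

theorem tensU_mem (C : κ → GL (Fin m) F) : tensU C ∈ wreathT F κ m :=
  ⟨1, C, by rw [map_one, mul_one]⟩

theorem permU_mem (σ : Equiv.Perm κ) : (permU σ : GL (κ → Fin m) F) ∈ wreathT F κ m :=
  ⟨σ, fun _ => 1, by rw [tensU_one, one_mul]⟩

/-- An element of the wreath group moves one-factor operators to one-factor operators. -/
theorem wreathT_mul_op (σ : Equiv.Perm κ) (C : κ → GL (Fin m) F) (i : κ) (A : Matrix (Fin m) (Fin m) F) :
    (tensU C * permU σ : GL (κ → Fin m) F).1 * op i A =
      op (σ i) ((C (σ i)).1 * A * ((C (σ i))⁻¹ : GL (Fin m) F).1) * (tensU C * permU σ : GL (κ → Fin m) F).1 := by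
  rw [Units.val_mul, tensU_coe, permU_coe, Matrix.mul_assoc, permM_mul_op, ← Matrix.mul_assoc, ← Matrix.mul_assoc,
    tens_mul_op]
  congr 1
  rw [op_eq_tens, ← map_mul]
  congr 1
  funext l
  by_cases h : l = σ i
  · subst h
    simp only [Function.update_self, Pi.mul_apply, Pi.mulSingle_eq_same]
    rw [Matrix.mul_assoc _ _ (C (σ i)).1, ← Units.val_mul, inv_mul_cancel, Units.val_one, Matrix.mul_one]
  · simp [h]

theorem conj_op {g : GL (κ → Fin m) F} {σ : Equiv.Perm κ} {C : κ → GL (Fin m) F} (hg : g = tensU C * permU σ)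
    (i : κ) (A : Matrix (Fin m) (Fin m) F) :
    g.1 * op i A * (g⁻¹ : GL (κ → Fin m) F).1 =
      op (σ i) ((C (σ i)).1 * A * ((C (σ i))⁻¹ : GL (Fin m) F).1) := by
  subst hg
  rw [wreathT_mul_op, Matrix.mul_assoc, ← Units.val_mul, mul_inv_cancel, Units.val_one, Matrix.mul_one]

/-! ### One factor against the rest -/

/-- The rest of the factors. -/
abbrev Rest (i : κ) := {l : κ // l ≠ i}

/-- The coordinates split at the factor `i`. -/
def split (i : κ) : TMat F κ m ≃ₐ[F] Matrix (Fin m × (Rest i → Fin m)) (Fin m × (Rest i → Fin m)) F :=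
  Matrix.reindexAlgEquiv F F (Equiv.funSplitAt i (Fin m))

theorem split_apply (i : κ) (M : TMat F κ m) (p q : Fin m × (Rest i → Fin m)) :
    split i M p q = M ((Equiv.funSplitAt i (Fin m)).symm p) ((Equiv.funSplitAt i (Fin m)).symm q) := rfl

theorem split_tens (i : κ) (C : κ → Matrix (Fin m) (Fin m) F) :
    split i (tens C) = C i ⊗ₖ tens (fun l : Rest i => C l) := by
  ext ⟨a, x⟩ ⟨b, y⟩
  rw [split_apply, tens_apply, Matrix.kroneckerMap_apply, tens_apply,
    ← Finset.mul_prod_erase Finset.univ _ (Finset.mem_univ i)]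
  congr 1
  · simp [Equiv.funSplitAt, Equiv.piSplitAt]
  · rw [Finset.prod_subtype (p := fun l => l ≠ i) (Finset.univ.erase i) (by simp)]
    refine Finset.prod_congr rfl fun l _ => ?_
    simp [Equiv.funSplitAt, Equiv.piSplitAt, l.2]

theorem split_op_self (i : κ) (A : Matrix (Fin m) (Fin m) F) :
    split i (op i A) = A ⊗ₖ (1 : TMat F (Rest i) m) := by
  rw [op_eq_tens, split_tens, Pi.mulSingle_eq_same]
  congr 1
  rw [← map_one (tens (F := F) (κ := Rest i) (m := m))]
  congr 1
  funext l
  exact Pi.mulSingle_eq_of_ne l.2 _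

theorem split_op_other {i l : κ} (h : l ≠ i) (A : Matrix (Fin m) (Fin m) F) :
    split i (op l A) = (1 : Matrix (Fin m) (Fin m) F) ⊗ₖ op (⟨l, h⟩ : Rest i) A := by
  rw [op_eq_tens, op_eq_tens, split_tens, Pi.mulSingle_eq_of_ne h.symm]
  congr 2
  funext k
  by_cases hk : k.1 = l
  · rw [show k = ⟨l, h⟩ from Subtype.ext hk]
    simp
  · rw [Pi.mulSingle_eq_of_ne hk, Pi.mulSingle_eq_of_ne fun e => hk (congrArg Subtype.val e)]

end CfsgLib.Classical.WreathMax
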