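import Cfsg.Agent.Lib.Classical.WreathMax.Ops

/-!
# Partial traces on a tensor power, and relative traces of equivariant maps
-/

set_option autoImplicit false
set_option linter.unusedSectionVars false

open Matrix
open scoped Kronecker

namespace CfsgLib.Classical.WreathMax

section PTrace

variable {F : Type*} [Field F] {κ : Type} [Fintype κ] [DecidableEq κ] {m : ℕ}

theorem trace_split (i : κ) (M : TMat F κ m) : (split i M).trace = M.trace :=
  (Equiv.funSplitAt i (Fin m)).symm.sum_comp fun x => M x x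

/-- The partial trace over all factors but `i`. -/
def ptr (i : κ) : TMat F κ m →ₗ[F] Matrix (Fin m) (Fin m) F where
  toFun Y := Matrix.of fun a b => ∑ z, split i Y (a, z) (b, z)
  map_add' Y Z := by ext a b; simp [Finset.sum_add_distrib]
  map_smul' c Y := by ext a b; simp [Finset.mul_sum]

theorem trace_op_mul (i : κ) (X : Matrix (Fin m) (Fin m) F) (Y : TMat F κ m) :
    (op i X * Y).trace = (X * ptr i Y).trace := by
  rw [← trace_split i, map_mul, split_op_self]
  simp only [Matrix.trace, Matrix.diag, Matrix.mul_apply, Fintype.sum_prod_type, Matrix.kroneckerMap_apply,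
    Matrix.one_apply, mul_ite, mul_one, mul_zero, ite_mul, zero_mul, Finset.sum_ite_eq, Finset.mem_univ, if_true]
  refine Finset.sum_congr rfl fun a _ => ?_
  rw [Finset.sum_comm]
  refine Finset.sum_congr rfl fun b _ => ?_
  rw [show ptr i Y b a = ∑ z, split i Y (b, z) (a, z) from rfl, Finset.mul_sum]

/-- The sum over the factors of the partial traces, as one-factor operators. -/
def ptrSum : TMat F κ m →ₗ[F] TMat F κ m := ∑ i, (opAlg i).toLinearMap ∘ₗ ptr i

theorem ptrSum_apply (Y : TMat F κ m) : ptrSum Y = ∑ i, op i (ptr i Y) := by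
  rw [ptrSum, LinearMap.sum_apply]
  rfl

theorem trace_ptrSum_mul (Y Z : TMat F κ m) : (ptrSum Y * Z).trace = (Y * ptrSum Z).trace := by
  rw [ptrSum_apply, ptrSum_apply, Finset.sum_mul, Matrix.mul_sum, Matrix.trace_sum, Matrix.trace_sum]
  refine Finset.sum_congr rfl fun i _ => ?_
  rw [trace_op_mul, Matrix.trace_mul_comm Y, trace_op_mul, Matrix.trace_mul_comm]

/-- The partial trace commutes with the wreath group. -/
theorem ptr_conj {g : GL (κ → Fin m) F} {σ : Equiv.Perm κ} {C : κ → GL (Fin m) F} (hg : g = tensU C * permU σ)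
    (i : κ) (Y : TMat F κ m) : ptr (σ i) (g.1 * Y * g⁻¹.1) = (C (σ i)).1 * ptr i Y * (C (σ i))⁻¹.1 := by
  refine Matrix.ext_iff_trace_mul_left.2 fun X => ?_
  have hc := conj_op hg i ((C (σ i))⁻¹.1 * X * (C (σ i)).1)
  rw [show (C (σ i)).1 * ((C (σ i))⁻¹.1 * X * (C (σ i)).1) * (C (σ i))⁻¹.1 = X by
    simp only [Matrix.mul_assoc, ← Units.val_mul, mul_inv_cancel, Units.val_one, Matrix.mul_one]
    rw [← Matrix.mul_assoc, ← Units.val_mul, mul_inv_cancel, Units.val_one, Matrix.one_mul]] at hc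
  rw [← trace_op_mul, ← hc, show ∀ A : TMat F κ m, g.1 * A * g⁻¹.1 * (g.1 * Y * g⁻¹.1) = g.1 * (A * Y) * g⁻¹.1 from
    fun A => by
      rw [show g.1 * A * g⁻¹.1 * (g.1 * Y * g⁻¹.1) = g.1 * A * (g⁻¹.1 * g.1) * Y * g⁻¹.1 by
        simp only [Matrix.mul_assoc], ← Units.val_mul, inv_mul_cancel, Units.val_one, Matrix.mul_one]
      simp only [Matrix.mul_assoc],
    Matrix.trace_units_conj, trace_op_mul]
  rw [Matrix.mul_assoc, Matrix.mul_assoc, Matrix.trace_mul_comm, Matrix.mul_assoc, Matrix.mul_assoc]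

theorem ptrSum_conj {g : GL (κ → Fin m) F} (hg : g ∈ wreathT F κ m) (Y : TMat F κ m) :
    ptrSum (g.1 * Y * g⁻¹.1) = g.1 * ptrSum Y * g⁻¹.1 := by
  obtain ⟨σ, C, hg⟩ := hg
  rw [ptrSum_apply, ptrSum_apply, Matrix.mul_sum, Finset.sum_mul]
  rw [← Equiv.sum_comp σ fun i => op i (ptr i (g.1 * Y * g⁻¹.1))]
  refine Finset.sum_congr rfl fun i _ => ?_
  rw [ptr_conj hg, conj_op hg]

theorem ptr_tens (i : κ) (C : κ → Matrix (Fin m) (Fin m) F) :
    ptr i (tens C) = (∏ l : Rest i, (C l).trace) • C i := by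
  ext a b
  show ∑ z, split i (tens C) (a, z) (b, z) = _
  rw [split_tens, Matrix.smul_apply, smul_eq_mul]
  simp only [Matrix.kroneckerMap_apply, tens_apply, ← Finset.mul_sum, Matrix.trace, Matrix.diag]
  rw [Fintype.prod_sum, mul_comm]

end PTrace

section RelTrace

variable {F : Type*} [Field F] {J : Type} [Fintype J] [DecidableEq J]

/-- Conjugation by an invertible matrix. -/
def Ad (g : GL J F) : Matrix J J F →ₗ[F] Matrix J J F :=
  LinearMap.mulLeft F g.1 ∘ₗ LinearMap.mulRight F g⁻¹.1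

theorem Ad_apply (g : GL J F) (X : Matrix J J F) : Ad g X = g.1 * X * g⁻¹.1 := by
  simp [Ad, Matrix.mul_assoc]

theorem Ad_mul (g h : GL J F) (X : Matrix J J F) : Ad (g * h) X = Ad g (Ad h X) := by
  simp only [Ad_apply, _root_.mul_inv_rev, Units.val_mul, Matrix.mul_assoc]

theorem Ad_one (X : Matrix J J F) : Ad (1 : GL J F) X = X := by simp [Ad_apply]

theorem Ad_inv_self (g : GL J F) (X : Matrix J J F) : Ad g⁻¹ (Ad g X) = X := by
  rw [← Ad_mul, inv_mul_cancel, Ad_one]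

theorem Ad_self_inv (g : GL J F) (X : Matrix J J F) : Ad g (Ad g⁻¹ X) = X := by
  rw [← Ad_mul, mul_inv_cancel, Ad_one]

theorem trace_Ad_mul (g : GL J F) (X Z : Matrix J J F) : (Ad g X * Z).trace = (X * Ad g⁻¹ Z).trace := by
  simp only [Ad_apply, inv_inv]
  rw [Matrix.mul_assoc, Matrix.mul_assoc, Matrix.trace_mul_comm]
  simp only [Matrix.mul_assoc]

variable (M T : Subgroup (GL J F)) (φ : Matrix J J F →ₗ[F] Matrix J J F)

/-- The term of a coset in the relative trace of `φ`. -/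
def trTerm (hφ : ∀ h ∈ M, h ∈ T → ∀ Y, φ (Ad h Y) = Ad h (φ Y)) :
    (↥M ⧸ T.subgroupOf M) → (Matrix J J F →ₗ[F] Matrix J J F) :=
  Quotient.lift (fun g : M => Ad g.1 ∘ₗ φ ∘ₗ Ad g.1⁻¹) fun a b hab => by
    have h0 : a⁻¹ * b ∈ T.subgroupOf M := QuotientGroup.leftRel_apply.1 hab
    have hT : ((a⁻¹ * b : M) : GL J F) ∈ T := h0
    ext1 Y
    simp only [LinearMap.comp_apply]
    conv_rhs => rw [show b.1 = a.1 * ((a⁻¹ * b : M) : GL J F) by simp, _root_.mul_inv_rev, Ad_mul, Ad_mul]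
    have := hφ _ (a⁻¹ * b).2 hT (Ad (((a⁻¹ * b : M) : GL J F))⁻¹ (Ad a.1⁻¹ Y))
    rw [← this, Ad_self_inv]

variable [Finite F]

/-- The relative trace of `φ` from `M ⊓ T` to `M`. -/
noncomputable def relTr (hφ : ∀ h ∈ M, h ∈ T → ∀ Y, φ (Ad h Y) = Ad h (φ Y)) :
    Matrix J J F →ₗ[F] Matrix J J F :=
  letI := Fintype.ofFinite (↥M ⧸ T.subgroupOf M)
  ∑ c, trTerm M T φ hφ c

variable {M T φ} (hφ : ∀ h ∈ M, h ∈ T → ∀ Y, φ (Ad h Y) = Ad h (φ Y))

theorem trTerm_mk (g : M) (Y : Matrix J J F) :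
    trTerm M T φ hφ (QuotientGroup.mk g) Y = Ad g.1 (φ (Ad g.1⁻¹ Y)) := rfl

theorem trTerm_smul (a : M) (c : ↥M ⧸ T.subgroupOf M) (Y : Matrix J J F) :
    trTerm M T φ hφ (a • c) (Ad a.1 Y) = Ad a.1 (trTerm M T φ hφ c Y) := by
  induction c using QuotientGroup.induction_on with
  | H g =>
    rw [MulAction.Quotient.smul_mk, trTerm_mk, trTerm_mk, smul_eq_mul, Subgroup.coe_mul, _root_.mul_inv_rev, Ad_mul,
      Ad_mul, Ad_inv_self]

theorem relTr_Ad {a : GL J F} (ha : a ∈ M) (Y : Matrix J J F) :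
    relTr M T φ hφ (Ad a Y) = Ad a (relTr M T φ hφ Y) := by
  letI := Fintype.ofFinite (↥M ⧸ T.subgroupOf M)
  simp only [relTr, LinearMap.sum_apply, map_sum]
  rw [← Equiv.sum_comp (MulAction.toPerm (⟨a, ha⟩ : M))]
  exact Finset.sum_congr rfl fun c _ => trTerm_smul hφ ⟨a, ha⟩ c Y

theorem trace_relTr_mul (hsa : ∀ Y Z, (φ Y * Z).trace = (Y * φ Z).trace) (Y Z : Matrix J J F) :
    (relTr M T φ hφ Y * Z).trace = (Y * relTr M T φ hφ Z).trace := by
  letI := Fintype.ofFinite (↥M ⧸ T.subgroupOf M)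
  simp only [relTr, LinearMap.sum_apply, Finset.sum_mul, Matrix.mul_sum, Matrix.trace_sum]
  refine Finset.sum_congr rfl fun c _ => ?_
  induction c using QuotientGroup.induction_on with
  | H g =>
    rw [trTerm_mk, trTerm_mk, trace_Ad_mul, hsa]
    conv_lhs => rw [← inv_inv g.1, ← Ad_self_inv g.1⁻¹ (φ _)]
    rw [trace_Ad_mul]
    simp only [inv_inv, Ad_self_inv, Ad_inv_self]

/-- A vector fixed by a subgroup moving every non-trivial coset freely: the relative trace is `φ` up to norms. -/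
theorem relTr_sub_mem (R : Subgroup M) (hRT : ∀ r ∈ R, (r : GL J F) ∈ T)
    (hfree : ∀ r ∈ R, r ≠ 1 → ∀ g ∈ M, g ∉ T → g⁻¹ * (r : GL J F) * g ∉ T) [Fintype R]
    (E : Submodule F (Matrix J J F)) (hE : ∀ Z, ∑ r : R, Ad (r : M).1 Z ∈ E) {x : Matrix J J F}
    (hx : ∀ r ∈ R, Ad (r : GL J F) x = x) : relTr M T φ hφ x - φ x ∈ E := by
  classical
  letI := Fintype.ofFinite (↥M ⧸ T.subgroupOf M)
  set f := fun c => trTerm M T φ hφ c x with hf
  have hfs : ∀ (r : R) c, f ((r : M) • c) = Ad (r : M).1 (f c) := fun r c => by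
    simp only [hf]
    conv_lhs => rw [← hx r r.2]
    exact trTerm_smul hφ r c x
  set c₀ : ↥M ⧸ T.subgroupOf M := QuotientGroup.mk 1 with hc₀
  have h0 : f c₀ = φ x := by simp [hf, hc₀, trTerm_mk, Ad_one]
  have hfix : ∀ r : R, (r : M) • c₀ = c₀ := fun r => by
    rw [hc₀, MulAction.Quotient.smul_mk, QuotientGroup.eq]
    simpa [Subgroup.mem_subgroupOf] using hRT r r.2
  have hinj : ∀ c, c ≠ c₀ → ∀ r r' : R, (r : M) • c = (r' : M) • c → r = r' := fun c hc r r' h => by
    by_contra hne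
    induction c using QuotientGroup.induction_on with
    | H g =>
      rw [MulAction.Quotient.smul_mk, MulAction.Quotient.smul_mk, QuotientGroup.eq] at h
      refine hfree (r⁻¹ * r' : R).1 (r⁻¹ * r').2 (fun e => hne ?_) g.1 g.2 (fun hgT => hc ?_) ?_
      · exact inv_mul_eq_one.1 (Subtype.ext e)
      · rw [hc₀, QuotientGroup.eq]
        simpa [Subgroup.mem_subgroupOf] using hgT
      · simpa [Subgroup.mem_subgroupOf, mul_assoc] using h
  have hrel : relTr M T φ hφ x = f c₀ + ∑ c ∈ Finset.univ.erase c₀, f c := by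
    rw [Finset.add_sum_erase _ _ (Finset.mem_univ _)]
    simp [relTr, hf, LinearMap.sum_apply]
  rw [hrel, h0, add_sub_cancel_left]
  rw [← Finset.sum_fiberwise_of_maps_to (g := fun c => (Quotient.mk (MulAction.orbitRel R (↥M ⧸ T.subgroupOf M)) c))
    (t := (Finset.univ.erase c₀).image fun c => Quotient.mk (MulAction.orbitRel R (↥M ⧸ T.subgroupOf M)) c)
    (fun c hc => Finset.mem_image_of_mem _ hc)]
  refine E.sum_mem fun o ho => ?_
  obtain ⟨c₁, hc₁, rfl⟩ := Finset.mem_image.1 ho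
  have hc₁0 := Finset.ne_of_mem_erase hc₁
  have : ∑ c ∈ (Finset.univ.erase c₀).filter (fun c => Quotient.mk (MulAction.orbitRel R _) c =
      Quotient.mk (MulAction.orbitRel R _) c₁), f c = ∑ r : R, Ad (r : M).1 (f c₁) := by
    symm
    refine Finset.sum_nbij (fun r : R => (r : M) • c₁) (fun r _ => ?_) (fun r _ r' _ h => hinj c₁ hc₁0 r r' h)
      (fun c hc => ?_) (fun r _ => (hfs r c₁).symm)
    · simp only [Finset.mem_filter, Finset.mem_erase, Finset.mem_univ, and_true]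
      refine ⟨fun h => hc₁0 ?_, Quotient.sound ⟨r, rfl⟩⟩
      have := hfix r
      exact MulAction.injective (r : M) (h.trans this.symm)
    · simp only [Finset.coe_filter, Set.mem_setOf_eq] at hc
      obtain ⟨r, hr⟩ := Quotient.exact hc.2
      exact ⟨r, by simp, hr⟩
  rw [this]
  exact hE _

end RelTrace

end CfsgLib.Classical.WreathMax
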