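import Cfsg.Agent.Lib.Classical.WreathMax.Rank

/-!
# Elements of the wreath stabiliser that behave like root elements
-/

set_option autoImplicit false
set_option linter.unusedSectionVars false

open Matrix Module
open scoped Kronecker

namespace CfsgLib.Classical.WreathMax

theorem rank_add_le' {F : Type*} [Field F] {J J' : Type*} [Fintype J] [Fintype J'] (A B : Matrix J J' F) :
    (A + B).rank ≤ A.rank + B.rank := by
  rw [Matrix.rank, Matrix.rank, Matrix.rank, Matrix.mulVecLin_add]
  refine (Submodule.finrank_mono (LinearMap.range_add_le _ _)).trans ?_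
  exact Submodule.finrank_add_le_finrank_add_finrank _ _

variable {F : Type*} [Field F] {κ : Type} [Fintype κ] [DecidableEq κ] {m : ℕ}

theorem tens_eq_zero {C : κ → Matrix (Fin m) (Fin m) F} (h : tens C = 0) : ∃ l, C l = 0 := by
  by_contra hno
  push Not at hno
  have : ∀ l, ∃ a b, C l a b ≠ 0 := fun l => by
    by_contra hc
    push Not at hc
    exact hno l (Matrix.ext hc)
  choose a b hab using this
  exact Finset.prod_ne_zero_iff.2 (fun l _ => hab l) (congrFun (congrFun h a) b)

/-- A one-factor operator determines the factor, up to scalars. -/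
theorem eq_of_op_eq_op {i j : κ} (hij : i ≠ j) {A B : Matrix (Fin m) (Fin m) F}
    (h : op i A = (op j B : TMat F κ m)) : ∃ c : F, A = c • 1 := by
  have h1 : ∑ l ∈ ({i, j} : Finset κ), op l (if l = i then A else -B) = (0 : F) • (1 : TMat F κ m) := by
    rw [Finset.sum_pair hij, if_pos rfl, if_neg hij.symm, op_neg, h, zero_smul, add_neg_cancel]
  have := scalar_of_sum_op _ (fun l => if l = i then A else -B) h1 (Finset.mem_insert_self i _)
  simpa using this

/-- A tensor product of invertible matrices that commutes with one factor is scalar there. -/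
theorem scalar_of_tens_comm {C : κ → Matrix (Fin m) (Fin m) F} (hC : ∀ l, C l ≠ 0) (j : κ)
    (h : ∀ A, tens C * op j A = op j A * tens C) : ∃ c : F, C j = c • 1 := by
  have hcomm : ∀ A, C j * A = A * C j := fun A => by
    have h1 : tens (Function.update C j (C j * A - A * C j)) = 0 := by
      have e1 : ∀ X Y : Matrix (Fin m) (Fin m) F, tens (Function.update C j (X - Y)) =
          tens (Function.update C j X) - tens (Function.update C j Y) := fun X Y => by
        ext x y
        simp only [Matrix.sub_apply, tens_apply, ← Finset.mul_prod_erase Finset.univ _ (Finset.mem_univ j),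
          Function.update_self, sub_mul]
        congr 1 <;> congr 1 <;>
          exact Finset.prod_congr rfl fun l hl => by simp [Finset.ne_of_mem_erase hl]
      rw [e1, ← tens_mul_op, h, sub_eq_zero]
      rw [op_eq_tens, ← map_mul]
      congr 1
      funext l
      by_cases hl : l = j
      · subst hl; simp
      · simp [hl]
    obtain ⟨l, hl⟩ := tens_eq_zero h1
    by_cases hlj : l = j
    · subst hlj; rwa [Function.update_self, sub_eq_zero] at hl
    · rw [Function.update_of_ne hlj] at hl
      exact absurd hl (hC l)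
  by_contra hno
  push Not at hno
  obtain ⟨u, hu⟩ := exists_not_eigen hno
  obtain ⟨θ, hθ, hθu⟩ := Submodule.exists_dual_map_eq_bot_of_notMem hu inferInstance
  set γ : Fin m → F := fun a => θ (Pi.single a 1)
  have hγ : ∀ w, γ ⬝ᵥ w = θ w := fun w => by
    conv_rhs => rw [pi_eq_sum_univ' w]
    simp [dotProduct, γ, map_sum, mul_comm]
  have h0 : θ u = 0 := by
    have := Submodule.mem_map_of_mem (f := θ) (Submodule.mem_span_singleton_self u)
    rwa [hθu, Submodule.mem_bot] at this
  have h2 := congrArg (fun X => γ ⬝ᵥ (X *ᵥ u)) (hcomm (vecMulVec u γ))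
  simp only [← Matrix.mulVec_mulVec, vecMulVec_mulVec, op_smul_eq_smul, hγ, h0, zero_smul, Matrix.mulVec_zero,
    map_zero, map_smul, smul_eq_mul, mul_zero] at h2
  have h3 := congrArg (fun X => X *ᵥ u) (hcomm (vecMulVec u γ))
  simp only [← Matrix.mulVec_mulVec, vecMulVec_mulVec, op_smul_eq_smul, hγ, h0, zero_smul, Matrix.mulVec_zero] at h3
  rcases smul_eq_zero.1 h3.symm with h4 | h4
  · exact hθ h4
  · exact hu (by rw [h4, Matrix.mulVec_zero]; exact Submodule.zero_mem _)

theorem gl_coe_ne_zero (h : 0 < m) (A : GL (Fin m) F) : (A : Matrix (Fin m) (Fin m) F) ≠ 0 := fun h0 => by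
  haveI : Nonempty (Fin m) := ⟨⟨0, h⟩⟩
  haveI : Nontrivial (Matrix (Fin m) (Fin m) F) := Matrix.nonempty
  exact A.ne_zero h0

/-- A non-scalar one-factor operator detects the permutation of an element. -/
theorem perm_eq_of_conj (h0 : 0 < m) {g : GL (κ → Fin m) F} {σ : Equiv.Perm κ} {C : κ → GL (Fin m) F}
    (hg : g = tensU C * permU σ) {i j : κ} {A B : Matrix (Fin m) (Fin m) F} (hA : ∀ c : F, A ≠ c • 1)
    (h : g.1 * op i A = op j B * g.1) : σ i = j := by
  by_contra hne
  have h1 : op (σ i) ((C (σ i)).1 * A * (C (σ i))⁻¹.1) = (op j B : TMat F κ m) := by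
    rw [← conj_op hg, h, Matrix.mul_assoc, ← Units.val_mul, mul_inv_cancel, Units.val_one, Matrix.mul_one]
  obtain ⟨c, hc⟩ := eq_of_op_eq_op hne h1
  refine hA c ?_
  have := congrArg (fun X => (C (σ i))⁻¹.1 * X * (C (σ i)).1) hc
  simpa [← Matrix.mul_assoc, Matrix.mul_assoc _ (C (σ i))⁻¹.1] using this

theorem single_ne_smul_one (h : 2 ≤ m) (a b : Fin m) (c : F) :
    Matrix.single a b (1 : F) ≠ c • 1 := fun e => by
  haveI : Nontrivial (Fin m) := Fin.nontrivial_iff_two_le.2 h
  obtain ⟨d, hd⟩ := exists_ne a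
  have h1 := congrFun (congrFun e d) d
  have h2 := congrFun (congrFun e a) b
  simp [Ne.symm hd] at h1
  simp [← h1] at h2

/-- Elements that interchange two factors of dimension three in characteristic two. -/
def SwapType (h : GL (κ → Fin m) F) : Prop :=
  m = 3 ∧ (2 : F) = 0 ∧ ∃ (k l : κ) (D : κ → GL (Fin m) F), k ≠ l ∧
    h = tensU D * permU (Equiv.swap k l) * (tensU D)⁻¹

/-- A square-zero one-factor operator of small rank has rank one. -/
theorem exists_rankOne {i : κ} {X : Matrix (Fin m) (Fin m) F} (i₀ : κ)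
    (hr : (op i X : TMat F κ m).rank ≤ Fintype.card (Rest i₀ → Fin m)) (h0 : 0 < m) :
    ∃ b β : Fin m → F, X = vecMulVec b β := by
  classical
  by_cases hX : X = 0
  · exact ⟨0, 0, by rw [hX]; simp⟩
  obtain ⟨u, hu⟩ : ∃ u, X *ᵥ u ≠ 0 := by
    by_contra hc
    push Not at hc
    exact hX (Matrix.ext_iff_mulVec.2 fun u => by rw [hc, Matrix.zero_mulVec])
  by_cases hall : ∀ v, X *ᵥ v ∈ F ∙ (X *ᵥ u)
  · choose t ht using fun v => Submodule.mem_span_singleton.1 (hall v)
    refine ⟨X *ᵥ u, fun c => t (Pi.single c 1), ?_⟩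
    ext a c
    have := congrFun (ht (Pi.single c 1)) a
    rw [vecMulVec_apply]
    simp only [Pi.smul_apply, smul_eq_mul, Matrix.mulVec_single_one] at this
    rw [mul_comm, this]
    rfl
  exfalso
  push Not at hall
  obtain ⟨v, hv⟩ := hall
  rw [← rank_split i, split_op_self] at hr
  let φ : ((Rest i → Fin m) → F) × ((Rest i → Fin m) → F) →ₗ[F] (Fin m × (Rest i → Fin m) → F) :=
    (X ⊗ₖ (1 : TMat F (Rest i) m)).mulVecLin ∘ₗ
      LinearMap.coprod
        { toFun := fun w => tv u w
          map_add' := fun w w' => by funext p; simp [tv, mul_add]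
          map_smul' := fun c w => by funext p; simp [tv]; ring }
        { toFun := fun w => tv v w
          map_add' := fun w w' => by funext p; simp [tv, mul_add]
          map_smul' := fun c w => by funext p; simp [tv]; ring }
  have hinj : Function.Injective φ := by
    rw [injective_iff_map_eq_zero]
    rintro ⟨w, w'⟩ h
    have h' : tv (X *ᵥ u) w + tv (X *ᵥ v) w' = 0 := by
      rw [← h]
      simp [φ, Matrix.mulVec_add, kronecker_mulVec_tv]
    obtain ⟨η, hη, hηu⟩ := Submodule.exists_dual_map_eq_bot_of_notMem hv inferInstance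
    have hη0 : η (X *ᵥ u) = 0 := by
      have := Submodule.mem_map_of_mem (f := η) (Submodule.mem_span_singleton_self (X *ᵥ u))
      rwa [hηu, Submodule.mem_bot] at this
    have h2 := congrArg (slant η) h'
    simp only [map_add, slant_tv, map_zero, hη0, zero_smul, zero_add] at h2
    have hw' : w' = 0 := (smul_eq_zero.1 h2).resolve_left hη
    obtain ⟨a, ha⟩ := Function.ne_iff.1 hu
    have hw : w = 0 := by
      funext r
      have := congrFun h' (a, r)
      simp only [hw', tv, Pi.add_apply, Pi.zero_apply, mul_zero, add_zero] at this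
      exact (mul_eq_zero.1 this).resolve_left ha
    rw [hw, hw']
    rfl
  have h1 := Submodule.finrank_mono (LinearMap.range_comp_le_range _ _ : LinearMap.range φ ≤ _)
  rw [LinearMap.finrank_range_of_inj hinj, finrank_prod, Module.finrank_fintype_fun_eq_card] at h1
  change _ ≤ (X ⊗ₖ (1 : TMat F (Rest i) m)).rank at h1
  have hcard : Fintype.card (Rest i → Fin m) = Fintype.card (Rest i₀ → Fin m) := by
    simp [Fintype.card_subtype_compl]
  have : 0 < Fintype.card (Rest i → Fin m) := Fintype.card_pos_iff.2 ⟨fun _ => ⟨0, h0⟩⟩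
  omega

/-- Classification when the factors are not moved. -/
theorem classify_one (h3 : 3 ≤ m) (i₀ : κ) {h : GL (κ → Fin m) F} {C : κ → GL (Fin m) F} (hh : h = tensU C)
    (h1 : h ≠ 1) (hq : (h.1 - 1) * (h.1 - 1) = 0) (hr : (h.1 - 1).rank ≤ Fintype.card (Rest i₀ → Fin m)) :
    ∃ (j : κ) (b β : Fin m → F), b ≠ 0 ∧ β ≠ 0 ∧ β ⬝ᵥ b = 0 ∧ h.1 = 1 + op j (vecMulVec b β) := by
  classical
  have hC0 : ∀ l, (C l).1 ≠ 0 := fun l => gl_coe_ne_zero (by omega) (C l)
  have hone : ∀ i j, i ≠ j → (∀ c : F, (C i).1 ≠ c • 1) → ∃ c : F, (C j).1 = c • 1 := by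
    intro i j hij hi
    by_contra hj
    push Not at hj
    set B : TMat F (Rest i) m := tens fun l : Rest i => (C l).1 with hB
    have hBne : ∀ c : F, B ≠ c • 1 := fun c hc => by
      obtain ⟨d, hd⟩ := scalar_of_tens_comm (C := fun l : Rest i => (C l).1) (fun l => hC0 l) ⟨j, hij.symm⟩
        (fun A => by rw [← hB, hc, Matrix.smul_mul, Matrix.mul_smul, Matrix.one_mul, Matrix.mul_one])
      exact hj d hd
    obtain ⟨w₀, hw₀⟩ := exists_not_eigen hBne
    have hBinj : ∀ w, B *ᵥ w = 0 → w = 0 := fun w hw => by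
      have h2 := congrArg ((tensU fun l : Rest i => C l)⁻¹.1 *ᵥ ·) hw
      simp only [Matrix.mulVec_mulVec, Matrix.mulVec_zero] at h2
      rwa [hB, ← tensU_coe, ← Units.val_mul, inv_mul_cancel, Units.val_one, Matrix.one_mulVec] at h2
    have hlt := card_lt_rank (P := B) (Q := -1) h3 hi hBinj (w₀ := w₀) (fun hmem => hw₀ (by
      rw [Matrix.neg_mulVec, Matrix.one_mulVec, Submodule.neg_mem_iff] at hmem
      obtain ⟨c, hc⟩ := Submodule.mem_span_singleton.1 hmem
      have hc0 : c ≠ 0 := by
        rintro rfl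
        rw [zero_smul] at hc
        exact hw₀ (by rw [← hc, Matrix.mulVec_zero]; exact Submodule.zero_mem _)
      exact Submodule.mem_span_singleton.2 ⟨c⁻¹, by rw [inv_smul_eq_iff₀ hc0, hc]⟩))
    have hsplit : split i (h.1 - 1) = (C i).1 ⊗ₖ B + (1 : Matrix (Fin m) (Fin m) F) ⊗ₖ (-1 : TMat F (Rest i) m) := by
      rw [map_sub, map_one, hh, tensU_coe, split_tens, hB, sub_eq_add_neg, ← Matrix.one_kronecker_one]
      congr 1
      ext p q
      simp [Matrix.one_apply, Prod.ext_iff, ite_and]
      by_cases h1 : p.1 = q.1 <;> simp [h1]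
    rw [← hsplit, rank_split] at hlt
    have hcard : Fintype.card (Rest i → Fin m) = Fintype.card (Rest i₀ → Fin m) := by
      simp [Fintype.card_subtype_compl]
    omega
  -- a single factor
  obtain ⟨j, A, hA⟩ : ∃ j A, h.1 = op j A := by
    obtain ⟨j, hj⟩ : ∃ j, ∀ l, l ≠ j → ∃ c : F, (C l).1 = c • 1 := by
      by_cases hall : ∀ i, ∃ c : F, (C i).1 = c • 1
      · exact ⟨i₀, fun l _ => hall l⟩
      · push Not at hall
        obtain ⟨i, hi⟩ := hall
        exact ⟨i, fun l hl => hone i l (Ne.symm hl) hi⟩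
    have : ∀ l, ∃ c : F, l ≠ j → (C l).1 = c • 1 := fun l => by
      by_cases hl : l = j
      · exact ⟨1, fun e => absurd hl e⟩
      · obtain ⟨c, hc⟩ := hj l hl; exact ⟨c, fun _ => hc⟩
    choose c hc using this
    refine ⟨j, (∏ l ∈ Finset.univ.erase j, c l) • (C j).1, ?_⟩
    ext x y
    rw [hh, tensU_coe, tens_apply, op_apply, ← Finset.mul_prod_erase Finset.univ _ (Finset.mem_univ j)]
    split_ifs with hxy
    · rw [Matrix.smul_apply, smul_eq_mul, mul_comm]
      congr 1
      exact Finset.prod_congr rfl fun l hl => by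
        have hl' := Finset.ne_of_mem_erase hl
        rw [hc l hl', hxy l hl', Matrix.smul_apply, Matrix.one_apply_eq, smul_eq_mul, mul_one]
    · push Not at hxy
      obtain ⟨l, hl, hne⟩ := hxy
      rw [Finset.prod_eq_zero (Finset.mem_erase.2 ⟨hl, Finset.mem_univ l⟩), mul_zero]
      rw [hc l hl, Matrix.smul_apply, Matrix.one_apply_ne hne, smul_zero]
  have hX : h.1 - 1 = op j (A - 1) := by rw [op_sub, map_one, hA]
  rw [hX] at hq hr
  obtain ⟨b, β, hbβ⟩ := exists_rankOne i₀ hr (by omega)
  have hne : vecMulVec b β ≠ 0 := fun h0 => h1 (Units.ext (by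
    rw [Units.val_one, ← sub_eq_zero, hX, hbβ, h0, op_zero]))
  have hb : b ≠ 0 := fun h0 => hne (by simp [h0])
  have hβ : β ≠ 0 := fun h0 => hne (by simp [h0])
  refine ⟨j, b, β, hb, hβ, ?_, by rw [← hbβ, ← hX]; abel⟩
  rw [← map_mul, hbβ, vecMulVec_mul_vecMulVec, vecMulVec_smul, op_smul, ← hbβ, ← hX] at hq
  exact (smul_eq_zero.1 hq).resolve_right fun h0 => h1 (Units.ext (sub_eq_zero.1 h0))

/-- The factors of dimension at least four are not moved. -/
theorem perm_eq_one_of_four (h4 : 4 ≤ m) (i₀ : κ) {h : GL (κ → Fin m) F} {σ : Equiv.Perm κ}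
    {C : κ → GL (Fin m) F} (hh : h = tensU C * permU σ)
    (hr : (h.1 - 1).rank ≤ Fintype.card (Rest i₀ → Fin m)) : σ = 1 := by
  classical
  refine Equiv.ext fun k => ?_
  by_contra hkl
  change σ k ≠ k at hkl
  set J : Matrix (Fin m) (Fin m) F := Matrix.of fun a b => if (b : ℕ) = a + 1 then 1 else 0 with hJ
  set l := σ k
  set J' := (C l).1 * J * (C l)⁻¹.1
  set N := h.1 - 1 with hN
  set Z := op l J' - op k J with hZ
  have hZN : Z = (N * op k J - op k J * N) * h⁻¹.1 := by
    rw [hZ, ← conj_op hh, hN, Matrix.sub_mul h.1 1, Matrix.mul_sub (op k J), Matrix.one_mul, Matrix.mul_one,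
      sub_sub_sub_cancel_right, Matrix.sub_mul, Matrix.mul_assoc (op k J), ← Units.val_mul, mul_inv_cancel,
      Units.val_one, Matrix.mul_one]
  have hub : Z.rank ≤ 2 * Fintype.card (Rest i₀ → Fin m) := by
    rw [hZN]
    refine (Matrix.rank_mul_le_left _ _).trans ?_
    rw [sub_eq_add_neg]
    refine (rank_add_le' _ _).trans ?_
    rw [← Matrix.mul_neg]
    have h1 := (Matrix.rank_mul_le_left N (op k J)).trans hr
    have h2 : (-(op k J * N)).rank ≤ Fintype.card (Rest i₀ → Fin m) := by
      rw [← Matrix.neg_mul]; exact (Matrix.rank_mul_le_right _ _).trans hr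
    rw [Matrix.mul_neg]
    omega
  -- the kernel is small
  set B : TMat F (Rest k) m := op ⟨l, hkl⟩ J' with hB
  have hsplit : split k Z = (1 : Matrix (Fin m) (Fin m) F) ⊗ₖ B - J ⊗ₖ (1 : TMat F (Rest k) m) := by
    rw [hZ, map_sub, split_op_other hkl, split_op_self]
  rw [← rank_split k, hsplit] at hub
  set Y := (1 : Matrix (Fin m) (Fin m) F) ⊗ₖ B - J ⊗ₖ (1 : TMat F (Rest k) m) with hY
  have hrow : ∀ (v : Fin m × (Rest k → Fin m) → F), Y *ᵥ v = 0 → ∀ (a : Fin m) (ha : (a : ℕ) + 1 < m) r,
      v (⟨a + 1, ha⟩, r) = ∑ s, B r s * v (a, s) := by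
    intro v hv a ha r
    have h1 := congrFun hv (a, r)
    rw [hY, Matrix.sub_mulVec, Pi.sub_apply, Pi.zero_apply, sub_eq_zero] at h1
    simp only [Matrix.mulVec, dotProduct, Fintype.sum_prod_type, Matrix.kroneckerMap_apply, Matrix.one_apply,
      ite_mul, one_mul, zero_mul, mul_ite, mul_one, mul_zero, Finset.sum_ite_irrel, Finset.sum_const_zero,
      Finset.sum_ite_eq, Finset.mem_univ, if_true, hJ, Matrix.of_apply] at h1
    rw [h1, Finset.sum_eq_single (⟨(a : ℕ) + 1, ha⟩ : Fin m)]
    · simp
    · intro b _ hb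
      rw [if_neg fun e => hb (Fin.ext e)]
    · simp
  let φ : LinearMap.ker Y.mulVecLin →ₗ[F] ((Rest k → Fin m) → F) :=
    { toFun := fun v r => v.1 (⟨0, by omega⟩, r)
      map_add' := fun _ _ => rfl
      map_smul' := fun _ _ => rfl }
  have hinj : Function.Injective φ := by
    rw [injective_iff_map_eq_zero]
    rintro ⟨v, hv⟩ h0
    have hall : ∀ (n : ℕ) (hn : n < m) r, v (⟨n, hn⟩, r) = 0 := by
      intro n
      induction n with
      | zero => exact fun hn r => congrFun h0 r
      | succ n ih =>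
        intro hn r
        rw [hrow v hv ⟨n, by omega⟩ hn r]
        exact Finset.sum_eq_zero fun s _ => by rw [ih (by omega), mul_zero]
    exact Subtype.ext (funext fun p => hall p.1 p.1.2 p.2)
  have hk := LinearMap.finrank_le_finrank_of_injective hinj
  have hrk := Y.mulVecLin.finrank_range_add_finrank_ker
  change Y.rank + _ = _ at hrk
  rw [Module.finrank_fintype_fun_eq_card, Fintype.card_prod, Fintype.card_fin] at hrk
  rw [Module.finrank_fintype_fun_eq_card] at hk
  have hcard : Fintype.card (Rest k → Fin m) = Fintype.card (Rest i₀ → Fin m) := by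
    simp [Fintype.card_subtype_compl]
  have hpos : 0 < Fintype.card (Rest k → Fin m) := Fintype.card_pos_iff.2 ⟨fun _ => ⟨0, by omega⟩⟩
  nlinarith

theorem one_add_pow_sq_zero {R : Type*} [Ring R] {N : R} (h : N * N = 0) (n : ℕ) :
    (1 + N) ^ n = 1 + n • N := by
  induction n with
  | zero => simp
  | succ n ih =>
    rw [pow_succ, ih, mul_add, mul_one, add_mul, one_mul, smul_mul_assoc, h, smul_zero, add_zero, succ_nsmul]
    abel

theorem conj_pow_op {h : GL (κ → Fin m) F} {σ : Equiv.Perm κ} {C : κ → GL (Fin m) F} (hh : h = tensU C * permU σ)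
    (n : ℕ) (k : κ) (A : Matrix (Fin m) (Fin m) F) :
    ∃ A', (h ^ n).1 * op k A = op ((σ ^ n) k) A' * (h ^ n).1 ∧ (∀ c : F, A ≠ c • 1 → A' ≠ c • 1) := by
  induction n generalizing k A with
  | zero => exact ⟨A, by simp, fun c hc => hc⟩
  | succ n ih =>
    obtain ⟨A', e, hA'⟩ := ih k A
    refine ⟨(C (σ ((σ ^ n) k))).1 * A' * (C (σ ((σ ^ n) k)))⁻¹.1, ?_, fun c hc e' => hA' c hc ?_⟩
    · rw [pow_succ', Units.val_mul, Matrix.mul_assoc, e, ← Matrix.mul_assoc, hh, wreathT_mul_op, Matrix.mul_assoc,
        pow_succ', Equiv.Perm.mul_apply]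
    · set D := C (σ ((σ ^ n) k))
      have := congrArg (fun X => D⁻¹.1 * X * D.1) e'
      simpa [← Matrix.mul_assoc, Matrix.mul_assoc _ D⁻¹.1] using this

/-- In dimension three a factor is moved in cycles of length at most two. -/
theorem perm_sq_of_three (hm : m = 3) (i₀ : κ) {h : GL (κ → Fin m) F} {σ : Equiv.Perm κ}
    {C : κ → GL (Fin m) F} (hh : h = tensU C * permU σ) (hq : (h.1 - 1) * (h.1 - 1) = 0)
    (hr : (h.1 - 1).rank ≤ Fintype.card (Rest i₀ → Fin m)) (k : κ) : σ (σ k) = k := by
  classical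
  subst hm
  by_contra hsk
  have hkl : σ k ≠ k := fun e => hsk (by rw [e, e])
  have hol : σ (σ k) ≠ σ k := fun e => hkl (σ.injective e)
  set N := h.1 - 1 with hN
  have hhN : h.1 = 1 + N := by rw [hN]; abel
  have h2 : (2 : F) ≠ 0 := fun h2 => hsk (by
    obtain ⟨A', e, hA'⟩ := conj_pow_op hh 2 k (Matrix.single (0 : Fin 3) 1 (1 : F))
    have h1 : (h ^ 2).1 = 1 := by
      rw [Units.val_pow_eq_pow_val, hhN, one_add_pow_sq_zero hq, two_nsmul, ← two_smul F N, h2, zero_smul, add_zero]
    rw [h1, Matrix.one_mul, Matrix.mul_one] at e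
    by_contra hne
    obtain ⟨c, hc⟩ := eq_of_op_eq_op (i := k) (j := (σ ^ 2) k) (fun e' => hne (by
      rw [pow_two, Equiv.Perm.mul_apply] at e'; exact e'.symm)) e
    exact single_ne_smul_one (by norm_num) _ _ c hc)
  set E : Matrix (Fin 3) (Fin 3) F := Matrix.single 0 0 1 with hE
  set l := σ k
  set o := σ l
  set C₁ := C l
  set C₂ := C o * C l
  have e1 : h.1 * op k E * h⁻¹.1 = op l (C₁.1 * E * C₁⁻¹.1) := conj_op hh k E
  have e2 : h.1 * op l (C₁.1 * E * C₁⁻¹.1) * h⁻¹.1 = op o (C₂.1 * E * C₂⁻¹.1) := by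
    rw [conj_op hh l]
    congr 1
    simp only [C₂, C₁, l, o, _root_.mul_inv_rev, Units.val_mul, Matrix.mul_assoc]
  set Y := op o (C₂.1 * E * C₂⁻¹.1) - (2 : F) • op l (C₁.1 * E * C₁⁻¹.1) + op k E with hY
  have hinv : h⁻¹.1 = 1 - N := by
    have h1 : h.1 * (1 - N) = 1 := by rw [hhN]; noncomm_ring [hq]
    have h3 := congrArg (h⁻¹.1 * ·) h1
    simp only [← Matrix.mul_assoc, ← Units.val_mul, inv_mul_cancel, Units.val_one, Matrix.one_mul,
      Matrix.mul_one] at h3
    exact h3.symm
  have hYN : Y = (-2 : F) • (N * op k E * N * ((1 - N) * (1 - N))) := by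
    rw [hY, ← e2, ← e1, hinv, hhN]
    set X := op k E
    have hN3 : ∀ Z : TMat F κ 3, N * (N * Z) = 0 := fun Z => by rw [← Matrix.mul_assoc, hq, Matrix.zero_mul]
    simp only [neg_smul, two_smul, Matrix.add_mul, Matrix.mul_add, Matrix.sub_mul, Matrix.mul_sub, Matrix.one_mul,
      Matrix.mul_one, Matrix.mul_assoc, hN3, hq, Matrix.mul_zero, Matrix.zero_mul, sub_zero, add_zero, zero_add,
      zero_sub, neg_zero]
    abel
  have hub : Y.rank ≤ Fintype.card (Rest i₀ → Fin 3) := by
    rw [hYN, ← Matrix.smul_mul, ← Matrix.smul_mul, ← Matrix.smul_mul, Matrix.mul_assoc, Matrix.mul_assoc]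
    exact ((Matrix.rank_mul_le_left _ _).trans (by
      rw [Matrix.rank_smul_of_mem_nonZeroDivisors _ (mem_nonZeroDivisors_of_ne_zero (neg_ne_zero.2 h2))])).trans hr
  -- diagonalise
  set D : κ → GL (Fin 3) F := fun a => if a = l then C₁ else if a = o then C₂ else 1 with hD
  have hDk : D k = 1 := by simp [hD, hkl.symm, show k ≠ o from fun e => hsk e.symm]
  have hDl : D l = C₁ := by simp [hD]
  have hDo : D o = C₂ := by simp [hD, hol]
  have hconj : ∀ (a : κ) (A : Matrix (Fin 3) (Fin 3) F), (tensU D).1 * op a A * (tensU D)⁻¹.1 =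
      op a ((D a).1 * A * (D a)⁻¹.1) := fun a A => by
    have := conj_op (g := tensU D) (σ := 1) (C := D) (by simp) a A
    simpa using this
  have hdiag : ∀ a : κ, op a E = Matrix.diagonal fun x : κ → Fin 3 => if x a = 0 then (1 : F) else 0 := fun a => by
    ext x y
    rw [op_apply, Matrix.diagonal_apply]
    by_cases hxy : x = y
    · subst hxy
      rw [if_pos fun _ _ => rfl, if_pos rfl, hE, Matrix.single_apply]
      by_cases hx : x a = 0 <;> simp [hx, eq_comm]
    · rw [if_neg hxy]
      split_ifs with hall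
      · rw [hE, Matrix.single_apply, if_neg]
        rintro ⟨h1, h1'⟩
        exact hxy (funext fun b => by
          by_cases hb : b = a
          · rw [hb, ← h1, ← h1']
          · exact hall b hb)
      · rfl
  set f : (κ → Fin 3) → F := fun x =>
    (if x o = 0 then (1 : F) else 0) - 2 * (if x l = 0 then 1 else 0) + (if x k = 0 then 1 else 0) with hf
  have hYd : Y = (tensU D).1 * Matrix.diagonal f * (tensU D)⁻¹.1 := by
    have e3 : Matrix.diagonal f = op o E - (2 : F) • op l E + op k E := by
      rw [hdiag, hdiag, hdiag]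
      ext x y
      by_cases hxy : x = y
      · subst hxy; simp [hf]
      · simp [hxy]
    rw [e3, Matrix.mul_add, Matrix.mul_sub, Matrix.mul_smul, Matrix.add_mul, Matrix.sub_mul, Matrix.smul_mul, hconj,
      hconj, hconj, hDo, hDl, hDk, Units.val_one, Matrix.one_mul, inv_one, Units.val_one, Matrix.mul_one]
  rw [hYd, Matrix.rank_mul_eq_left_of_isUnit_det _ _
      ((Matrix.isUnit_iff_isUnit_det _).1 ((tensU D)⁻¹).isUnit),
    Matrix.rank_mul_eq_right_of_isUnit_det _ _ ((Matrix.isUnit_iff_isUnit_det _).1 (tensU D).isUnit),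
    Matrix.rank_diagonal] at hub
  -- count
  let g : Option (Rest k → Fin 3) → {x : κ → Fin 3 // f x ≠ 0} := fun r => match r with
    | none => ⟨fun a => if a = k then 2 else if a = o then 0 else 1, by
        simp [hf, hkl, hol.symm, show o ≠ k from hsk]⟩
    | some z =>
      if hz : z ⟨l, hkl⟩ = 0 ∧ z ⟨o, hsk⟩ = 0 then
        ⟨(Equiv.funSplitAt k (Fin 3)).symm (1, z), by
          simp [hf, Equiv.funSplitAt, Equiv.piSplitAt, hkl, show o ≠ k from hsk, hz.1, hz.2]; ring_nf; simp⟩
      else
        ⟨(Equiv.funSplitAt k (Fin 3)).symm (0, z), by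
          by_cases h1 : z ⟨l, hkl⟩ = 0
          · have h3 : z ⟨o, hsk⟩ ≠ 0 := fun e => hz ⟨h1, e⟩
            simp [hf, Equiv.funSplitAt, Equiv.piSplitAt, hkl, show o ≠ k from hsk, h1, h3]; ring_nf; simp
          · by_cases h3 : z ⟨o, hsk⟩ = 0
            · simp [hf, Equiv.funSplitAt, Equiv.piSplitAt, hkl, show o ≠ k from hsk, h1, h3]
              rw [one_add_one_eq_two]; exact h2
            · simp [hf, Equiv.funSplitAt, Equiv.piSplitAt, hkl, show o ≠ k from hsk, h1, h3]⟩
  have hg : Function.Injective g := by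
    have key : ∀ z, (g (some z)).1 k ≠ 2 ∧ (fun a : Rest k => (g (some z)).1 a) = z := fun z => by
      simp only [g]
      split_ifs with hz <;> refine ⟨by simp [Equiv.funSplitAt, Equiv.piSplitAt], funext fun a => ?_⟩ <;>
        simp [Equiv.funSplitAt, Equiv.piSplitAt, a.2]
    intro r r' e
    cases r with
    | none =>
      cases r' with
      | none => rfl
      | some z => exact absurd (by rw [← e]; simp [g]) (key z).1
    | some z =>
      cases r' with
      | none => exact absurd (by rw [e]; simp [g]) (key z).1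
      | some z' => rw [← (key z).2, ← (key z').2, e]
  have hle := Fintype.card_le_of_injective g hg
  rw [Fintype.card_option] at hle
  have hcard : Fintype.card (Rest k → Fin 3) = Fintype.card (Rest i₀ → Fin 3) := by
    simp [Fintype.card_subtype_compl]
  omega

/-- Two exchanged factors of dimension three. -/
theorem swapType_of_moved (hm : m = 3) (i₀ : κ) {h : GL (κ → Fin m) F} {σ : Equiv.Perm κ}
    {C : κ → GL (Fin m) F} (hh : h = tensU C * permU σ) (hq : (h.1 - 1) * (h.1 - 1) = 0)
    (hr : (h.1 - 1).rank ≤ Fintype.card (Rest i₀ → Fin m)) {p : ℕ} (hp : p.Prime) [CharP F p] {k : κ}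
    (hk : σ k ≠ k) : SwapType h := by
  classical
  have hsq := perm_sq_of_three hm i₀ hh hq hr
  subst hm
  set N := h.1 - 1 with hN
  have hhN : h.1 = 1 + N := by rw [hN]; abel
  have hpow : (h ^ p) = 1 := Units.ext (by
    rw [Units.val_pow_eq_pow_val, hhN, one_add_pow_sq_zero hq, ← Nat.cast_smul_eq_nsmul F, CharP.cast_eq_zero,
      zero_smul, add_zero, Units.val_one])
  have hσp : (σ ^ p) k = k := by
    obtain ⟨A', e, -⟩ := conj_pow_op hh p k (Matrix.single (0 : Fin 3) 1 (1 : F))
    rw [hpow, Units.val_one, Matrix.one_mul, Matrix.mul_one] at e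
    by_contra hne
    obtain ⟨c, hc⟩ := eq_of_op_eq_op (Ne.symm hne) e
    exact single_ne_smul_one (by norm_num) _ _ c hc
  have hp2 : p = 2 := by
    by_contra hp2
    obtain ⟨n, hn⟩ := hp.odd_of_ne_two hp2
    have h2n : ∀ n, (σ ^ (2 * n)) k = k := fun n => by
      induction n with
      | zero => rfl
      | succ n ih => rw [Nat.mul_succ, add_comm, pow_add, Equiv.Perm.mul_apply, ih, pow_two, Equiv.Perm.mul_apply, hsq]
    rw [hn, add_comm, pow_add, Equiv.Perm.mul_apply, h2n, pow_one] at hσp
    exact hk hσp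
  subst hp2
  have h20 : (2 : F) = 0 := by exact_mod_cast CharP.cast_eq_zero F 2
  set l := σ k with hl
  have hlk : σ l = k := hsq k
  -- the product round the cycle is scalar
  have hsc : ∃ c : F, (C k * C l).1 = c • (1 : Matrix (Fin 3) (Fin 3) F) := by
    have e : tensU (fun a => C a * C (σ⁻¹ a)) * permU (σ * σ) = 1 := by
      rw [map_mul, ← tensU_mul, ← mul_assoc, mul_assoc (tensU C), ← permU_mul_tensU]
      rw [show tensU C * (permU σ * tensU C) * permU σ = h ^ 2 by rw [hh, pow_two]; simp only [mul_assoc]]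
      exact hpow
    have hσσ : σ * σ = 1 := Equiv.ext fun a => hsq a
    rw [hσσ, map_one, mul_one] at e
    have hki : σ⁻¹ k = l := by rw [← hlk]; simp
    obtain ⟨c, hc⟩ := scalar_of_tens_comm (C := fun a => (C a * C (σ⁻¹ a)).1)
      (fun a => gl_coe_ne_zero (by norm_num) _) k (fun A => by
        have := congrArg Units.val e
        rw [tensU_coe] at this
        rw [this, Units.val_one, Matrix.one_mul, Matrix.mul_one])
    refine ⟨c, ?_⟩
    rwa [hki] at hc
  obtain ⟨c, hc⟩ := hsc
  set D : κ → GL (Fin 3) F := fun a => if a = l then C l else 1 with hD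
  set C' : κ → GL (Fin 3) F := fun a => (D a)⁻¹ * C a * D (σ⁻¹ a) with hC'
  have hh' : h = tensU D * (tensU C' * permU σ) * (tensU D)⁻¹ := by
    rw [eq_mul_inv_iff_mul_eq, hh, mul_assoc, permU_mul_tensU, ← mul_assoc, ← mul_assoc, tensU_mul, tensU_mul]
    congr 2
    funext a
    simp [hC', mul_assoc]
  set h' := tensU C' * permU σ with hh''
  have hC'l : C' l = 1 := by
    have : σ⁻¹ l = k := by simp [hl]
    show (D l)⁻¹ * C l * D (σ⁻¹ l) = 1
    rw [this]
    simp [hD, Ne.symm hk]
  have hC'k : (C' k).1 = c • 1 := by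
    have : σ⁻¹ k = l := by rw [← hlk]; simp
    rw [show C' k = C k * C l by
      show (D k)⁻¹ * C k * D (σ⁻¹ k) = _
      rw [this]
      simp [hD, Ne.symm hk], hc]
  -- entries of `h'`
  have hent : ∀ x y, h'.1 x y = ∏ a, (C' a).1 (x a) (y (σ⁻¹ a)) := fun x y => by
    rw [hh'', Units.val_mul, tensU_coe, permU_coe, Matrix.mul_apply, Finset.sum_eq_single (y ∘ ⇑σ⁻¹)]
    · rw [permM_apply, if_pos (funext fun a => by simp), mul_one, tens_apply]
      rfl
    · intro z _ hz
      rw [permM_apply, if_neg, mul_zero]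
      rintro rfl
      exact hz (funext fun a => by simp)
    · simp
  have hki : σ⁻¹ k = l := by rw [← hlk]; simp
  have hli : σ⁻¹ l = k := by simp [hl]
  set rest : (κ → Fin 3) → (κ → Fin 3) → F :=
    fun x y => c * ∏ a ∈ (Finset.univ.erase k).erase l, (C' a).1 (x a) (y (σ⁻¹ a)) with hrest
  have hent2 : ∀ x y, h'.1 x y = if x k = y l ∧ x l = y k then rest x y else 0 := fun x y => by
    rw [hent, ← Finset.mul_prod_erase Finset.univ _ (Finset.mem_univ k),
      ← Finset.mul_prod_erase (Finset.univ.erase k) _ (Finset.mem_erase.2 ⟨hk, Finset.mem_univ l⟩), hC'k, hC'l,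
      hki, hli, Units.val_one, Matrix.smul_apply, smul_eq_mul]
    by_cases h1 : x k = y l
    · by_cases h2 : x l = y k
      · rw [if_pos ⟨h1, h2⟩, h1, h2, Matrix.one_apply_eq, Matrix.one_apply_eq, one_mul, mul_one]
      · rw [if_neg fun e => h2 e.2, Matrix.one_apply_ne h2, zero_mul, mul_zero]
    · rw [if_neg fun e => h1 e.1, Matrix.one_apply_ne h1, mul_zero, zero_mul]
  have hrankh' : (h'.1 - 1).rank ≤ Fintype.card (Rest i₀ → Fin 3) := by
    have e : h'.1 - 1 = (tensU D)⁻¹.1 * N * (tensU D).1 := by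
      rw [hN, Matrix.mul_sub, Matrix.sub_mul, Matrix.mul_one, ← Units.val_mul, ← Units.val_mul, ← Units.val_mul,
        inv_mul_cancel, Units.val_one, hh']
      congr 2
      group
    rw [e]
    exact ((Matrix.rank_mul_le_left _ _).trans (Matrix.rank_mul_le_right _ _)).trans hr
  by_cases hswap : ∀ x y : κ → Fin 3, x k = 0 → x l = 0 → y k = 0 → y l = 0 → rest x y = if x = y then 1 else 0
  · refine ⟨rfl, h20, k, l, D, hk.symm, ?_⟩
    rw [hh']
    congr 2
    refine Units.ext (Matrix.ext fun x y => ?_)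
    rw [hent2, permU_coe, permM_apply]
    set x' := Function.update (Function.update x k 0) l 0
    set y' := Function.update (Function.update y k 0) l 0
    have hrxy : rest x y = rest x' y' := by
      simp only [hrest]
      congr 1
      refine Finset.prod_congr rfl fun a ha => ?_
      simp only [Finset.mem_erase] at ha
      have h1 : σ⁻¹ a ≠ k := fun e => ha.1 (by rw [hl, ← e]; simp)
      have h2 : σ⁻¹ a ≠ l := fun e => ha.2.1 (by rw [← hlk, ← e]; simp)
      simp only [x', y', Function.update_of_ne ha.1, Function.update_of_ne ha.2.1, Function.update_of_ne h1,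
        Function.update_of_ne h2]
    rw [hrxy, hswap x' y' (by simp [x', hk.symm]) (by simp [x']) (by simp [y', hk.symm]) (by simp [y'])]
    by_cases hy : y = x ∘ ⇑(Equiv.swap k l)
    · rw [if_pos hy, if_pos ⟨by simp [hy], by simp [hy]⟩, if_pos]
      funext a
      by_cases hal : a = l
      · simp [x', y', hal]
      · by_cases hak : a = k
        · simp [x', y', hak, hk.symm]
        · simp [x', y', hak, hal, hy, Equiv.swap_apply_of_ne_of_ne hak hal]
    · rw [if_neg hy]
      split_ifs with h1 h2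
      · exfalso
        apply hy
        funext a
        by_cases hal : a = l
        · subst hal; simp [h1.1]
        · by_cases hak : a = k
          · subst hak; simp [h1.2]
          · have := congrFun h2 a
            simp only [x', y', Function.update_of_ne hak, Function.update_of_ne hal] at this
            simp [Equiv.swap_apply_of_ne_of_ne hak hal, this]
      · rfl
      · rfl
  exfalso
  push Not at hswap
  obtain ⟨x₀, y₀, hx1, hx2, hy1, hy2, hne⟩ := hswap
  set Rset := {x : κ → Fin 3 // x k < x l}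
  let rows : Option Rset → (κ → Fin 3) := fun r => r.elim x₀ Subtype.val
  let cols : Option Rset → (κ → Fin 3) := fun r => r.elim y₀ Subtype.val
  set d : Option Rset → F := fun r => r.elim (rest x₀ y₀ - if x₀ = y₀ then 1 else 0) fun _ => -1 with hd
  have hsub : (h'.1 - 1).submatrix rows cols = Matrix.diagonal d := by
    ext r r'
    rw [Matrix.submatrix_apply, Matrix.sub_apply, hent2, Matrix.diagonal_apply, Matrix.one_apply]
    cases r with
    | none =>
      cases r' with
      | none =>
        simp [rows, cols, hd, hx1, hx2, hy1, hy2]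
        by_cases h0 : x₀ = y₀ <;> simp [h0]
      | some s =>
        have h1 : ¬ (x₀ k = s.1 l ∧ x₀ l = s.1 k) := fun e => absurd s.2 (by rw [← e.1, ← e.2, hx1, hx2]; simp)
        have h2 : x₀ ≠ s.1 := fun e => absurd s.2 (by rw [← e, hx1, hx2]; simp)
        simp [rows, cols, h1, h2]
    | some s =>
      cases r' with
      | none =>
        have h1 : ¬ (s.1 k = y₀ l ∧ s.1 l = y₀ k) := fun e => absurd s.2 (by rw [e.1, e.2, hy1, hy2]; simp)
        have h2 : s.1 ≠ y₀ := fun e => absurd s.2 (by rw [e, hy1, hy2]; simp)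
        simp [rows, cols, h1, h2]
      | some s' =>
        have h1 : ¬ (s.1 k = s'.1 l ∧ s.1 l = s'.1 k) := fun e => absurd (lt_trans s.2 (by rw [e.1, e.2] at *; exact s'.2)) (lt_irrefl _)
        simp only [rows, cols, Option.elim_some, h1, if_false, hd]
        by_cases hss : s = s'
        · simp [hss]
        · simp [hss, Subtype.coe_injective.ne hss]
  have h1 := (Matrix.rank_submatrix_le (h'.1 - 1) rows cols)
  rw [hsub, Matrix.rank_diagonal] at h1
  have hall : ∀ r, d r ≠ 0 := fun r => by
    cases r with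
    | none => exact sub_ne_zero.2 hne
    | some s => simp [hd]
  have hcd : Fintype.card {r // d r ≠ 0} = Fintype.card Rset + 1 := by
    rw [← Fintype.card_option]
    exact Fintype.card_congr (Equiv.subtypeUnivEquiv hall)
  have hinj : ∃ g : (Rest k → Fin 3) → Rset, Function.Injective g := by
    refine ⟨fun z => if hz : z ⟨l, hk⟩ = 0 then
        ⟨Function.update ((Equiv.funSplitAt k (Fin 3)).symm (1, z)) l 2, by
          simp [Function.update_of_ne hk.symm, Equiv.funSplitAt, Equiv.piSplitAt]⟩
      else ⟨(Equiv.funSplitAt k (Fin 3)).symm (0, z), by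
          simp [Equiv.funSplitAt, Equiv.piSplitAt, hk, Fin.pos_iff_ne_zero, hz]⟩, ?_⟩
    intro z z' e
    simp only at e
    have hcases : ∀ (w : Rest k → Fin 3) (a : Rest k), a.1 ≠ l →
        (Equiv.funSplitAt k (Fin 3)).symm ((1 : Fin 3), w) a.1 = w a ∧
          (Equiv.funSplitAt k (Fin 3)).symm ((0 : Fin 3), w) a.1 = w a := fun w a _ => by
      simp [Equiv.funSplitAt, Equiv.piSplitAt, a.2]
    by_cases hz : z ⟨l, hk⟩ = 0 <;> by_cases hz' : z' ⟨l, hk⟩ = 0
    · rw [dif_pos hz, dif_pos hz'] at e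
      funext a
      by_cases hal : a.1 = l
      · rw [show a = ⟨l, hk⟩ from Subtype.ext hal, hz, hz']
      · have := congrFun (congrArg Subtype.val e) a.1
        simp only [Function.update_of_ne hal, (hcases z a hal).1, (hcases z' a hal).1] at this
        exact this
    · rw [dif_pos hz, dif_neg hz'] at e
      have := congrFun (congrArg Subtype.val e) k
      simp [Function.update_of_ne hk.symm, Equiv.funSplitAt, Equiv.piSplitAt] at this
    · rw [dif_neg hz, dif_pos hz'] at e
      have := congrFun (congrArg Subtype.val e) k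
      simp [Function.update_of_ne hk.symm, Equiv.funSplitAt, Equiv.piSplitAt] at this
    · rw [dif_neg hz, dif_neg hz'] at e
      funext a
      have := congrFun (congrArg Subtype.val e) a.1
      simpa [Equiv.funSplitAt, Equiv.piSplitAt, a.2] using this
  obtain ⟨g, hg⟩ := hinj
  have h2 := Fintype.card_le_of_injective g hg
  have hcard : Fintype.card (Rest k → Fin 3) = Fintype.card (Rest i₀ → Fin 3) := by
    simp [Fintype.card_subtype_compl]
  rw [hcd] at h1
  omega

/-- An element of the stabiliser that behaves like a root element is one, or exchanges two factors. -/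
theorem classify [Finite F] (h3 : 3 ≤ m) (i₀ : κ) {h : GL (κ → Fin m) F} (hT : h ∈ wreathT F κ m) (h1 : h ≠ 1)
    (hq : (h.1 - 1) * (h.1 - 1) = 0) (hr : (h.1 - 1).rank ≤ Fintype.card (Rest i₀ → Fin m)) :
    (∃ (j : κ) (b β : Fin m → F), b ≠ 0 ∧ β ≠ 0 ∧ β ⬝ᵥ b = 0 ∧ h.1 = 1 + op j (vecMulVec b β)) ∨ SwapType h := by
  obtain ⟨σ, C, hh⟩ := hT
  by_cases hσ : σ = 1
  · subst hσ
    rw [map_one, mul_one] at hh
    exact Or.inl (classify_one h3 i₀ hh h1 hq hr)
  rcases eq_or_lt_of_le h3 with hm | h4
  · obtain ⟨k, hk⟩ : ∃ k, σ k ≠ k := by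
      by_contra hc
      push Not at hc
      exact hσ (Equiv.ext hc)
    obtain ⟨p, hchar⟩ := CharP.exists F
    exact Or.inr (swapType_of_moved hm.symm i₀ hh hq hr (CharP.char_is_prime F p) hk)
  · exact absurd (perm_eq_one_of_four h4 i₀ hh hr) hσ

end CfsgLib.Classical.WreathMax
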