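import Cfsg.Agent.Lib.Classical.WreathMax.SwapType
import Cfsg.Agent.Lib.Classical.WreathMax.InvAlg

/-!
# Nilpotent rank one matrices of size three and the maps commuting with root elements
-/

set_option autoImplicit false
set_option linter.unusedSectionVars false

open Matrix Module
open scoped Kronecker
open CfsgLib.Classical.TensorMax (exists_dot exists_dot_one exists_perp_notMem)

namespace CfsgLib.Classical.WreathMax

section OneFactor

variable {F : Type*} [Field F] {m : ℕ}

/-- A nilpotent matrix of rank one. -/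
def IsNilOne (A : Matrix (Fin m) (Fin m) F) : Prop :=
  ∃ b β : Fin m → F, b ≠ 0 ∧ β ≠ 0 ∧ β ⬝ᵥ b = 0 ∧ A = vecMulVec b β

theorem IsNilOne.trace_eq {A : Matrix (Fin m) (Fin m) F} (h : IsNilOne A) : A.trace = 0 := by
  obtain ⟨b, β, -, -, hβb, rfl⟩ := h
  rw [Matrix.trace_vecMulVec, dotProduct_comm, hβb]

theorem isNilOne_single {a b : Fin m} (hab : a ≠ b) : IsNilOne (Matrix.single a b (1 : F)) :=
  ⟨Pi.single a 1, Pi.single b 1, by simp, by simp, by simp [hab], by
    ext x y
    simp only [vecMulVec_apply, Matrix.single_apply, Pi.single_apply]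
    by_cases hx : x = a <;> by_cases hy : y = b <;> simp [hx, hy, Ne.symm] <;> tauto⟩

/-- Every nilpotent rank one matrix is a product of two with the reverse product zero. -/
theorem IsNilOne.factor (h3 : 3 ≤ m) {C : Matrix (Fin m) (Fin m) F} (h : IsNilOne C) :
    ∃ A w, IsNilOne A ∧ IsNilOne w ∧ A * w = C ∧ w * A = 0 := by
  obtain ⟨u, v, hu, hv, hvu, rfl⟩ := h
  obtain ⟨δ, hvδ, hδu⟩ := exists_perp_notMem h3 v u
  obtain ⟨η, hηu, hηδ⟩ := exists_dot hδu
  have hδ : δ ≠ 0 := fun e => hδu (e ▸ Submodule.zero_mem _)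
  have hη : η ≠ 0 := fun e => by simp [e] at hηδ
  refine ⟨vecMulVec u η, vecMulVec δ v, ⟨u, η, hu, hη, hηu, rfl⟩, ⟨δ, v, hδ, hv, hvδ, rfl⟩, ?_, ?_⟩
  · rw [vecMulVec_mul_vecMulVec, hηδ, one_smul]
  · rw [vecMulVec_mul_vecMulVec, hvu, zero_smul, vecMulVec_zero]

/-- All nilpotent rank one matrices of size three are conjugate. -/
theorem IsNilOne.exists_conj {C : Matrix (Fin 3) (Fin 3) F} (h : IsNilOne C) :
    ∃ P : GL (Fin 3) F, C = P.1 * Matrix.single 0 2 (1 : F) * P⁻¹.1 := by
  obtain ⟨b, β, hb, hβ, hβb, rfl⟩ := h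
  obtain ⟨k, hβk, hkb⟩ := exists_perp_notMem (n := 3) le_rfl β b
  obtain ⟨δ, hδ⟩ := exists_dot_one hβ
  rw [dotProduct_comm] at hδ
  set P : Matrix (Fin 3) (Fin 3) F := Matrix.of fun a c => ![b, k, δ] c a with hP
  have hmv : ∀ x, P *ᵥ x = x 0 • b + x 1 • k + x 2 • δ := fun x => by
    funext a
    simp [hP, Matrix.mulVec, dotProduct, Fin.sum_univ_three, mul_comm]
  have hdet : P.det ≠ 0 := fun h0 => by
    obtain ⟨x, hx0, hx⟩ := Matrix.exists_mulVec_eq_zero_iff.2 h0
    rw [hmv] at hx
    have h2 : x 2 = 0 := by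
      have := congrArg (β ⬝ᵥ ·) hx
      simpa [hβb, hβk, hδ] using this
    rw [h2, zero_smul, add_zero] at hx
    have h1 : x 1 = 0 := by
      by_contra h1
      refine hkb (Submodule.mem_span_singleton.2 ⟨-(x 1)⁻¹ * x 0, ?_⟩)
      have := congrArg ((x 1)⁻¹ • ·) hx
      simp only [smul_add, smul_smul, inv_mul_cancel₀ h1, one_smul, smul_zero] at this
      rw [neg_mul, neg_smul]
      exact neg_eq_of_add_eq_zero_right this
    rw [h1, zero_smul, add_zero] at hx
    have h0' : x 0 = 0 := (smul_eq_zero.1 hx).resolve_right hb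
    exact hx0 (funext fun a => by fin_cases a <;> assumption)
  refine ⟨GeneralLinearGroup.mkOfDetNeZero P hdet, ?_⟩
  set U := GeneralLinearGroup.mkOfDetNeZero P hdet
  have h1 : vecMulVec b β * P = P * Matrix.single 0 2 (1 : F) := by
    ext a c
    have hcol : ∀ c, ∑ x, β x * P x c = β ⬝ᵥ ![b, k, δ] c := fun c => rfl
    rw [Matrix.mul_apply, Matrix.mul_apply]
    simp only [vecMulVec_apply, mul_assoc, ← Finset.mul_sum, hcol]
    fin_cases c <;> simp [Fin.sum_univ_three, Matrix.single_apply, hP, hβb, hβk, hδ]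
  show vecMulVec b β = P * Matrix.single 0 2 (1 : F) * U⁻¹.1
  rw [← h1, Matrix.mul_assoc, show P * U⁻¹.1 = U.1 * U⁻¹.1 from rfl, ← Units.val_mul, mul_inv_cancel, Units.val_one,
    Matrix.mul_one]

/-- In characteristic two the identity and the nilpotent rank one matrices of size three span everything. -/
theorem linearMap_eq_zero_of_gen [CharP F 2] (f : Matrix (Fin 3) (Fin 3) F →ₗ[F] F) (h1 : f 1 = 0)
    (hN : ∀ A, IsNilOne A → f A = 0) : f = 0 := by
  have hdia : ∀ a b : Fin 3, f (Matrix.single a a 1) = f (Matrix.single b b 1) := by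
    intro a b
    rcases eq_or_ne a b with rfl | hab
    · rfl
    have hn : IsNilOne (vecMulVec (Pi.single a (1 : F) + Pi.single b 1 : Fin 3 → F) (Pi.single a 1 - Pi.single b 1 : Fin 3 → F)) := by
      refine ⟨_, _, fun e => ?_, fun e => ?_, ?_, rfl⟩
      · simpa [Pi.single_eq_of_ne hab] using congrFun e a
      · simpa [Pi.single_eq_of_ne hab] using congrFun e a
      · rw [sub_dotProduct, dotProduct_add, dotProduct_add]
        simp [single_dotProduct, Pi.single_eq_of_ne hab, Pi.single_eq_of_ne hab.symm]
    have e : vecMulVec (Pi.single a (1 : F) + Pi.single b 1 : Fin 3 → F) (Pi.single a 1 - Pi.single b 1 : Fin 3 → F) =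
        Matrix.single a a 1 - Matrix.single a b 1 + Matrix.single b a 1 - Matrix.single b b 1 := by
      ext x y
      simp only [vecMulVec_apply, Pi.add_apply, Pi.sub_apply, Matrix.sub_apply, Matrix.add_apply,
        Matrix.single_apply, Pi.single_apply]
      by_cases hxa : x = a <;> by_cases hxb : x = b <;> by_cases hya : y = a <;> by_cases hyb : y = b <;>
        simp_all [Ne.symm] <;> tauto
    have h2 := hN _ hn
    rw [e, map_sub, map_add, map_sub, hN _ (isNilOne_single hab), hN _ (isNilOne_single hab.symm), sub_zero,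
      add_zero, sub_eq_zero] at h2
    exact h2
  have h0 : f (Matrix.single 0 0 1) = 0 := by
    rw [← Matrix.sum_single_one, map_sum, Fin.sum_univ_three, hdia 1 0, hdia 2 0, CharTwo.add_self_eq_zero,
      zero_add] at h1
    exact h1
  refine LinearMap.ext fun X => ?_
  rw [Matrix.matrix_eq_sum_single X, map_sum, LinearMap.zero_apply]
  refine Finset.sum_eq_zero fun a _ => ?_
  rw [map_sum]
  refine Finset.sum_eq_zero fun b _ => ?_
  rw [show Matrix.single a b (X a b) = X a b • Matrix.single a b (1 : F) by rw [Matrix.smul_single, smul_eq_mul, mul_one],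
    map_smul]
  rcases eq_or_ne a b with rfl | hab
  · rw [hdia a 0, h0, smul_zero]
  · rw [hN _ (isNilOne_single hab), smul_zero]

end OneFactor

variable {F : Type*} [Field F] {κ : Type} [Fintype κ] [DecidableEq κ] {m : ℕ}

theorem tens_single (u v : κ → Fin m) :
    tens (fun l => Matrix.single (u l) (v l) (1 : F)) = Matrix.single u v 1 := by
  ext x y
  rw [tens_apply, Matrix.single_apply]
  split_ifs with h
  · exact Finset.prod_eq_one fun l _ => by rw [Matrix.single_apply, if_pos ⟨congrFun h.1 l, congrFun h.2 l⟩]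
  · obtain ⟨l, hl⟩ : ∃ l, ¬ (u l = x l ∧ v l = y l) := by
      by_contra hc
      push Not at hc
      exact h ⟨funext fun l => (hc l).1, funext fun l => (hc l).2⟩
    exact Finset.prod_eq_zero (Finset.mem_univ l) (by rw [Matrix.single_apply, if_neg hl])

/-- Tensor products of the generators separate the matrices. -/
theorem eq_zero_of_trace_gen [CharP F 2] {Z : TMat F κ 3}
    (h : ∀ C : κ → Matrix (Fin 3) (Fin 3) F, (∀ l, C l = 1 ∨ IsNilOne (C l)) → (Z * tens C).trace = 0) : Z = 0 := by
  classical
  have hs : ∀ (s : Finset κ) (C : κ → Matrix (Fin 3) (Fin 3) F), (∀ l, l ∉ s → C l = 1 ∨ IsNilOne (C l)) →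
      (Z * tens C).trace = 0 := by
    intro s
    induction s using Finset.induction with
    | empty => exact fun C hC => h C fun l => hC l (Finset.notMem_empty l)
    | @insert a s ha ih =>
      intro C hC
      let f : Matrix (Fin 3) (Fin 3) F →ₗ[F] F :=
        { toFun := fun X => (Z * tens (Function.update C a X)).trace
          map_add' := fun X Y => by
            rw [← Matrix.trace_add, ← Matrix.mul_add]
            congr 2
            ext x y
            simp only [Matrix.add_apply, tens_update_apply, add_mul]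
          map_smul' := fun c X => by
            rw [RingHom.id_apply, ← Matrix.trace_smul, ← Matrix.mul_smul]
            congr 2
            ext x y
            simp only [Matrix.smul_apply, tens_update_apply, smul_eq_mul, mul_assoc] }
      have hgen : ∀ X, (X = 1 ∨ IsNilOne X) → f X = 0 := fun X hX => ih _ fun l hl => by
        by_cases hla : l = a
        · subst hla; rw [Function.update_self]; exact hX
        · rw [Function.update_of_ne hla]; exact hC l (by simp [hla, hl])
      have h0 := LinearMap.congr_fun (linearMap_eq_zero_of_gen f (hgen 1 (Or.inl rfl)) fun A hA => hgen A (Or.inr hA)) (C a)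
      have h1 : f (C a) = (Z * tens C).trace := by simp [f]
      rw [← h1, h0, LinearMap.zero_apply]
  ext x y
  have h1 := hs Finset.univ (fun l => Matrix.single (y l) (x l) 1) (fun l hl => absurd (Finset.mem_univ l) hl)
  rw [tens_single, Matrix.trace_mul_single] at h1
  simpa using h1

theorem tens_rankOne (b β : κ → Fin m → F) :
    tens (fun l => vecMulVec (b l) (β l)) = vecMulVec (fun x => ∏ l, b l (x l)) (fun y => ∏ l, β l (y l)) := by
  ext x y
  simp only [tens_apply, vecMulVec_apply, Finset.prod_mul_distrib]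

theorem inv_val_of_sq_zero {g : GL (κ → Fin m) F} {N : TMat F κ m} (hg : g.1 = 1 + N) (h : N * N = 0) :
    g⁻¹.1 = 1 - N := by
  have h1 : g.1 * (1 - N) = 1 := by rw [hg]; noncomm_ring [h]
  have h2 := congrArg (g⁻¹.1 * ·) h1
  simp only [← Matrix.mul_assoc, ← Units.val_mul, inv_mul_cancel, Units.val_one, Matrix.one_mul, Matrix.mul_one] at h2
  exact h2.symm

/-- A linear map commuting with conjugation by the root elements. -/
def RootEquiv (D : TMat F κ m →ₗ[F] TMat F κ m) : Prop :=
  ∀ (i : κ) (b β : Fin m → F), β ⬝ᵥ b = 0 → ∀ V,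
    D ((1 + op i (vecMulVec b β)) * V * (1 - op i (vecMulVec b β))) =
      (1 + op i (vecMulVec b β)) * D V * (1 - op i (vecMulVec b β))

theorem op_root_mul (i : κ) (b β b' β' : Fin m → F) :
    op i (vecMulVec b β) * op i (vecMulVec b' β') = (β ⬝ᵥ b') • op i (vecMulVec b β') := by
  rw [← map_mul, vecMulVec_mul_vecMulVec, vecMulVec_smul, op_smul]

variable {D : TMat F κ m →ₗ[F] TMat F κ m}

/-- It commutes with the sandwich by a root. -/
theorem RootEquiv.sandwich (hD : RootEquiv D) (h3 : 3 ≤ m) (i : κ) {A : Matrix (Fin m) (Fin m) F} (hA : IsNilOne A)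
    (V : TMat F κ m) : D (op i A * V * op i A) = op i A * D V * op i A := by
  obtain ⟨b, β, -, -, hβb, rfl⟩ := hA
  obtain ⟨e, hβe, heb⟩ := exists_perp_notMem h3 β b
  obtain ⟨d, hdb, hde⟩ := exists_dot heb
  set N := op i (vecMulVec b β) with hN
  set n := op i (vecMulVec b d) with hn
  set P := op i (vecMulVec e β) with hP
  have hnP : n * P = N := by rw [hn, hP, op_root_mul, hde, one_smul]
  have hNP : N * P = 0 := by rw [hN, hP, op_root_mul, hβe, zero_smul]
  have hPN : P * N = 0 := by rw [hN, hP, op_root_mul, hβb, zero_smul]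
  have hPn : P * n = 0 := by rw [hn, hP, op_root_mul, hβb, zero_smul]
  have hNn : N + n = op i (vecMulVec b (β + d)) := by rw [vecMulVec_add, op_add]
  have hbd : (β + d) ⬝ᵥ b = 0 := by rw [add_dotProduct, hβb, hdb, add_zero]
  set W : TMat F κ m → TMat F κ m := fun V =>
    (1 + (N + n)) * V * (1 - (N + n)) - (1 + N) * V * (1 - N) - (1 + n) * V * (1 - n) + V with hW
  have hDW : ∀ V, D (W V) = W (D V) := fun V => by
    simp only [hW, map_add, map_sub]
    rw [hNn, hD i b _ hbd, hN, hD i b _ hβb, hn, hD i b _ hdb]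
  have hWeq : ∀ V, W V = -(N * V * n + n * V * N) := fun V => by
    simp only [hW]
    noncomm_ring
  have key : ∀ V, (1 + P) * W V * (1 - P) - W V = N * V * N := fun V => by
    have e1 : P * W V = 0 := by
      rw [hWeq, Matrix.mul_neg, Matrix.mul_add]
      simp only [← Matrix.mul_assoc, hPN, hPn, Matrix.zero_mul, add_zero, neg_zero]
    have e2 : W V * P = -(N * V * N) := by
      rw [hWeq, Matrix.neg_mul, Matrix.add_mul, Matrix.mul_assoc _ n P, Matrix.mul_assoc _ N P, hnP, hNP,
        Matrix.mul_zero, add_zero]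
    rw [Matrix.add_mul, Matrix.one_mul, e1, add_zero, Matrix.mul_sub, Matrix.mul_one, e2]
    abel
  rw [← key, ← key, map_sub, hD i e β hβe, hDW]

/-- It commutes with the bracket with a root. -/
theorem RootEquiv.bracket (hD : RootEquiv D) (h3 : 3 ≤ m) (i : κ) {A : Matrix (Fin m) (Fin m) F} (hA : IsNilOne A)
    (V : TMat F κ m) : D (op i A * V - V * op i A) = op i A * D V - D V * op i A := by
  have h2 := hD.sandwich h3 i hA V
  obtain ⟨b, β, -, -, hβb, rfl⟩ := hA
  have e : ∀ V, op i (vecMulVec b β) * V - V * op i (vecMulVec b β) =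
      (1 + op i (vecMulVec b β)) * V * (1 - op i (vecMulVec b β)) - V +
        op i (vecMulVec b β) * V * op i (vecMulVec b β) := fun V => by noncomm_ring
  rw [e, e, map_add, map_sub, hD i b β hβb, h2]

/-- It commutes with the sandwich by a tensor product of roots. -/
theorem RootEquiv.sandwich_tens (hD : RootEquiv D) (h3 : 3 ≤ m) {C : κ → Matrix (Fin m) (Fin m) F}
    (hC : ∀ l, IsNilOne (C l)) (V : TMat F κ m) : D (tens C * V * tens C) = tens C * D V * tens C := by
  classical
  suffices hs : ∀ (s : Finset κ) (V : TMat F κ m), D (tens (fun l => if l ∈ s then C l else 1) * V *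
      tens (fun l => if l ∈ s then C l else 1)) =
      tens (fun l => if l ∈ s then C l else 1) * D V * tens (fun l => if l ∈ s then C l else 1) by
    simpa using hs Finset.univ V
  intro s
  induction s using Finset.induction with
  | empty =>
    intro V
    simp only [Finset.notMem_empty, if_false]
    rw [show tens (fun _ : κ => (1 : Matrix (Fin m) (Fin m) F)) = 1 from map_one tens]
    simp
  | @insert a s ha ih =>
    intro V
    set N := tens (fun l => if l ∈ s then C l else 1) with hN
    have e1 : op a (C a) * N = tens (fun l => if l ∈ insert a s then C l else 1) := by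
      rw [hN, op_mul_tens]
      congr 1
      funext l
      by_cases hl : l = a
      · subst hl; simp [ha]
      · simp [hl]
    have e2 : N * op a (C a) = tens (fun l => if l ∈ insert a s then C l else 1) := by
      rw [hN, tens_mul_op]
      congr 1
      funext l
      by_cases hl : l = a
      · subst hl; simp [ha]
      · simp [hl]
    conv_lhs => rw [← e1]; arg 2; arg 2; rw [e1, ← e2]
    conv_rhs => rw [← e1]; arg 2; rw [e1, ← e2]
    rw [show op a (C a) * N * V * (N * op a (C a)) = op a (C a) * (N * V * N) * op a (C a) by simp only [Matrix.mul_assoc],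
      hD.sandwich h3 a (hC a), ih]
    simp only [Matrix.mul_assoc]

end CfsgLib.Classical.WreathMax
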