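import Cfsg.Agent.Lib.Classical.WreathMax.SmallBasic
import Cfsg.Agent.Lib.Classical.WreathMax.PTrace

/-!
# Relative traces for factors of dimension three over the field with two elements
-/

set_option autoImplicit false
set_option linter.unusedSectionVars false

open Matrix Module
open scoped Kronecker

namespace CfsgLib.Classical.WreathMax

variable {F : Type*} [Field F] {κ : Type} [Fintype κ] [DecidableEq κ]

theorem charTwo_of_card [Fintype F] (hq : Fintype.card F = 2) : CharP F 2 :=
  CharTwo.of_one_ne_zero_of_two_eq_zero one_ne_zero (by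
    have h := FiniteField.cast_card_eq_zero F
    rwa [hq, Nat.cast_ofNat] at h)

theorem det_eq_one_of_card [Fintype F] (hq : Fintype.card F = 2) {n : Type} [Fintype n] [DecidableEq n]
    (g : GL n F) : det g.1 = 1 := by
  classical
  haveI : Subsingleton Fˣ := Fintype.card_le_one_iff_subsingleton.1 (by rw [Fintype.card_units, hq])
  exact congrArg Units.val (Subsingleton.elim (Matrix.GeneralLinearGroup.det g) 1)

/-- The trace onto one factor, as a matrix on all factors. -/
def ptrOne (i : κ) : TMat F κ 3 →ₗ[F] TMat F κ 3 := (opAlg i).toLinearMap ∘ₗ ptr i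

theorem ptrOne_apply (i : κ) (Y : TMat F κ 3) : ptrOne i Y = op i (ptr i Y) := rfl

theorem trace_ptrOne_mul (i : κ) (Y Z : TMat F κ 3) : (ptrOne i Y * Z).trace = (Y * ptrOne i Z).trace := by
  rw [ptrOne_apply, ptrOne_apply, trace_op_mul, Matrix.trace_mul_comm Y, trace_op_mul, Matrix.trace_mul_comm]

theorem ptr_tens_eq_zero {C : κ → Matrix (Fin 3) (Fin 3) F} {i k : κ} (hk : k ≠ i) (h : (C k).trace = 0) :
    ptr i (tens C) = 0 := by
  rw [ptr_tens, Finset.prod_eq_zero (Finset.mem_univ (⟨k, hk⟩ : Rest i)) h, zero_smul]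

theorem ptr_op [CharP F 2] (i l : κ) {A : Matrix (Fin 3) (Fin 3) F} (hA : A.trace = 0) :
    ptr l (op i A) = if l = i then A else 0 := by
  rw [op_eq_tens]
  split_ifs with h
  · subst h
    rw [ptr_tens, Pi.mulSingle_eq_same, Finset.prod_eq_one, one_smul]
    intro k _
    rw [Pi.mulSingle_eq_of_ne k.2, Matrix.trace_one, Fintype.card_fin, Nat.cast_ofNat]
    linear_combination (CharTwo.two_eq_zero (R := F))
  · exact ptr_tens_eq_zero (Ne.symm h) (by rw [Pi.mulSingle_eq_same, hA])

theorem rootEquiv_of_Ad {D : TMat F κ 3 →ₗ[F] TMat F κ 3}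
    (h : ∀ (C : κ → GL (Fin 3) F) V, D (Ad (tensU C) V) = Ad (tensU C) (D V)) : RootEquiv D := by
  intro i b β hβb V
  have hdet : det (1 + vecMulVec b β) ≠ 0 := by
    rw [CfsgLib.Classical.TensorMax.det_one_add_vecMulVec, hβb, add_zero]
    exact one_ne_zero
  set A := GeneralLinearGroup.mkOfDetNeZero (1 + vecMulVec b β) hdet
  have hU : (tensU (Pi.mulSingle i A)).1 = 1 + op i (vecMulVec b β) := by
    rw [tensU_coe, show (1 : TMat F κ 3) + op i (vecMulVec b β) = op i (1 + vecMulVec b β) by rw [op_add, map_one],
      op_eq_tens]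
    congr 1
    funext l
    by_cases hl : l = i
    · subst hl; simp [A, GeneralLinearGroup.mkOfDetNeZero]
    · simp [hl]
  have hinv := inv_val_of_sq_zero hU (by rw [op_root_mul, hβb, zero_smul])
  have := h (Pi.mulSingle i A) V
  rwa [Ad_apply, Ad_apply, hU, hinv] at this

variable [Fintype F]

/-- The difference between a relative trace and the map traced lives on the tensors of trace-zero matrices,
where it is a scalar. -/
theorem relD_props (hq : Fintype.card F = 2) {M T' : Subgroup (GL (κ → Fin 3) F)}
    (htens : ∀ C : κ → GL (Fin 3) F, tensU C ∈ M ∧ tensU C ∈ T')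
    (φ : TMat F κ 3 →ₗ[F] TMat F κ 3) (hφ : ∀ h ∈ M, h ∈ T' → ∀ Y, φ (Ad h Y) = Ad h (φ Y))
    (hsa : ∀ Y Z, (φ Y * Z).trace = (Y * φ Z).trace)
    (hfree : ∀ g ∈ M, g ∉ T' → ∀ (i : κ) (b β : Fin 3 → F), b ≠ 0 → β ≠ 0 → β ⬝ᵥ b = 0 →
      ∀ r : GL (κ → Fin 3) F, r.1 = 1 + op i (vecMulVec b β) → g⁻¹ * r * g ∉ T') :
    ∃ c : F,
      (∀ (l : κ) x, (∀ A, op l A * x = x * op l A) → relTr M T' φ hφ x = φ x) ∧
      (∀ V (C : κ → Matrix (Fin 3) (Fin 3) F), (∀ l, IsNilOne (C l)) →
        (relTr M T' φ hφ V * tens C).trace = (φ V * tens C).trace + c * (V * tens C).trace) ∧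
      (∀ V, (∀ C : κ → Matrix (Fin 3) (Fin 3) F, (∀ l, IsNilOne (C l)) → c * (V * tens C).trace = 0) →
        relTr M T' φ hφ V = φ V) := by
  classical
  haveI := charTwo_of_card hq
  set D := relTr M T' φ hφ - φ with hD
  have hDAd : ∀ (C : κ → GL (Fin 3) F) V, D (Ad (tensU C) V) = Ad (tensU C) (D V) := fun C V => by
    simp only [hD, LinearMap.sub_apply, map_sub, relTr_Ad hφ (htens C).1, hφ _ (htens C).1 (htens C).2]
  have hre : RootEquiv D := rootEquiv_of_Ad hDAd
  have hDsa : ∀ Y Z, (D Y * Z).trace = (Y * D Z).trace := fun Y Z => by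
    simp only [hD, LinearMap.sub_apply, Matrix.sub_mul, Matrix.mul_sub, Matrix.trace_sub,
      trace_relTr_mul hφ hsa, hsa]
  have hkill : ∀ (l : κ) x, (∀ A, op l A * x = x * op l A) → D x = 0 := by
    intro l x hx
    have hroot : ∀ A, IsNilOne A → op l A * D x = D x * op l A := fun A hA => by
      have := hre.bracket le_rfl l hA x
      rw [hx, sub_self, map_zero] at this
      exact sub_eq_zero.1 this.symm
    have hall : ∀ A, op l A * D x = D x * op l A := by
      intro A
      have hs : ∀ a b : Fin 3, op l (Matrix.single a b (1 : F)) * D x = D x * op l (Matrix.single a b (1 : F)) := by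
        intro a b
        rcases eq_or_ne a b with rfl | hab
        · obtain ⟨c, hc⟩ := exists_ne a
          rw [show Matrix.single a a (1 : F) = Matrix.single a c 1 * Matrix.single c a 1 by
            rw [Matrix.single_mul_single_same, mul_one], map_mul, Matrix.mul_assoc, hroot _ (isNilOne_single hc),
            ← Matrix.mul_assoc, hroot _ (isNilOne_single hc.symm), Matrix.mul_assoc]
        · exact hroot _ (isNilOne_single hab)
      rw [Matrix.matrix_eq_sum_single A]
      simp only [op_sum, Finset.sum_mul, Matrix.mul_sum]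
      refine Finset.sum_congr rfl fun a _ => Finset.sum_congr rfl fun b _ => ?_
      rw [show Matrix.single a b (A a b) = A a b • Matrix.single a b (1 : F) by rw [Matrix.smul_single, smul_eq_mul, mul_one],
        op_smul, Matrix.smul_mul, Matrix.mul_smul, hs]
    obtain ⟨B, hB⟩ := split_of_commute (by norm_num) l hall
    -- the slice through the third basis vector
    set b : Fin 3 → F := Pi.single 0 1 with hb
    set β : Fin 3 → F := Pi.single 1 1 with hβ
    have hβb : β ⬝ᵥ b = 0 := by simp [hb, hβ]
    have hdet : det (1 + vecMulVec b β) ≠ 0 := by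
      rw [CfsgLib.Classical.TensorMax.det_one_add_vecMulVec, hβb, add_zero]
      exact one_ne_zero
    set r : GL (κ → Fin 3) F := tensU (Pi.mulSingle l (GeneralLinearGroup.mkOfDetNeZero (1 + vecMulVec b β) hdet))
      with hrdef
    have hr : r.1 = 1 + op l (vecMulVec b β) := by
      rw [hrdef, tensU_coe, show (1 : TMat F κ 3) + op l (vecMulVec b β) = op l (1 + vecMulVec b β) by
        rw [op_add, map_one], op_eq_tens]
      congr 1
      funext k
      by_cases hk : k = l
      · subst hk; simp [GeneralLinearGroup.mkOfDetNeZero]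
      · simp [hk]
    set N := op l (vecMulVec b β) with hN
    have hNN : N * N = 0 := by rw [hN, op_root_mul, hβb, zero_smul]
    have hinv : r⁻¹.1 = 1 - N := inv_val_of_sq_zero hr hNN
    have h2 : (2 : F) = 0 := CharTwo.two_eq_zero
    have hrr : r * r = 1 := Units.ext (by
      rw [Units.val_mul, hr, Units.val_one, show (1 + N) * (1 + N) = 1 + (2 : F) • N + N * N by
        rw [two_smul]; noncomm_ring, h2, zero_smul, hNN, add_zero, add_zero])
    set R : Subgroup M :=
      { carrier := {g : M | g = 1 ∨ g = ⟨r, (htens _).1⟩}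
        one_mem' := Or.inl rfl
        mul_mem' := by
          rintro g g' (rfl | rfl) (rfl | rfl)
          · exact Or.inl (one_mul _)
          · exact Or.inr (one_mul _)
          · exact Or.inr (mul_one _)
          · exact Or.inl (Subtype.ext hrr)
        inv_mem' := by
          rintro g (rfl | rfl)
          · exact Or.inl inv_one
          · exact Or.inr (Subtype.ext (inv_eq_of_mul_eq_one_right hrr)) } with hR
    haveI := Fintype.ofFinite R
    have hrne : r ≠ 1 := fun e => by
      have h3 : N = 0 := by
        have := congrArg Units.val e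
        rwa [hr, Units.val_one, add_eq_left] at this
      have := congrFun (congrFun h3 (Function.update (fun _ => (0 : Fin 3)) l 0)) (Function.update (fun _ => 0) l 1)
      rw [hN, op_apply, if_pos fun k hk => by rw [Function.update_of_ne hk, Function.update_of_ne hk]] at this
      simp [hb, hβ, vecMulVec_apply] at this
    let E : Submodule F (TMat F κ 3) :=
      { carrier := {Y | ∀ u v, split l Y ((2 : Fin 3), u) (2, v) = 0}
        add_mem' := fun hY hZ u v => by rw [map_add, Matrix.add_apply, hY, hZ, add_zero]
        zero_mem' := fun u v => by simp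
        smul_mem' := fun c Y hY u v => by rw [map_smul, Matrix.smul_apply, hY, smul_zero] }
    have hE : ∀ Z, ∑ g : R, Ad (g : M).1 Z ∈ E := by
      intro Z
      rw [Fintype.sum_eq_add (1 : R) ⟨⟨r, (htens _).1⟩, Or.inr rfl⟩ (fun e => hrne (by
          simpa using (congrArg (fun g : R => ((g : M) : GL (κ → Fin 3) F)) e).symm))
        (fun g hg => by
          rcases g.2 with h | h
          · exact absurd (Subtype.ext h) hg.1
          · exact absurd (Subtype.ext h) hg.2)]
      simp only [OneMemClass.coe_one, Ad_apply, hr, hinv, inv_one, Units.val_one, Matrix.one_mul, Matrix.mul_one]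
      intro u v
      have hrow : ∀ X : TMat F κ 3, split l (N * X) ((2 : Fin 3), u) (2, v) = 0 := fun X => by
        rw [map_mul, hN, split_op_self, Matrix.mul_apply]
        exact Finset.sum_eq_zero fun p _ => by simp [hb, vecMulVec_apply]
      have hcol : ∀ X : TMat F κ 3, split l (X * N) ((2 : Fin 3), u) (2, v) = 0 := fun X => by
        rw [map_mul, hN, split_op_self, Matrix.mul_apply]
        exact Finset.sum_eq_zero fun p _ => by simp [hβ, vecMulVec_apply]
      rw [show Z + (1 + N) * Z * (1 - N) = (2 : F) • Z + N * Z - Z * N - N * (Z * N) by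
        rw [two_smul]; noncomm_ring, h2, zero_smul, zero_add]
      rw [map_sub, map_sub, Matrix.sub_apply, Matrix.sub_apply, hrow, hcol, hrow, sub_zero, sub_zero]
    have hmem := relTr_sub_mem hφ R (fun g hg => by
        rcases hg with h | h <;> rw [h]
        · exact one_mem T'
        · exact (htens _).2)
      (fun g hg hne g' hg' hg'T => by
        rcases hg with h | h
        · exact absurd h hne
        · rw [h]; exact hfree g' hg' hg'T l b β (by simp [hb]) (by simp [hβ]) hβb r hr)
      E hE (x := x) (fun g hg => by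
        rcases hg with h | h <;> rw [h]
        · exact Ad_one x
        · show Ad r x = x
          rw [Ad_apply, hr, Matrix.add_mul, Matrix.one_mul, hN, hx, ← hN, show x + x * N = x * r.1 by
            rw [hr, Matrix.mul_add, Matrix.mul_one], Matrix.mul_assoc, ← Units.val_mul, mul_inv_cancel,
            Units.val_one, Matrix.mul_one])
    have hBz : B = 0 := by
      ext u v
      have := hmem u v
      rw [show relTr M T' φ hφ x - φ x = D x from rfl, hB, Matrix.kroneckerMap_apply, Matrix.one_apply_eq, one_mul]
        at this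
      simpa using this
    refine (split l).injective ?_
    rw [hB, hBz, Matrix.kronecker_zero, map_zero]
  -- on a tensor product of nilpotent rank one matrices
  have heig : ∀ C : κ → Matrix (Fin 3) (Fin 3) F, (∀ l, IsNilOne (C l)) →
      ∃ c : F, D (tens C) = c • tens C := by
    intro C hC
    choose b β hb hβ hβb hCe using hC
    have hN : tens C = vecMulVec (fun x => ∏ l, b l (x l)) (fun y => ∏ l, β l (y l)) := by
      rw [← tens_rankOne, ← funext hCe]
    set N := tens C with hNdef
    have hNVN : ∀ V, N * V * N = (V * N).trace • N := fun V => by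
      rw [hN, Matrix.vecMulVec_mul, vecMulVec_mul_vecMulVec, vecMulVec_smul, Matrix.mul_vecMulVec,
        Matrix.trace_vecMulVec]
      congr 1
      rw [← Matrix.dotProduct_mulVec, dotProduct_comm]
    obtain ⟨V, hV⟩ : ∃ V : TMat F κ 3, (V * N).trace = 1 := by
      by_contra hno
      push Not at hno
      have hNz : N = 0 := by
        ext x y
        by_contra hxy
        refine hno (Matrix.single y x (N x y)⁻¹) ?_
        rw [Matrix.trace_single_mul]
        simp at hxy
        simp [hxy]
      obtain ⟨l, hl⟩ := tens_eq_zero hNz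
      exact (CfsgLib.Classical.TensorMax.vecMulVec_eq_zero_iff'.1 ((hCe l).symm.trans hl)).elim (hb l) (hβ l)
    refine ⟨(D V * N).trace, ?_⟩
    have := hre.sandwich_tens le_rfl (fun l => ⟨b l, β l, hb l, hβ l, hβb l, hCe l⟩) V
    rwa [hNVN, hNVN, hV, one_smul] at this
  obtain ⟨c, hc⟩ := heig (fun _ => Matrix.single 0 2 1) fun _ => isNilOne_single (by decide)
  have hnil : ∀ C : κ → Matrix (Fin 3) (Fin 3) F, (∀ l, IsNilOne (C l)) → D (tens C) = c • tens C := by
    intro C hC
    choose P hP using fun l => (hC l).exists_conj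
    have hinv : (tensU P)⁻¹ = tensU fun l => (P l)⁻¹ := inv_eq_of_mul_eq_one_right (by
      rw [tensU_mul]; simpa using tensU_one)
    have e : tens C = Ad (tensU P) (tens fun _ => Matrix.single 0 2 1) := by
      rw [Ad_apply, hinv, tensU_coe, tensU_coe, ← map_mul, ← map_mul]
      congr 1
      funext l
      simp [hP l]
    rw [e, hDAd, hc, map_smul]
  refine ⟨c, fun l x hx => sub_eq_zero.1 (hkill l x hx), fun V C hC => ?_, fun V hV => ?_⟩
  · have h1 : (D V * tens C).trace = c * (V * tens C).trace := by
      rw [hDsa, hnil C hC, Matrix.mul_smul, Matrix.trace_smul, smul_eq_mul]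
    rw [hD, LinearMap.sub_apply, Matrix.sub_mul, Matrix.trace_sub, sub_eq_iff_eq_add'] at h1
    exact h1
  · refine sub_eq_zero.1 (eq_zero_of_trace_gen fun C hC => ?_)
    show (D V * tens C).trace = 0
    by_cases hall : ∀ l, IsNilOne (C l)
    · rw [hDsa, hnil C hall, Matrix.mul_smul, Matrix.trace_smul, smul_eq_mul, hV C hall]
    · push Not at hall
      obtain ⟨l, hl⟩ := hall
      have hl1 := (hC l).resolve_right hl
      rw [hDsa, hkill l _ fun A => ?_, Matrix.mul_zero, Matrix.trace_zero]
      rw [op_mul_tens, tens_mul_op, hl1, Matrix.mul_one, Matrix.one_mul]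

end CfsgLib.Classical.WreathMax
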