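import Cfsg.Agent.Lib.Classical.WreathMax.PermType
import Cfsg.Agent.Lib.Classical.WreathMax.NoFusion
import Cfsg.Agent.Lib.Classical.SLBasic
import Cfsg.Agent.Lib.Classical.TensorMax.Basic

/-!
# A root element is not fused with an exchange of two factors
-/

set_option autoImplicit false
set_option linter.unusedSectionVars false

open Matrix Module
open scoped Kronecker commutatorElement
open CfsgLib.Classical.TensorMax (exists_dot exists_dot_one exists_perp exists_perp_notMem vecMulVec_eq_zero_iff')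

namespace CfsgLib.Classical.WreathMax

section Pair

variable {F : Type*} [Field F]

/-- The companion matrix of `X³ + X + 1` over the field with two elements. -/
def compTwo : Matrix (Fin 3) (Fin 3) (ZMod 2) := !![0, 0, 1; 1, 0, 1; 0, 1, 0]

/-- The exchange of the two coordinates. -/
def pairSwap : Matrix (Fin 3 × Fin 3) (Fin 3 × Fin 3) (ZMod 2) :=
  Matrix.of fun x y => if y = (x.2, x.1) then 1 else 0

/-- A cofactor in the identity below. -/
def cofZ : Matrix (Fin 3 × Fin 3) (Fin 3 × Fin 3) (ZMod 2) :=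
  Matrix.of fun x y => if (x, y) ∈ ([((0, 1), (0, 0)), ((0, 1), (1, 2)), ((0, 1), (2, 0)), ((0, 2), (1, 0)),
    ((0, 2), (2, 2)), ((1, 2), (1, 1)), ((1, 2), (2, 0)), ((1, 2), (2, 2))] : List ((Fin 3 × Fin 3) × (Fin 3 × Fin 3)))
    then 1 else 0

/-- A cofactor in the identity below. -/
def cofR : Matrix (Fin 3 × Fin 3) (Fin 3 × Fin 3) (ZMod 2) :=
  Matrix.of fun x y => if (x, y) ∈ ([((0, 0), (0, 2)), ((0, 1), (0, 2)), ((0, 1), (1, 2)), ((0, 2), (0, 1)),
    ((1, 1), (0, 1)), ((1, 1), (1, 2)), ((1, 2), (0, 2)), ((2, 2), (1, 2))] : List ((Fin 3 × Fin 3) × (Fin 3 × Fin 3)))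
    then 1 else 0

set_option maxRecDepth 100000 in
set_option maxHeartbeats 4000000 in
theorem pair_identity_range :
    let u := compTwo ⊗ₖ compTwo
    (u * u * u + u * u + 1) * (pairSwap + 1) = 0 := by
  decide +kernel

set_option maxRecDepth 100000 in
set_option maxHeartbeats 4000000 in
theorem pair_identity_ker :
    let u := compTwo ⊗ₖ compTwo
    u * u * u + u + 1 = (pairSwap + 1) * cofZ + cofR * (pairSwap + 1) := by
  decide +kernel

theorem compTwo_det : compTwo.det = 1 := by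
  rw [Matrix.det_fin_three]; decide

end Pair

variable {F : Type*} [Field F] {κ : Type} [Fintype κ] [DecidableEq κ] {m : ℕ}

theorem det_op (i : κ) (A : Matrix (Fin m) (Fin m) F) :
    det (op i A) = A.det ^ Fintype.card (Rest i → Fin m) := by
  have h : det (split i (op i A)) = det (op i A) := Matrix.det_reindex_self _ _
  rw [← h, split_op_self, Matrix.det_kronecker, det_one, one_pow, mul_one]

/-- A matrix commuting with a whole factor is the identity there. -/
theorem split_of_commute (h0 : 0 < m) (i : κ) {Z : TMat F κ m} (h : ∀ A, op i A * Z = Z * op i A) :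
    ∃ B, split i Z = (1 : Matrix (Fin m) (Fin m) F) ⊗ₖ B := by
  set o : Fin m := ⟨0, h0⟩
  refine ⟨Matrix.of fun u v => split i Z (o, u) (o, v), ?_⟩
  ext ⟨a, u⟩ ⟨b, v⟩
  have h1 := congrArg (fun X => split i X (o, u) (b, v)) (h (Matrix.single o a (1 : F)))
  simp only [map_mul, split_op_self, Matrix.mul_apply, Fintype.sum_prod_type, Matrix.kroneckerMap_apply,
    Matrix.one_apply, mul_ite, mul_one, mul_zero, ite_mul, zero_mul, Finset.sum_ite_eq, Finset.sum_ite_eq',
    Finset.mem_univ, if_true, Matrix.single_apply, true_and, one_mul] at h1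
  rw [h1, Matrix.kroneckerMap_apply, Matrix.one_apply, Matrix.of_apply]
  by_cases hab : a = b <;> simp [hab, eq_comm]

/-- An element of the stabiliser commuting with a root of the factor `i` splits there. -/
theorem split_of_comm_root (h3 : 3 ≤ m) (i : κ) {b β : Fin m → F} (hb : b ≠ 0) (hβ : β ≠ 0)
    {w : GL (κ → Fin m) F} (hw : w ∈ wreathT F κ m)
    (hc : w.1 * op i (vecMulVec b β) = op i (vecMulVec b β) * w.1) :
    ∃ (C : GL (Fin m) F) (B : TMat F (Rest i) m),
      split i w.1 = C.1 ⊗ₖ B ∧ C.1 * vecMulVec b β = vecMulVec b β * C.1 := by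
  obtain ⟨σ, D, hD⟩ := hw
  have hne : ∀ c : F, vecMulVec b β ≠ c • 1 := fun c e => by
    obtain ⟨v, hv⟩ := exists_perp (dotProductBilin F F β) (by rw [finrank_self]; omega)
    have h1 := congrArg (· *ᵥ v) e
    simp only [vecMulVec_mulVec, smul_mulVec, one_mulVec, op_smul_eq_smul] at h1
    rw [show β ⬝ᵥ v = 0 from hv.2, zero_smul] at h1
    rcases smul_eq_zero.1 h1.symm with h2 | h2
    · rw [h2, zero_smul, vecMulVec_eq_zero_iff'] at e
      exact e.elim hb hβ
    · exact hv.1 h2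
  have hσ : σ i = i := perm_eq_of_conj (by omega) hD hne hc
  set C := D i
  have hconj : ∀ A, w.1 * op i A * w⁻¹.1 = op i (C.1 * A * C⁻¹.1) := fun A => by
    rw [conj_op hD, hσ]
  let Ci : GL (κ → Fin m) F := tensU (Pi.mulSingle i C⁻¹)
  have hCi : Ci.1 = op i C⁻¹.1 := by
    rw [tensU_coe, op_eq_tens]
    congr 1
    funext l
    by_cases hl : l = i
    · subst hl; simp
    · simp [hl]
  obtain ⟨B, hB⟩ := split_of_commute (by omega : 0 < m) i (Z := op i C⁻¹.1 * w.1) fun A => by
    have h1 := hconj A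
    have h2 : w.1 * op i A = op i (C.1 * A * C⁻¹.1) * w.1 := by
      rw [← h1, Matrix.mul_assoc, ← Units.val_mul, inv_mul_cancel, Units.val_one, Matrix.mul_one]
    rw [← Matrix.mul_assoc, ← map_mul, Matrix.mul_assoc, h2, ← Matrix.mul_assoc, ← map_mul]
    simp only [← Matrix.mul_assoc, ← Units.val_mul, inv_mul_cancel, Units.val_one, Matrix.one_mul]
  refine ⟨C, B, ?_, ?_⟩
  · rw [map_mul, split_op_self] at hB
    have h3' := congrArg ((C.1 ⊗ₖ (1 : TMat F (Rest i) m)) * ·) hB
    simp only [← Matrix.mul_assoc, ← Matrix.mul_kronecker_mul, ← Units.val_mul, mul_inv_cancel, Units.val_one,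
      Matrix.one_mul, Matrix.mul_one, Matrix.one_kronecker_one] at h3'
    exact h3'
  · have h1 := hconj (vecMulVec b β)
    rw [hc, Matrix.mul_assoc, ← Units.val_mul, mul_inv_cancel, Units.val_one, Matrix.mul_one] at h1
    have h4 : vecMulVec b β = C.1 * vecMulVec b β * C⁻¹.1 := by
      haveI : Nonempty (Fin m) := ⟨⟨0, by omega⟩⟩
      ext x y
      have := congrFun (congrFun h1 (Function.update (fun _ => x) i x)) (Function.update (fun _ => x) i y)
      rwa [op_apply, op_apply, if_pos fun l hl => by rw [Function.update_of_ne hl, Function.update_of_ne hl],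
        if_pos fun l hl => by rw [Function.update_of_ne hl, Function.update_of_ne hl], Function.update_self,
        Function.update_self] at this
    conv_rhs => rw [h4]
    rw [Matrix.mul_assoc (C.1 * vecMulVec b β), ← Units.val_mul, inv_mul_cancel, Units.val_one, Matrix.mul_one]

/-- The coordinates of two factors against the rest. -/
def pairEquiv {k l : κ} (hkl : k ≠ l) :
    (κ → Fin 3) ≃ (Fin 3 × Fin 3) × ({a : κ // a ≠ k ∧ a ≠ l} → Fin 3) where
  toFun x := ((x k, x l), fun a => x a)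
  invFun p := fun a => if h : a = k then p.1.1 else if h' : a = l then p.1.2 else p.2 ⟨a, h, h'⟩
  left_inv x := by
    funext a
    by_cases h : a = k
    · subst h; simp
    · by_cases h' : a = l
      · subst h'; simp [h]
      · simp [h, h']
  right_inv p := by
    refine Prod.ext (Prod.ext ?_ ?_) (funext fun a => ?_)
    · simp
    · simp [hkl.symm]
    · simp [a.2.1, a.2.2]

/-- Matrices on two factors, acting on the tensor power. -/
def pairOp {k l : κ} (hkl : k ≠ l) : Matrix (Fin 3 × Fin 3) (Fin 3 × Fin 3) F →+* TMat F κ 3 :=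
  (Matrix.reindexAlgEquiv F F (pairEquiv hkl).symm).toRingEquiv.toRingHom.comp
    { toFun := fun X => X ⊗ₖ (1 : Matrix ({a : κ // a ≠ k ∧ a ≠ l} → Fin 3) ({a : κ // a ≠ k ∧ a ≠ l} → Fin 3) F)
      map_one' := Matrix.one_kronecker_one
      map_mul' := fun X Y => by rw [← Matrix.mul_kronecker_mul, Matrix.one_mul]
      map_zero' := Matrix.zero_kronecker _
      map_add' := fun X Y => Matrix.add_kronecker _ _ _ }

theorem pairOp_apply {k l : κ} (hkl : k ≠ l) (X : Matrix (Fin 3 × Fin 3) (Fin 3 × Fin 3) F) (x y : κ → Fin 3) :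
    pairOp hkl X x y = if ∀ a, a ≠ k → a ≠ l → x a = y a then X (x k, x l) (y k, y l) else 0 := by
  show (X ⊗ₖ (1 : Matrix ({a : κ // a ≠ k ∧ a ≠ l} → Fin 3) ({a : κ // a ≠ k ∧ a ≠ l} → Fin 3) F))
    (pairEquiv hkl x) (pairEquiv hkl y) = _
  rw [Matrix.kroneckerMap_apply, Matrix.one_apply]
  by_cases h : ∀ a, a ≠ k → a ≠ l → x a = y a
  · have e : (pairEquiv hkl x).2 = (pairEquiv hkl y).2 := funext fun a => h a.1 a.2.1 a.2.2
    rw [if_pos h, if_pos e, mul_one]
    rfl
  · rw [if_neg h, if_neg, mul_zero]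
    exact fun e => h fun a h1 h2 => congrFun e ⟨a, h1, h2⟩

theorem permM_swap_eq {k l : κ} (hkl : k ≠ l) :
    (permM (Equiv.swap k l) : TMat F κ 3) = pairOp hkl (Matrix.of fun x y => if y = (x.2, x.1) then 1 else 0) := by
  ext x y
  rw [pairOp_apply, permM_apply, Matrix.of_apply]
  by_cases h : y = x ∘ ⇑(Equiv.swap k l)
  · subst h
    rw [if_pos rfl, if_pos fun a h1 h2 => by simp [Equiv.swap_apply_of_ne_of_ne h1 h2], if_pos (by simp)]
  · rw [if_neg h]
    split_ifs with h1 h2
    · exfalso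
      apply h
      simp only [Prod.ext_iff] at h2
      funext a
      by_cases hak : a = k
      · subst hak; simp [h2.1]
      · by_cases hal : a = l
        · subst hal; simp [h2.2]
        · simp [Equiv.swap_apply_of_ne_of_ne hak hal, h1 a hak hal]
    · rfl
    · rfl

theorem op_mul_op_eq {k l : κ} (hkl : k ≠ l) (A B : Matrix (Fin 3) (Fin 3) F) :
    op k A * op l B = (pairOp hkl (A ⊗ₖ B) : TMat F κ 3) := by
  ext x y
  rw [pairOp_apply, Matrix.kroneckerMap_apply, op_eq_tens k, tens_mul_op, tens_apply]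
  rw [← Finset.mul_prod_erase Finset.univ _ (Finset.mem_univ k),
    ← Finset.mul_prod_erase (Finset.univ.erase k) _ (Finset.mem_erase.2 ⟨hkl.symm, Finset.mem_univ l⟩)]
  rw [Function.update_of_ne hkl, Pi.mulSingle_eq_same, Function.update_self, Pi.mulSingle_eq_of_ne hkl.symm,
    Matrix.one_mul, ← mul_assoc]
  split_ifs with h
  · rw [Finset.prod_eq_one, mul_one]
    intro a ha
    simp only [Finset.mem_erase] at ha
    rw [Function.update_of_ne ha.1, Pi.mulSingle_eq_of_ne ha.2.1, h a ha.2.1 ha.1, Matrix.one_apply_eq]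
  · push Not at h
    obtain ⟨a, h1, h2, h3⟩ := h
    rw [Finset.prod_eq_zero (i := a) (by simp [h1, h2]), mul_zero]
    rw [Function.update_of_ne h2, Pi.mulSingle_eq_of_ne h1, Matrix.one_apply_ne h3]

variable [Fintype F]

/-- A root element conjugate to an exchange is fused by an element outside the stabiliser. -/
theorem exists_centraliser_of_swap {M : Subgroup (GL (κ → Fin m) F)} (hM : Over M) (i : κ) {b β : Fin m → F}
    (hb : b ≠ 0) (hβ : β ≠ 0) (hβb : β ⬝ᵥ b = 0) {r : GL (κ → Fin m) F} (hr : r.1 = 1 + op i (vecMulVec b β))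
    {g : GL (κ → Fin m) F} (hg : g ∈ M) (hs : SwapType (g * r * g⁻¹)) :
    ∃ w ∈ M, w ∉ wreathT F κ m ∧ w * r = r * w := by
  classical
  obtain ⟨hm, h2, k, l, D, hkl, hs⟩ := hs
  subst hm
  by_contra hno
  push Not at hno
  haveI : CharP F 2 := CharTwo.of_one_ne_zero_of_two_eq_zero one_ne_zero h2
  set δ := tensU D with hδ
  -- the diagonal group of the pair
  let pairU : Matrix.SpecialLinearGroup (Fin 3) F →* GL (κ → Fin 3) F :=
    MonoidHom.toHomUnits
      { toFun := fun A => op k A.1 * op l A.1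
        map_one' := by simp
        map_mul' := fun A B => by
          show op k (A.1 * B.1) * op l (A.1 * B.1) = _
          rw [map_mul, map_mul, Matrix.mul_assoc, ← Matrix.mul_assoc (op k B.1), op_comm hkl B.1 A.1]
          simp only [Matrix.mul_assoc] }
  have hpairU : ∀ A, (pairU A).1 = op k A.1 * op l A.1 := fun A => rfl
  let wH : Matrix.SpecialLinearGroup (Fin 3) F →* GL (κ → Fin 3) F :=
    (MulAut.conj (g⁻¹ * δ)).toMonoidHom.comp pairU
  have hwH : ∀ A, wH A = g⁻¹ * (δ * pairU A * δ⁻¹) * g := fun A => by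
    simp [wH, mul_assoc]
  have hswap : ∀ A, pairU A * permU (Equiv.swap k l) = permU (Equiv.swap k l) * pairU A := fun A => by
    refine Units.ext ?_
    rw [Units.val_mul, Units.val_mul, hpairU, permU_coe, ← Matrix.mul_assoc (permM _), permM_mul_op,
      Equiv.swap_apply_left, Matrix.mul_assoc (op l A.1), permM_mul_op, Equiv.swap_apply_right,
      ← Matrix.mul_assoc, op_comm hkl.symm]
  have hmemM : ∀ A, wH A ∈ M := fun A => by
    rw [hwH]
    refine mul_mem (mul_mem (inv_mem hg) (hM.le _ ?_ ?_)) hg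
    · refine mul_mem (mul_mem (tensU_mem D) ?_) (inv_mem (tensU_mem D))
      refine ⟨1, fun a => if a = k ∨ a = l then Matrix.SpecialLinearGroup.toGL A else 1, ?_⟩
      rw [map_one, mul_one]
      refine Units.ext ?_
      rw [hpairU, tensU_coe, op_eq_tens, op_eq_tens, ← map_mul]
      congr 1
      funext a
      by_cases hak : a = k
      · subst hak; simp [hkl]
      · by_cases hal : a = l
        · subst hal; simp [hak]
        · simp [hak, hal]
    · rw [Units.val_mul, Units.val_mul, Matrix.det_units_conj, hpairU, Matrix.det_mul, det_op, det_op, A.2, one_pow,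
        one_pow, mul_one]
  have hcomm : ∀ A, wH A * r = r * wH A := fun A => by
    have h1 : g * r * g⁻¹ * (δ * pairU A * δ⁻¹) = δ * pairU A * δ⁻¹ * (g * r * g⁻¹) := by
      rw [hs]
      simp only [mul_assoc, inv_mul_cancel_left]
      rw [← mul_assoc (permU _), ← hswap]
      simp only [mul_assoc]
    rw [hwH, show g⁻¹ * (δ * pairU A * δ⁻¹) * g * r = g⁻¹ * (δ * pairU A * δ⁻¹ * (g * r * g⁻¹)) * g by group, ← h1]
    group
  have hW : ∀ A, wH A ∈ wreathT F κ 3 := fun A => by
    by_contra hA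
    exact hno _ (hmemM A) hA (hcomm A)
  have hcommN : ∀ A, (wH A).1 * op i (vecMulVec b β) = op i (vecMulVec b β) * (wH A).1 := fun A => by
    have h1 := congrArg Units.val (hcomm A)
    rw [Units.val_mul, Units.val_mul, hr, Matrix.mul_add, Matrix.add_mul, Matrix.mul_one, Matrix.one_mul] at h1
    exact add_left_cancel h1
  -- the split form of `wH A`
  obtain ⟨d, hd⟩ := exists_dot_one hβ
  rw [dotProduct_comm] at hd
  obtain ⟨c, hcβ, hcb⟩ := exists_perp_notMem (n := 3) le_rfl β b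
  obtain ⟨θ, hθb, hθc⟩ := exists_dot hcb
  have hspan : ∀ v, β ⬝ᵥ v = 0 → ∃ s t : F, v = s • c + t • b := fun v hv => by
    have hdim : finrank F (LinearMap.ker (dotProductBilin F F β)) ≤ 2 := by
      have h1 := (dotProductBilin F F β).finrank_range_add_finrank_ker
      have h2 : finrank F (LinearMap.range (dotProductBilin F F β)) = 1 := by
        rw [LinearMap.range_eq_top.2 (LinearMap.surjective fun h0 => by
          have := LinearMap.congr_fun h0 d
          simp [hd] at this), finrank_top, finrank_self]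
      rw [h2, finrank_fin_fun] at h1
      omega
    have hli : LinearIndependent F ![b, c] := (LinearIndependent.pair_iff' hb).2 fun a ha =>
      hcb (ha ▸ Submodule.smul_mem _ a (Submodule.mem_span_singleton_self b))
    have hle : Submodule.span F (Set.range ![b, c]) ≤ LinearMap.ker (dotProductBilin F F β) := by
      rw [Submodule.span_le]
      rintro _ ⟨a, rfl⟩
      fin_cases a
      · exact hβb
      · exact hcβ
    have heq := Submodule.eq_of_le_of_finrank_le hle (by rw [finrank_span_eq_card hli]; simpa using hdim)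
    have hv' : v ∈ Submodule.span F (Set.range ![b, c]) := heq ▸ hv
    rw [Matrix.range_cons, Matrix.range_cons, Matrix.range_empty, Set.union_empty, Set.singleton_union,
      Submodule.mem_span_pair] at hv'
    obtain ⟨t, s, e⟩ := hv'
    exact ⟨s, t, by rw [← e, add_comm]⟩
  -- the elements with trivial action on the graded pieces
  let Good : Subgroup (GL (κ → Fin 3) F) :=
    { carrier := {w | ∃ (C : GL (Fin 3) F) (B : TMat F (Rest i) 3) (ν : F),
        split i w.1 = C.1 ⊗ₖ B ∧ C.1 *ᵥ b = b ∧ C.1 *ᵥ c = c + ν • b}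
      one_mem' := ⟨1, 1, 0, by simp [Matrix.one_kronecker_one], by simp, by simp⟩
      mul_mem' := by
        rintro w w' ⟨C, B, ν, h, hb1, hc1⟩ ⟨C', B', ν', h', hb2, hc2⟩
        refine ⟨C * C', B * B', ν + ν', ?_, ?_, ?_⟩
        · rw [Units.val_mul, map_mul, h, h', ← Matrix.mul_kronecker_mul]; rfl
        · rw [Units.val_mul, ← Matrix.mulVec_mulVec, hb2, hb1]
        · rw [Units.val_mul, ← Matrix.mulVec_mulVec, hc2, Matrix.mulVec_add, Matrix.mulVec_smul, hb1, hc1, add_smul]
          abel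
      inv_mem' := by
        rintro w ⟨C, B, ν, h, hb1, hc1⟩
        obtain ⟨B', hB'⟩ : ∃ B', B' = Matrix.of fun u v => (C.1 ⊗ₖ (1 : TMat F (Rest i) 3) * split i w⁻¹.1) (0, u) (0, v) :=
          ⟨_, rfl⟩
        have hinvb : C⁻¹.1 *ᵥ b = b := by
          conv_lhs => rw [← hb1]
          rw [Matrix.mulVec_mulVec, ← Units.val_mul, inv_mul_cancel, Units.val_one, Matrix.one_mulVec]
        refine ⟨C⁻¹, B', -ν, ?_, hinvb, ?_⟩
        · have h1 : ((1 : Matrix (Fin 3) (Fin 3) F) ⊗ₖ B) * (C.1 ⊗ₖ (1 : TMat F (Rest i) 3) * split i w⁻¹.1) = 1 := by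
            rw [← Matrix.mul_assoc, ← Matrix.mul_kronecker_mul, Matrix.one_mul, Matrix.mul_one, ← h, ← map_mul,
              ← Units.val_mul, mul_inv_cancel, Units.val_one, map_one]
          obtain ⟨B₂, hB₂⟩ : ∃ B₂, B * B₂ = 1 := by
            refine ⟨B', ?_⟩
            ext u v
            have h2 := congrFun (congrFun h1 ((0 : Fin 3), u)) ((0 : Fin 3), v)
            simp only [Matrix.mul_apply, Fintype.sum_prod_type, Matrix.kroneckerMap_apply, Matrix.one_apply,
              Prod.mk.injEq, true_and, ite_mul, one_mul, zero_mul, Finset.sum_ite_irrel, Finset.sum_const_zero,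
              Finset.sum_ite_eq, Finset.mem_univ, if_true] at h2 ⊢
            rw [hB']
            simpa [Matrix.mul_apply, Fintype.sum_prod_type, Matrix.one_apply] using h2
          have h3 : (C⁻¹.1 ⊗ₖ B₂) = split i w⁻¹.1 := by
            have e1 : split i w.1 * (C⁻¹.1 ⊗ₖ B₂) = 1 := by
              rw [h, ← Matrix.mul_kronecker_mul, ← Units.val_mul, mul_inv_cancel, hB₂, Units.val_one,
                Matrix.one_kronecker_one]
            have e2 : split i w⁻¹.1 * split i w.1 = 1 := by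
              rw [← map_mul, ← Units.val_mul, inv_mul_cancel, Units.val_one, map_one]
            rw [← Matrix.one_mul (C⁻¹.1 ⊗ₖ B₂), ← e2, Matrix.mul_assoc, e1, Matrix.mul_one]
          rw [← h3]
          congr 1
          have h4 : C.1 ⊗ₖ (1 : TMat F (Rest i) 3) * split i w⁻¹.1 = (1 : Matrix (Fin 3) (Fin 3) F) ⊗ₖ B₂ := by
            rw [← h3, ← Matrix.mul_kronecker_mul, ← Units.val_mul, mul_inv_cancel, Units.val_one, Matrix.one_mul]
          rw [hB', h4]
          ext u v
          simp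
        · have h1 : C⁻¹.1 *ᵥ (C.1 *ᵥ c) = c := by
            rw [Matrix.mulVec_mulVec, ← Units.val_mul, inv_mul_cancel, Units.val_one, Matrix.one_mulVec]
          rw [hc1, Matrix.mulVec_add, Matrix.mulVec_smul, hinvb] at h1
          rw [neg_smul, ← sub_eq_add_neg, eq_sub_iff_add_eq]
          exact h1 }
  have hform : ∀ A, ∃ (C : GL (Fin 3) F) (B : TMat F (Rest i) 3) (lam μ ν : F),
      split i (wH A).1 = C.1 ⊗ₖ B ∧ C.1 *ᵥ b = lam • b ∧ C.1 *ᵥ c = μ • c + ν • b := fun A => by
    obtain ⟨C, B, h, hC⟩ := split_of_comm_root le_rfl i hb hβ (hW A) (hcommN A)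
    have h1 := congrArg (· *ᵥ d) hC
    simp only [← Matrix.mulVec_mulVec, vecMulVec_mulVec, op_smul_eq_smul, hd, one_smul, Matrix.mulVec_smul] at h1
    have h2 := congrArg (· *ᵥ c) hC
    simp only [← Matrix.mulVec_mulVec, vecMulVec_mulVec, op_smul_eq_smul, hcβ, zero_smul, Matrix.mulVec_zero] at h2
    obtain ⟨s, t, hst⟩ := hspan _ ((smul_eq_zero.1 h2.symm).resolve_right hb)
    exact ⟨C, B, _, s, t, h, h1, hst⟩
  have hgood : ∀ A, wH A ∈ Good := by
    have hle : commutator (Matrix.SpecialLinearGroup (Fin 3) F) ≤ Good.comap wH := by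
      rw [commutator_def, Subgroup.commutator_le]
      intro A₁ _ A₂ _
      show wH ⁅A₁, A₂⁆ ∈ Good
      rw [map_commutatorElement]
      obtain ⟨C₁, B₁, l₁, μ₁, ν₁, h₁, hb₁, hc₁⟩ := hform A₁
      obtain ⟨C₂, B₂, l₂, μ₂, ν₂, h₂, hb₂, hc₂⟩ := hform A₂
      obtain ⟨C₁', B₁', l₁', μ₁', ν₁', h₁', hb₁', hc₁'⟩ := hform A₁⁻¹
      obtain ⟨C₂', B₂', l₂', μ₂', ν₂', h₂', hb₂', hc₂'⟩ := hform A₂⁻¹
      rw [map_inv] at h₁' h₂'
      have inv_data : ∀ {w : GL (κ → Fin 3) F} {C C' : GL (Fin 3) F} {B B' : TMat F (Rest i) 3} {l l' μ μ' ν ν' : F},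
          split i w.1 = C.1 ⊗ₖ B → split i w⁻¹.1 = C'.1 ⊗ₖ B' → C.1 *ᵥ b = l • b → C'.1 *ᵥ b = l' • b →
          C.1 *ᵥ c = μ • c + ν • b → C'.1 *ᵥ c = μ' • c + ν' • b →
          ∃ s : F, s ≠ 0 ∧ l * l' = s ∧ μ * μ' = s := by
        intro w C C' B B' l l' μ μ' ν ν' h h' hbe hbe' hce hce'
        have h1 : (C.1 * C'.1) ⊗ₖ (B * B') = (1 : Matrix (Fin 3 × (Rest i → Fin 3)) (Fin 3 × (Rest i → Fin 3)) F) := by
          rw [Matrix.mul_kronecker_mul, ← h, ← h', ← map_mul, ← Units.val_mul, mul_inv_cancel, Units.val_one, map_one]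
        obtain ⟨z⟩ : Nonempty (Rest i → Fin 3) := ⟨fun _ => 0⟩
        set t := (B * B') z z
        have h2 : t • (C.1 * C'.1) = 1 := by
          ext x y
          have := congrFun (congrFun h1 (x, z)) (y, z)
          rw [Matrix.kroneckerMap_apply] at this
          rw [Matrix.smul_apply, smul_eq_mul, mul_comm, this]
          simp [Matrix.one_apply]
        have ht : t ≠ 0 := by
          intro ht
          rw [ht, zero_smul] at h2
          exact zero_ne_one (congrFun (congrFun h2 0) 0)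
        refine ⟨t⁻¹, inv_ne_zero ht, ?_, ?_⟩
        · have h3 := congrArg (· *ᵥ b) h2
          simp only [Matrix.smul_mulVec, ← Matrix.mulVec_mulVec, hbe', Matrix.mulVec_smul, hbe, smul_smul,
            Matrix.one_mulVec] at h3
          have h4 : (t * (l' * l) - 1) • b = 0 := by rw [sub_smul, one_smul, h3, sub_self]
          refine eq_inv_of_mul_eq_one_left ?_
          linear_combination (smul_eq_zero.1 h4).resolve_right hb
        · have h3 := congrArg (θ ⬝ᵥ ·) (congrArg (· *ᵥ c) h2)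
          simp only [Matrix.smul_mulVec, ← Matrix.mulVec_mulVec, hce', Matrix.mulVec_add, Matrix.mulVec_smul, hbe, hce,
            dotProduct_smul, dotProduct_add, hθb, hθc, smul_eq_mul, mul_zero, add_zero, mul_one,
            Matrix.one_mulVec] at h3
          refine eq_inv_of_mul_eq_one_left ?_
          linear_combination h3
      obtain ⟨s₁, hs₁, e₁, e₁'⟩ := inv_data h₁ h₁' hb₁ hb₁' hc₁ hc₁'
      obtain ⟨s₂, hs₂, e₂, e₂'⟩ := inv_data h₂ h₂' hb₂ hb₂' hc₂ hc₂'
      set s := s₁ * s₂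
      have hs : s ≠ 0 := mul_ne_zero hs₁ hs₂
      let Cc : GL (Fin 3) F := GeneralLinearGroup.mkOfDetNeZero (s⁻¹ • (C₁.1 * C₂.1 * C₁'.1 * C₂'.1)) (by
        rw [Matrix.det_smul, Matrix.det_mul, Matrix.det_mul, Matrix.det_mul]
        have hne : ∀ C : GL (Fin 3) F, det C.1 ≠ 0 := fun C => ((Matrix.isUnit_iff_isUnit_det _).1 C.isUnit).ne_zero
        exact mul_ne_zero (pow_ne_zero _ (inv_ne_zero hs))
          (mul_ne_zero (mul_ne_zero (mul_ne_zero (hne _) (hne _)) (hne _)) (hne _)))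
      refine ⟨Cc, s • (B₁ * B₂ * B₁' * B₂'), s⁻¹ * (l₁ * (l₂ * (l₁' * ν₂')) + l₁ * (l₂ * (ν₁' * μ₂')) +
        l₁ * (ν₂ * (μ₁' * μ₂')) + ν₁ * (μ₂ * (μ₁' * μ₂'))), ?_, ?_, ?_⟩
      · rw [commutatorElement_def, Units.val_mul, Units.val_mul, Units.val_mul, map_mul, map_mul, map_mul, h₁, h₂,
          h₁', h₂', ← Matrix.mul_kronecker_mul, ← Matrix.mul_kronecker_mul, ← Matrix.mul_kronecker_mul]
        show _ = (s⁻¹ • (C₁.1 * C₂.1 * C₁'.1 * C₂'.1)) ⊗ₖ _
        rw [Matrix.smul_kronecker, Matrix.kronecker_smul, smul_smul, inv_mul_cancel₀ hs, one_smul]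
      · show (s⁻¹ • (C₁.1 * C₂.1 * C₁'.1 * C₂'.1)) *ᵥ b = b
        simp only [Matrix.smul_mulVec, ← Matrix.mulVec_mulVec, hb₂', Matrix.mulVec_smul, hb₁', hb₂, hb₁, smul_smul]
        rw [show s⁻¹ * (l₂' * (l₁' * (l₂ * l₁))) = s⁻¹ * ((l₁ * l₁') * (l₂ * l₂')) by ring, e₁, e₂,
          inv_mul_cancel₀ hs, one_smul]
      · show (s⁻¹ • (C₁.1 * C₂.1 * C₁'.1 * C₂'.1)) *ᵥ c = _
        simp only [Matrix.smul_mulVec, ← Matrix.mulVec_mulVec, hc₂', Matrix.mulVec_add, Matrix.mulVec_smul, hb₁',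
          hc₁', hb₂, hc₂, hb₁, hc₁, smul_add, smul_smul]
        match_scalars
        · rw [show s⁻¹ * (μ₂' * (μ₁' * (μ₂ * μ₁))) = s⁻¹ * ((μ₁ * μ₁') * (μ₂ * μ₂')) by ring, e₁', e₂',
            inv_mul_cancel₀ hs, one_mul]
        · ring
    rw [sl_perfect (by simp), top_le_iff] at hle
    intro A
    exact (hle ▸ Subgroup.mem_top A : A ∈ Good.comap wH)
  -- the companion matrix
  let φ := ZMod.castHom (dvd_refl 2) F
  let A₀ : Matrix.SpecialLinearGroup (Fin 3) F := ⟨compTwo.map φ, by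
    have := (RingHom.map_det φ compTwo).symm
    rw [compTwo_det, map_one] at this
    exact this⟩
  set w := wH A₀ with hw
  obtain ⟨C, B, ν, hsplit, hCb, hCc⟩ := hgood A₀
  let Ω : Matrix (Fin 3 × Fin 3) (Fin 3 × Fin 3) (ZMod 2) →+* TMat F κ 3 :=
    (pairOp hkl).comp φ.mapMatrix
  let Γ : TMat F κ 3 →+* TMat F κ 3 :=
    { toFun := fun X => (g⁻¹ * δ).1 * X * (g⁻¹ * δ)⁻¹.1
      map_one' := by rw [Matrix.mul_one, ← Units.val_mul, mul_inv_cancel, Units.val_one]
      map_mul' := fun X Y => by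
        rw [show (g⁻¹ * δ).1 * X * (g⁻¹ * δ)⁻¹.1 * ((g⁻¹ * δ).1 * Y * (g⁻¹ * δ)⁻¹.1) =
          (g⁻¹ * δ).1 * X * ((g⁻¹ * δ)⁻¹.1 * (g⁻¹ * δ).1) * Y * (g⁻¹ * δ)⁻¹.1 by simp only [Matrix.mul_assoc],
          ← Units.val_mul, inv_mul_cancel, Units.val_one, Matrix.mul_one]
        simp only [Matrix.mul_assoc]
      map_zero' := by simp
      map_add' := fun X Y => by rw [Matrix.mul_add, Matrix.add_mul] }
  have hu : Γ (Ω (compTwo ⊗ₖ compTwo)) = w.1 := by
    have h1 : Ω (compTwo ⊗ₖ compTwo) = (pairU A₀).1 := by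
      rw [hpairU, op_mul_op_eq hkl]
      show pairOp hkl ((compTwo ⊗ₖ compTwo).map φ) = _
      congr 1
      ext p q
      simp [A₀, Matrix.kroneckerMap_apply]
    rw [h1, hw, show wH A₀ = (g⁻¹ * δ) * pairU A₀ * (g⁻¹ * δ)⁻¹ from rfl, Units.val_mul, Units.val_mul]
    rfl
  have hneg : ∀ X : TMat F κ 3, -X = X := fun X => by
    ext x y
    rw [Matrix.neg_apply]
    exact CharTwo.neg_eq (X x y)
  have hN : Γ (Ω (pairSwap + 1)) = op i (vecMulVec b β) := by
    rw [map_add, map_one, map_add, map_one]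
    have h1 : Ω pairSwap = (permU (Equiv.swap k l) : GL (κ → Fin 3) F).1 := by
      rw [permU_coe, permM_swap_eq hkl]
      show pairOp hkl (pairSwap.map φ) = _
      congr 1
      ext p q
      simp only [Matrix.map_apply, pairSwap, Matrix.of_apply]
      split_ifs <;> simp
    have h2 : r = (g⁻¹ * δ) * permU (Equiv.swap k l) * (g⁻¹ * δ)⁻¹ := by
      rw [show (g⁻¹ * δ) * permU (Equiv.swap k l) * (g⁻¹ * δ)⁻¹ = g⁻¹ * (δ * permU (Equiv.swap k l) * δ⁻¹) * g by group,
        ← hs]
      group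
    have h3 : Γ (Ω pairSwap) = r.1 := by
      rw [h1, h2, Units.val_mul, Units.val_mul]; rfl
    rw [h3, hr]
    calc 1 + op i (vecMulVec b β) + 1 = op i (vecMulVec b β) + (1 + 1) := by abel
      _ = op i (vecMulVec b β) := by
        nth_rewrite 2 [← hneg 1]
        rw [add_neg_cancel, add_zero]
  have hF := congrArg (fun X => Γ (Ω X)) pair_identity_range
  have hG := congrArg (fun X => Γ (Ω X)) pair_identity_ker
  simp only [map_add, map_mul, map_one, map_zero] at hF hG
  simp only [map_add, map_one] at hN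
  rw [hu] at hF hG
  rw [hN] at hF hG
  set X := Γ (Ω cofZ)
  set R := Γ (Ω cofR)
  -- the two polynomials in `B`
  have hCb' : ∀ v : Fin 3 → F, C.1 * vecMulVec b v = vecMulVec b v := fun v => by
    rw [Matrix.mul_vecMulVec, hCb]
  have hpow : ∀ v : Fin 3 → F,
      split i w.1 * (vecMulVec b v ⊗ₖ (1 : TMat F (Rest i) 3)) = vecMulVec b v ⊗ₖ B := fun v => by
    rw [hsplit, ← Matrix.mul_kronecker_mul, hCb', Matrix.mul_one]
  have hB2 : ∀ v : Fin 3 → F,
      split i w.1 * split i w.1 * (vecMulVec b v ⊗ₖ (1 : TMat F (Rest i) 3)) = vecMulVec b v ⊗ₖ (B * B) ∧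
      split i w.1 * split i w.1 * split i w.1 * (vecMulVec b v ⊗ₖ (1 : TMat F (Rest i) 3)) =
        vecMulVec b v ⊗ₖ (B * B * B) := fun v => by
    refine ⟨?_, ?_⟩
    · rw [Matrix.mul_assoc, hpow, hsplit, ← Matrix.mul_kronecker_mul, hCb']
    · rw [Matrix.mul_assoc, hpow, hsplit, ← Matrix.mul_kronecker_mul, ← Matrix.mul_kronecker_mul, Matrix.mul_assoc,
        hCb', hCb', Matrix.mul_assoc B B B]
  have hfB : B * B * B + B * B + 1 = 0 := by
    have h1 := congrArg (fun Y => split i Y * (vecMulVec d θ ⊗ₖ (1 : TMat F (Rest i) 3))) hF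
    simp only [map_add, map_mul, map_one, map_zero, Matrix.zero_mul, split_op_self] at h1
    rw [Matrix.mul_assoc, ← Matrix.mul_kronecker_mul, vecMulVec_mul_vecMulVec, hd, one_smul, Matrix.mul_one,
      Matrix.add_mul, Matrix.add_mul, (hB2 θ).2, (hB2 θ).1, Matrix.one_mul, ← Matrix.kronecker_add,
      ← Matrix.kronecker_add] at h1
    ext u v
    obtain ⟨a, ha⟩ := Function.ne_iff.1 hb
    obtain ⟨a', ha'⟩ := Function.ne_iff.1 (show θ ≠ 0 from fun e => by simp [e] at hθc)
    have := congrFun (congrFun h1 (a, u)) (a', v)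
    rw [Matrix.kroneckerMap_apply, vecMulVec_apply, Matrix.zero_apply] at this
    exact (mul_eq_zero.1 this).resolve_left (mul_ne_zero ha ha')
  have hgB : B * B * B + B + 1 = 0 := by
    have h1 := congrArg (fun Y => (vecMulVec c θ ⊗ₖ (1 : TMat F (Rest i) 3)) * (split i Y *
      (vecMulVec c θ ⊗ₖ (1 : TMat F (Rest i) 3)))) hG
    simp only [map_add, map_mul, map_one, split_op_self] at h1
    have hz1 : (vecMulVec b β ⊗ₖ (1 : TMat F (Rest i) 3)) * (vecMulVec c θ ⊗ₖ (1 : TMat F (Rest i) 3)) = 0 := by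
      rw [← Matrix.mul_kronecker_mul, vecMulVec_mul_vecMulVec, hcβ, zero_smul, vecMulVec_zero, Matrix.zero_kronecker]
    have hz2 : (vecMulVec c θ ⊗ₖ (1 : TMat F (Rest i) 3)) * (vecMulVec b β ⊗ₖ (1 : TMat F (Rest i) 3)) = 0 := by
      rw [← Matrix.mul_kronecker_mul, vecMulVec_mul_vecMulVec, hθb, zero_smul, vecMulVec_zero, Matrix.zero_kronecker]
    simp only [Matrix.add_mul, Matrix.mul_add, Matrix.mul_assoc, hz1, Matrix.mul_zero, add_zero] at h1
    rw [← Matrix.mul_assoc (vecMulVec c θ ⊗ₖ _) (vecMulVec b β ⊗ₖ _), hz2, Matrix.zero_mul] at h1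
    have hθC : θ ᵥ* C.1 ⬝ᵥ c = 1 := by
      rw [← dotProduct_mulVec, hCc, dotProduct_add, dotProduct_smul, hθb, hθc, smul_zero, add_zero]
    have hθn : ∀ n : ℕ, θ ⬝ᵥ ((C.1 ^ n) *ᵥ c) = 1 := fun n => by
      suffices h : ∃ t : F, (C.1 ^ n) *ᵥ c = c + t • b by
        obtain ⟨t, ht⟩ := h
        rw [ht, dotProduct_add, dotProduct_smul, hθb, hθc, smul_zero, add_zero]
      induction n with
      | zero => exact ⟨0, by simp⟩
      | succ n ih =>
        obtain ⟨t, ht⟩ := ih
        refine ⟨ν + t, ?_⟩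
        rw [pow_succ', ← Matrix.mulVec_mulVec, ht, Matrix.mulVec_add, Matrix.mulVec_smul, hCb, hCc, add_smul]
        abel
    have key : ∀ n : ℕ, (vecMulVec c θ ⊗ₖ (1 : TMat F (Rest i) 3)) *
        ((C.1 ^ n) ⊗ₖ (B ^ n) * (vecMulVec c θ ⊗ₖ (1 : TMat F (Rest i) 3))) = vecMulVec c θ ⊗ₖ (B ^ n) := fun n => by
      rw [← Matrix.mul_kronecker_mul, ← Matrix.mul_kronecker_mul, Matrix.mul_vecMulVec, vecMulVec_mul_vecMulVec,
        hθn, one_smul, Matrix.one_mul, Matrix.mul_one]
    have k1 := key 1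
    have k3 := key 3
    have k0 := key 0
    simp only [pow_zero, pow_one, Matrix.one_kronecker_one] at k1 k0
    rw [show (C.1 ^ 3) ⊗ₖ (B ^ 3) = split i w.1 * split i w.1 * split i w.1 by
      rw [hsplit, ← Matrix.mul_kronecker_mul, ← Matrix.mul_kronecker_mul]; simp [pow_succ]] at k3
    rw [← hsplit] at k1
    simp only [Matrix.mul_assoc] at k3
    rw [Matrix.one_mul] at k0
    simp only [Matrix.one_mul] at h1
    rw [k3, k1, k0, ← Matrix.kronecker_add, ← Matrix.kronecker_add] at h1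
    ext u v
    obtain ⟨a, ha⟩ := Function.ne_iff.1 (show c ≠ 0 from fun e => hcb (e ▸ Submodule.zero_mem _))
    obtain ⟨a', ha'⟩ := Function.ne_iff.1 (show θ ≠ 0 from fun e => by simp [e] at hθc)
    have := congrFun (congrFun h1 (a, u)) (a', v)
    rw [Matrix.kroneckerMap_apply, vecMulVec_apply, Matrix.zero_apply] at this
    rw [show B * B * B = B ^ 3 by simp [pow_succ]]
    exact (mul_eq_zero.1 this).resolve_left (mul_ne_zero ha ha')
  have hnegB : ∀ X : TMat F (Rest i) 3, X + X = 0 := fun X => by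
    ext x y
    exact CharTwo.add_self_eq_zero (X x y)
  have hBB : B * B = B := by
    have : (B * B * B + B * B + 1) - (B * B * B + B + 1) = 0 := by rw [hfB, hgB, sub_zero]
    rw [← sub_eq_zero, ← this]
    abel
  rw [hBB, hBB, hnegB, zero_add] at hfB
  exact one_ne_zero hfB

end CfsgLib.Classical.WreathMax
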